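import Mathlib
import Cfsg.Agent.H11.ElDefs

/-!
# Subgroups of order `p q` of a semiregular automorphism group are cyclic
-/

set_option autoImplicit false

namespace Cfsg.Agent.H23.ElPQ

open Subgroup Cfsg.Agent.H11.EL

universe u

theorem geom_eq_zero {U R : Type*} [Group U] [Ring R] (ρ : U →* R)
    (h : ∀ g : U, g ≠ 1 → ∀ r : R, (ρ g - 1) * r = 0 → r = 0) {g : U} (hg : g ≠ 1) {n : ℕ}
    (hn : g ^ n = 1) : ∑ i ∈ Finset.range n, ρ (g ^ i) = 0 := by
  refine h g hg _ ?_
  simp only [map_pow]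
  rw [mul_geom_sum, ← map_pow, hn, map_one, sub_self]

theorem sum_eq_zero {U R : Type*} [Group U] [Ring R] (ρ : U →* R)
    (h : ∀ g : U, g ≠ 1 → ∀ r : R, (ρ g - 1) * r = 0 → r = 0) (Q : Subgroup U) [Fintype Q]
    {y : U} (hy : y ∈ Q) (hy1 : y ≠ 1) : ∑ z : Q, ρ z = 0 := by
  refine h y hy1 _ ?_
  rw [sub_mul, one_mul, Finset.mul_sum, sub_eq_zero]
  refine Fintype.sum_equiv (Equiv.mulLeft (⟨y, hy⟩ : Q)) _ _ fun z => ?_
  rw [← map_mul]; rfl

theorem cyc_le {U R : Type*} [Group U] [Finite U] [Ring R] [Nontrivial R] (ρ : U →* R)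
    (h : ∀ g : U, g ≠ 1 → ∀ r : R, (ρ g - 1) * r = 0 → r = 0) {p q : ℕ} (hp : p.Prime)
    (hq : q.Prime) (hle : p ≤ q) (hU : Nat.card U = p * q) : IsCyclic U := by
  classical
  by_contra hc
  haveI := Fact.mk hp
  haveI := Fact.mk hq
  obtain ⟨y, hy⟩ := exists_prime_orderOf_dvd_card' (G := U) q (hU ▸ Dvd.intro_left p rfl)
  have hy1 : y ≠ 1 := by
    rintro rfl
    exact hq.one_lt.ne (by rw [← hy, orderOf_one])
  set Q := zpowers y with hQ
  have hcQ : Nat.card Q = q := by rw [hQ, Nat.card_zpowers, hy]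
  have hi : Q.index = p := by
    have := Q.index_mul_card
    rw [hcQ, hU] at this
    exact Nat.eq_of_mul_eq_mul_right hq.pos this
  haveI hN : Q.Normal := by
    refine Subgroup.normal_of_index_eq_minFac_card ?_
    rw [hi, hU]
    refine le_antisymm ?_ (Nat.minFac_le_of_dvd hp.two_le (Dvd.intro q rfl))
    have h1 := Nat.minFac_prime (n := p * q) (by
      have := hp.two_le; have := hq.two_le; nlinarith)
    rcases (Nat.Prime.dvd_mul h1).1 (Nat.minFac_dvd _) with h2 | h2
    · exact ((Nat.prime_dvd_prime_iff_eq h1 hp).1 h2).ge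
    · exact hle.trans ((Nat.prime_dvd_prime_iff_eq h1 hq).1 h2).ge
  have hout : ∀ g : U, g ∉ Q → orderOf g = p := fun g hg => by
    have h1 : orderOf (g : U ⧸ Q) = p := by
      have h2 := orderOf_dvd_natCard (g : U ⧸ Q)
      rw [← Subgroup.index, hi] at h2
      refine ((Nat.dvd_prime hp).1 h2).resolve_left fun h3 => hg ?_
      exact (QuotientGroup.eq_one_iff g).1 (orderOf_eq_one_iff.1 h3)
    obtain ⟨d, hd⟩ : p ∣ orderOf g := h1 ▸ orderOf_map_dvd (QuotientGroup.mk' Q) g
    have h2 := orderOf_dvd_natCard g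
    rw [hU, hd] at h2
    rcases (Nat.dvd_prime hq).1 (Nat.dvd_of_mul_dvd_mul_left hp.pos h2) with rfl | rfl
    · rw [hd, mul_one]
    · exact absurd (isCyclic_of_orderOf_eq_card g (hd.trans hU.symm)) hc
  obtain ⟨g, hg⟩ : ∃ g : U, g ∉ Q := by
    by_contra h1
    push Not at h1
    have h2 : Q = ⊤ := (Subgroup.eq_top_iff' Q).2 h1
    rw [h2, Subgroup.index_top] at hi
    exact hp.one_lt.ne hi
  haveI := Fintype.ofFinite Q
  have hgz : ∀ z : Q, g * z ∉ Q := fun z h1 => hg ((Q.mul_mem_cancel_right z.2).1 h1)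
  have h1 : ∑ z : Q, ∑ i ∈ Finset.range p, ρ ((g * z) ^ i) = 0 :=
    Finset.sum_eq_zero fun z _ => geom_eq_zero ρ h (g := g * z) (fun h1 => hgz z (by rw [h1]; exact Q.one_mem))
      (by rw [← hout _ (hgz z), pow_orderOf_eq_one])
  have h2 : ∀ i ∈ Finset.range p, i ≠ 0 → ∑ z : Q, ρ ((g * z) ^ i) = 0 := fun i hi hi0 => by
    have hm : ∀ z : Q, (g ^ i)⁻¹ * (g * z) ^ i ∈ Q := fun z => by
      rw [← QuotientGroup.eq, QuotientGroup.mk_pow, QuotientGroup.mk_pow,
        QuotientGroup.mk_mul_of_mem g z.2]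
    let F : Q → Q := fun z => ⟨_, hm z⟩
    have hF : Function.Injective F := fun z z' hz => by
      have h3 : (g * z) ^ i = (g * z') ^ i := mul_left_cancel (congrArg Subtype.val hz)
      have hco : i.Coprime p :=
        (Nat.coprime_of_lt_prime hi0 (Finset.mem_range.1 hi) hp).symm
      obtain ⟨m, -, hm⟩ := Nat.exists_mul_mod_eq_one_of_coprime hco hp.one_lt
      have h4 : ∀ x : U, x ∉ Q → (x ^ i) ^ m = x := fun x hx => by
        rw [← pow_mul, ← pow_mod_orderOf, hout x hx, hm, pow_one]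
      have h5 := h4 _ (hgz z)
      rw [h3, h4 _ (hgz z')] at h5
      exact Subtype.ext (mul_left_cancel h5).symm
    have h3 := sum_eq_zero ρ h Q (mem_zpowers y) hy1
    rw [← (Finite.injective_iff_bijective.1 hF).sum_comp fun z : Q => ρ z] at h3
    have h4 := congrArg (ρ (g ^ i) * ·) h3
    simp only [Finset.mul_sum, mul_zero, ← map_mul, F, mul_inv_cancel_left] at h4
    exact h4
  rw [Finset.sum_comm, Finset.sum_eq_single 0 h2 (fun h3 => absurd (Finset.mem_range.2 hp.pos) h3)]
    at h1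
  simp only [pow_zero, map_one, Finset.sum_const, Finset.card_univ, nsmul_eq_mul, mul_one] at h1
  rw [← Nat.card_eq_fintype_card, hcQ] at h1
  obtain ⟨r, hr⟩ := (Commute.one_right (ρ y - 1)).exists_add_pow_prime_eq hq
  rw [h1, sub_add_cancel, ← map_pow, ← hy, pow_orderOf_eq_one, map_one] at hr
  have h3 : (ρ y - 1) ^ orderOf y = 0 := by simpa using hr
  have h4 : ∀ n : ℕ, (ρ y - 1) ^ n ≠ 0 := fun n => by
    induction n with
    | zero => simp
    | succ n ih => exact fun h5 => ih (h y hy1 _ (by rw [← pow_succ', h5]))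
  exact h4 _ h3

theorem cyc {U V : Type*} [Group U] [Finite U] [CommGroup V] [Nontrivial V] (φ : U →* Monoid.End V)
    (h : ∀ g : U, g ≠ 1 → ∀ v : V, φ g v = v → v = 1) {p q : ℕ} (hp : p.Prime)
    (hq : q.Prime) (hU : Nat.card U = p * q) : IsCyclic U := by
  let ρ : U →* AddMonoid.End (Additive V) :=
    { toFun := fun g => MonoidHom.toAdditive (φ g)
      map_one' := by rw [map_one]; rfl
      map_mul' := fun g k => by rw [map_mul]; rfl }
  haveI : Nontrivial (AddMonoid.End (Additive V)) := by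
    obtain ⟨v, hv⟩ := exists_ne (0 : Additive V)
    exact ⟨1, 0, fun h1 => hv (DFunLike.congr_fun h1 v)⟩
  have h1 : ∀ g : U, g ≠ 1 → ∀ r, (ρ g - 1) * r = 0 → r = 0 := fun g hg r hr => by
    refine AddMonoidHom.ext fun v => ?_
    have h2 : ρ g (r v) - r v = 0 := DFunLike.congr_fun hr v
    have h3 : ρ g (r v) = r v := sub_eq_zero.1 h2
    exact h g hg (Additive.toMul (r v)) h3
  rcases le_total p q with h2 | h2
  · exact cyc_le ρ h1 hp hq h2 hU
  · exact cyc_le ρ h1 hq hp h2 (hU.trans (mul_comm _ _))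

theorem pq : PQStmt.{u} := by
  intro G _ _ E A W hAW hne hWA hEA hEW hab hF p q hp hq U hU hc
  haveI hN : (A.subgroupOf W).Normal := (normal_subgroupOf_iff_le_normalizer hAW).2 hWA
  letI : CommGroup (W ⧸ A.subgroupOf W) :=
    { (inferInstance : Group (W ⧸ A.subgroupOf W)) with
      mul_comm := fun a b => by
        induction a using QuotientGroup.induction_on with | H a => ?_
        induction b using QuotientGroup.induction_on with | H b => ?_
        rw [← QuotientGroup.mk_mul, ← QuotientGroup.mk_mul, QuotientGroup.eq, mem_subgroupOf]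
        have := hab _ (W.inv_mem b.2) _ (W.inv_mem a.2)
        simpa [mul_assoc] using this }
  haveI : Nontrivial (W ⧸ A.subgroupOf W) := by
    obtain ⟨w, hw, hwA⟩ := SetLike.exists_of_lt (lt_of_le_of_ne hAW hne)
    exact ⟨((⟨w, hw⟩ : W) : W ⧸ A.subgroupOf W), 1,
      fun h => hwA ((QuotientGroup.eq_one_iff (N := A.subgroupOf W) (⟨w, hw⟩ : W)).1 h)⟩
  let c : U → W →* W := fun g =>
    { toFun := fun w => ⟨g * w * (g : G)⁻¹, (mem_normalizer_iff.1 (hEW (hU g.2)) w).1 w.2⟩
      map_one' := Subtype.ext (by simp)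
      map_mul' := fun a b => Subtype.ext (by simp [mul_assoc]) }
  have hc' : ∀ g : U, A.subgroupOf W ≤ (A.subgroupOf W).comap (c g) := fun g w hw =>
    (mem_normalizer_iff.1 (hEA (hU g.2)) w).1 hw
  let φ : U →* Monoid.End (W ⧸ A.subgroupOf W) :=
    { toFun := fun g => QuotientGroup.map _ _ (c g) (hc' g)
      map_one' := MonoidHom.ext fun v => by
        induction v using QuotientGroup.induction_on with | H v => ?_
        exact congrArg QuotientGroup.mk (Subtype.ext (by simp [c]))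
      map_mul' := fun g k => MonoidHom.ext fun v => by
        induction v using QuotientGroup.induction_on with | H v => ?_
        exact congrArg QuotientGroup.mk (Subtype.ext (by simp [c, mul_assoc])) }
  refine cyc φ (fun g hg v hv => ?_) hp hq hc
  induction v using QuotientGroup.induction_on with | H v => ?_
  have h1 : ((c g v : W) : W ⧸ A.subgroupOf W) = v := hv
  rw [← mul_inv_eq_one, ← QuotientGroup.mk_inv, ← QuotientGroup.mk_mul,
    QuotientGroup.eq_one_iff] at h1
  exact (QuotientGroup.eq_one_iff _).2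
    (hF g (hU g.2) (fun h2 => hg (Subtype.ext h2)) v v.2 h1)

end Cfsg.Agent.H23.ElPQ
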