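import Mathlib
import Cfsg.Agent.H23.Over
import Cfsg.Agent.H12.Triple
import Cfsg.Agent.H72.DetExt
import Cfsg.Agent.H19.GaloisBlock

/-!
Counting consequences of the Glauberman bijection and of the extension theorem.
-/

set_option autoImplicit false

namespace Cfsg.Agent.H23

open Cfsg Subgroup

variable {Γ : Type*} [Group Γ]

theorem mem_inf_centralizer_iff (G S : Subgroup Γ) (g : Γ) :
    g ∈ G ⊓ centralizer (S : Set Γ) ↔ g ∈ G ∧ ∀ x ∈ S, x * g * x⁻¹ * g⁻¹ ∈ (⊥ : Subgroup Γ) := by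
  rw [mem_inf, mem_centralizer_iff]
  refine and_congr_right fun _ => forall₂_congr fun x _ => ?_
  rw [mem_bot, mul_inv_eq_one, mul_inv_eq_iff_eq_mul]

theorem invBy_of_le_centralizer {C S : Subgroup Γ} (h : C ≤ centralizer (S : Set Γ))
    (β : C → ℂ) : InvBy C S β := fun s hs =>
  invEl_of_centralizes β fun g hg => by
    rw [mul_inv_eq_iff_eq_mul]; exact h hg s hs

/-- The Glauberman bijection for a solvable group acting coprimely. -/
theorem exists_glauberman_equiv [Finite Γ] {G S : Subgroup Γ} (hSG : S ≤ normalizer (G : Set Γ))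
    (hcop : (Nat.card G).Coprime (Nat.card S)) (hsolv : Group.IsSolvable S) :
    ∃ f : {χ : IrrCharacter G // InvBy G S χ.1} ≃ IrrCharacter ↥(G ⊓ centralizer (S : Set Γ)),
      ∀ χ, mult inf_le_left χ.1 (f χ) ≠ 0 := by
  obtain ⟨f, hf⟩ := exists_equiv_of_solvMod (N := ⊥) (S := S) le_normalizer_of_normal
    (m := Nat.card S) (fun s hs => by rw [H4.pow_card_eq_one_of_mem hs]; exact one_mem _)
    (solvMod_of_isSolvable _ hsolv) bot_le le_normalizer_of_normal hSG
    (by rw [relIndex_bot_left]; exact hcop.symm) (mem_inf_centralizer_iff G S) inf_le_left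
  exact ⟨f.trans (Equiv.subtypeUnivEquiv fun ξ => invBy_of_le_centralizer inf_le_right ξ.1), hf⟩

theorem card_inv_eq_card_irr [Finite Γ] {G S : Subgroup Γ} (hSG : S ≤ normalizer (G : Set Γ))
    (hcop : (Nat.card G).Coprime (Nat.card S)) (hsolv : Group.IsSolvable S) :
    Nat.card {χ : IrrCharacter G // InvBy G S χ.1} =
      Nat.card (IrrCharacter ↥(G ⊓ centralizer (S : Set Γ))) := by
  obtain ⟨f, -⟩ := exists_glauberman_equiv hSG hcop hsolv
  exact Nat.card_congr f

theorem invBy_top_iff {K : Subgroup Γ} [hK : K.Normal] {θ : K → ℂ} :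
    InvBy K ⊤ θ ↔ ∀ (g : Γ) (n : K), θ ⟨g * n * g⁻¹, hK.conj_mem (n : Γ) n.2 g⟩ = θ n :=
  ⟨fun h g n => h g (mem_top g) n _ rfl, fun h s _ g g' e => by
    rw [← h s g]; exact congrArg θ (Subtype.ext e)⟩

theorem invBy_top_iff_of_sup {K H : Subgroup Γ} [K.Normal] (h : K ⊔ H = ⊤) {θ : K → ℂ}
    (hθ : IsClassFunction K θ) : InvBy K ⊤ θ ↔ InvBy K H θ :=
  ⟨fun a => a.mono le_top, fun a => h ▸ (invBy_self hθ).sup le_normalizer_of_normal
    le_normalizer_of_normal a⟩

/-- Characters of degree prime to the index of a normal Hall subgroup. -/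
theorem card_coprime_degree [Finite Γ] (K : Subgroup Γ) [K.Normal]
    (hcop : (Nat.card K).Coprime K.index) :
    Nat.card {χ : IrrCharacter Γ // (charDegree χ.1).Coprime K.index} =
      Nat.card {θ : IrrCharacter K // InvBy K ⊤ θ.1} * Nat.card (Γ ⧸ K →* ℂˣ) := by
  have hext : ∀ θ : {θ : IrrCharacter K // InvBy K ⊤ θ.1},
      ∃ χ : IrrCharacter Γ, ∀ n : K, χ.1 n = θ.1.1 n := fun θ => by
    obtain ⟨χ, h1, h2⟩ := H72.exists_irr_extension_of_hall K θ.1.2 (invBy_top_iff.1 θ.2) hcop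
    exact ⟨⟨χ, h1⟩, h2⟩
  choose ext hext using hext
  have hres : ∀ θ (lam : Γ ⧸ K →* ℂˣ) (n : K),
      (mulLin (lam.comp (QuotientGroup.mk' K)) (ext θ)).1 n = θ.1.1 n := by
    intro θ lam n
    rw [mulLin_apply, hext, MonoidHom.comp_apply, QuotientGroup.mk'_apply,
      (QuotientGroup.eq_one_iff _).2 n.2]
    simp
  rw [← Nat.card_prod]
  symm
  refine Nat.card_eq_of_bijective
    (fun x => ⟨mulLin (x.2.comp (QuotientGroup.mk' K)) (ext x.1), ?_⟩) ⟨?_, ?_⟩
  · have : charDegree (mulLin (x.2.comp (QuotientGroup.mk' K)) (ext x.1)).1 =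
        charDegree x.1.1.1 := by
      apply H19.charDegree_eq_of_eq
      rw [H19.charDegree_cast_irr]
      exact hres x.1 x.2 1
    rw [this]
    exact hcop.coprime_dvd_left (H19.charDegree_dvd_card _)
  · rintro ⟨θ, lam⟩ ⟨θ', lam'⟩ e
    have e' : mulLin (lam.comp (QuotientGroup.mk' K)) (ext θ) =
      mulLin (lam'.comp (QuotientGroup.mk' K)) (ext θ') := congrArg Subtype.val e
    obtain rfl : θ = θ' := by
      refine Subtype.ext (Subtype.ext (funext fun n => ?_))
      rw [← hres θ lam n, e', hres]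
    have hirr : IsIrrCharacter K (fun n : K => (ext θ).1 n) := by
      rw [funext (hext θ)]; exact θ.1.2
    have hk : ∀ l : Γ ⧸ K →* ℂˣ,
        K ≤ H11.charKer fun g => ((l.comp (QuotientGroup.mk' K)) g : ℂ) := fun l => by
      rw [H11.charKer_monoidHom]
      intro x hx
      rw [MonoidHom.mem_ker, MonoidHom.comp_apply, QuotientGroup.mk'_apply,
        (QuotientGroup.eq_one_iff _).2 hx, map_one]
    have := H14.gallagher_inj K (ext θ).2 hirr (H11.isIrrCharacter_monoidHom _)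
      (H11.isIrrCharacter_monoidHom _) (hk lam) (hk lam') (by
        rw [mul_comm, mul_comm _ (ext θ).1]
        exact congrArg Subtype.val e')
    congr 1
    ext g
    exact congrFun this g
  · rintro ⟨χ, hχ⟩
    have hirr := H12.isIrr_res_of_coprime_index K χ.2 (H19.charDegree_cast_irr χ).symm hχ
    let θ : {θ : IrrCharacter K // InvBy K ⊤ θ.1} := ⟨⟨_, hirr⟩, invBy_top_iff.2 fun g n =>
      H11.isClassFunction_of_irr χ.2 n g⟩
    obtain ⟨lam, h1, h2⟩ := H14.exists_linear_of_ext_of_ext K (ext θ).2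
      (by rw [funext (hext θ)]; exact θ.1.2) χ.2 (fun n => (hext θ n).symm)
    refine ⟨(θ, QuotientGroup.lift K lam h1), Subtype.ext (Subtype.ext ?_)⟩
    rw [h2, mul_comm]
    rfl

end Cfsg.Agent.H23
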