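import Mathlib
import Cfsg.Agent.H23.Count
import Cfsg.Agent.S0867

/-!
Canonical extensions under a coprime cyclic action, and generalized characters of abelian groups
that are small away from the identity.
-/

set_option autoImplicit false

namespace Cfsg.Agent.H23

open Cfsg Subgroup
open scoped ComplexConjugate

section Small

theorem int_const_or_almost {ι : Type*} [Fintype ι] [Nonempty ι] (m : ι → ℤ)
    (h : (Fintype.card ι : ℤ) * ∑ i, m i ^ 2 - (∑ i, m i) ^ 2 ≤ Fintype.card ι - 1) :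
    ∃ a : ℤ, (∀ i, m i = a) ∨
      ∃ i₀, (m i₀ = a + 1 ∨ m i₀ = a + -1) ∧ ∀ i, i ≠ i₀ → m i = a := by
  set n : ℤ := (Fintype.card ι : ℤ) with hn
  have hn0 : 0 < n := by rw [hn]; exact_mod_cast Fintype.card_pos
  set t := ∑ i, m i with ht
  obtain ⟨a, r, hr, h1, h2⟩ : ∃ a r : ℤ, t = n * a + r ∧ -n ≤ 2 * r ∧ 2 * r ≤ n := by
    have e := Int.mul_ediv_add_emod t n
    have e1 := Int.emod_nonneg t hn0.ne'
    have e2 := Int.emod_lt_of_pos t hn0
    by_cases hc : 2 * (t % n) ≤ n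
    · exact ⟨t / n, t % n, e.symm, by omega, hc⟩
    · exact ⟨t / n + 1, t % n - n, by linarith, by omega, by omega⟩
  refine ⟨a, ?_⟩
  set u := ∑ i, (m i - a) ^ 2 with hu
  have s1 : ∑ i, (m i - a) = r := by
    rw [Finset.sum_sub_distrib, Finset.sum_const, Finset.card_univ, nsmul_eq_mul, ← hn, ← ht]
    linarith
  have s2 : u = ∑ i, m i ^ 2 - 2 * a * t + n * a ^ 2 := by
    rw [hu, ht, Finset.mul_sum, hn, ← Finset.card_univ, ← nsmul_eq_mul, ← Finset.sum_const,
      ← Finset.sum_sub_distrib, ← Finset.sum_add_distrib]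
    exact Finset.sum_congr rfl fun i _ => by ring
  have s3 : n * u - r ^ 2 ≤ n - 1 := by
    have : n * u - r ^ 2 = n * ∑ i, m i ^ 2 - t ^ 2 := by rw [s2, hr]; ring
    rwa [this]
  have s4 : r ≤ u := by
    rw [← s1]; exact Finset.sum_le_sum fun i _ => by nlinarith [Int.le_self_sq (m i - a)]
  have s5 : -r ≤ u := by
    rw [← s1, ← Finset.sum_neg_distrib]
    exact Finset.sum_le_sum fun i _ => by nlinarith [Int.le_self_sq (-(m i - a))]
  have s6 : 0 ≤ u := Finset.sum_nonneg fun i _ => sq_nonneg _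
  have s7 : u < 2 := by
    by_contra hc
    push Not at hc
    rcases le_total 0 r with h0 | h0 <;> nlinarith
  rcases (by omega : u = 0 ∨ u = 1) with h0 | h0
  · left
    intro i
    have := (Finset.sum_eq_zero_iff_of_nonneg fun i _ => sq_nonneg (m i - a)).1 h0 i
      (Finset.mem_univ i)
    nlinarith
  · right
    obtain ⟨i₀, h3, h4⟩ := H11.exists_eq_one_of_sum_sq_eq_one (fun i => m i - a) h0
    exact ⟨i₀, h3.imp (fun e => by linarith) (fun e => by linarith),
      fun i hi => by linarith [h4 i hi]⟩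

/-- A generalized character of an abelian group bounded by one away from the identity is a
multiple of the regular character, up to a signed linear character. -/
theorem eq_regChar_of_norm_le_one {A : Type*} [Group A] [Finite A] (hA : ∀ a b : A, a * b = b * a)
    {ψ : A → ℂ} (hψ : IsGeneralizedCharacter A ψ) (h : ∀ x, x ≠ 1 → ‖ψ x‖ ≤ 1) :
    ∃ a : ℤ, ψ = (a : ℂ) • H11.regChar A ∨ ∃ (ε : ℤ) (μ : IrrCharacter A), (ε = 1 ∨ ε = -1) ∧
      ψ = (a : ℂ) • H11.regChar A + (ε : ℂ) • μ.1 := by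
  classical
  let _ := Fintype.ofFinite A
  let _ := Fintype.ofFinite (IrrCharacter A)
  obtain ⟨m, hm, hsum⟩ := H11.exists_eq_sum_int hψ
  have hdeg : ∀ χ : IrrCharacter A, χ.1 1 = 1 := fun χ => H11.irr_apply_one_of_comm hA χ.2
  have hcard : Fintype.card (IrrCharacter A) = Nat.card A := by
    rw [← Nat.card_eq_fintype_card, H11.card_irr_of_comm hA]
  have h1 : ψ 1 = ((∑ i, m i : ℤ) : ℂ) := by
    rw [hsum]; simp [Finset.sum_apply, hdeg]
  have h2 := H11.classInner_self_eq_sum_int (H11.isClassFunction_of_isGen hψ) m hm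
  rw [H11.classInner_self_eq] at h2
  have h3 : (Nat.card A : ℝ)⁻¹ * ∑ g, ‖ψ g‖ ^ 2 = ((∑ i, m i ^ 2 : ℤ) : ℝ) := by
    exact_mod_cast h2
  have hpos : (0 : ℝ) < Nat.card A := by exact_mod_cast Nat.card_pos
  have h4 : ∑ g, ‖ψ g‖ ^ 2 ≤ ‖ψ 1‖ ^ 2 + (Nat.card A - 1) := by
    rw [← Finset.add_sum_erase _ _ (Finset.mem_univ (1 : A))]
    gcongr
    refine (Finset.sum_le_card_nsmul _ _ 1 fun x hx => ?_).trans ?_
    · have := h x (Finset.ne_of_mem_erase hx)
      nlinarith [norm_nonneg (ψ x)]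
    · rw [Finset.card_erase_of_mem (Finset.mem_univ _), Finset.card_univ, nsmul_eq_mul, mul_one,
        Nat.cast_sub Fintype.card_pos, Nat.card_eq_fintype_card]
      simp
  have h5 : ‖ψ 1‖ ^ 2 = (((∑ i, m i) ^ 2 : ℤ) : ℝ) := by
    rw [h1, Complex.norm_intCast, sq_abs]; push_cast; rfl
  have h6 : (Nat.card A : ℝ) * ((∑ i, m i ^ 2 : ℤ) : ℝ) = ∑ g, ‖ψ g‖ ^ 2 := by
    rw [← h3, ← mul_assoc, mul_inv_cancel₀ hpos.ne', one_mul]
  obtain ⟨a, ha⟩ := int_const_or_almost m (by
    rw [hcard]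
    have : (Nat.card A : ℝ) * ((∑ i, m i ^ 2 : ℤ) : ℝ) - (((∑ i, m i) ^ 2 : ℤ) : ℝ) ≤
      Nat.card A - 1 := by linarith
    exact_mod_cast this)
  have hreg : H11.regChar A = ∑ χ : IrrCharacter A, χ.1 := by
    rw [H11.regChar_eq_sum]; simp [hdeg]
  refine ⟨a, ha.imp (fun h0 => ?_) ?_⟩
  · rw [hsum, hreg, Finset.smul_sum]
    exact Finset.sum_congr rfl fun i _ => by rw [h0]
  · rintro ⟨i₀, h7, h8⟩
    have key : ∀ ε : ℤ, m i₀ = a + ε → ψ = (a : ℂ) • H11.regChar A + (ε : ℂ) • i₀.1 := by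
      intro ε e
      rw [hsum, hreg, Finset.smul_sum, ← Finset.add_sum_erase _ _ (Finset.mem_univ i₀),
        ← Finset.add_sum_erase _ _ (Finset.mem_univ i₀), e, Int.cast_add, add_smul,
        Finset.sum_congr rfl fun i hi => by rw [h8 i (Finset.ne_of_mem_erase hi)]]
      abel
    rcases h7 with e | e
    · exact ⟨1, i₀, Or.inl rfl, key 1 e⟩
    · exact ⟨-1, i₀, Or.inr rfl, key (-1) e⟩

end Small

section Canonical

variable {Γ : Type*} [Group Γ] [Finite Γ]

theorem detChar_gal {χ : Γ → ℂ} (hχ : IsCharacter Γ χ) (σ : ℂ →+* ℂ) :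
    detChar (fun g => σ (χ g)) = fun g => σ (detChar χ g) := by
  obtain ⟨n, ρ, rfl⟩ := hχ
  funext g
  rw [← funext (H12.galRep_character ρ σ), H72.detChar_character, H72.detChar_character]
  change LinearMap.det (Matrix.toLin' ((LinearMap.toMatrix' (ρ g)).map σ)) = _
  rw [LinearMap.det_toLin', ← LinearMap.det_toMatrix', RingHom.map_det]
  rfl

theorem detOrder_gal {χ : Γ → ℂ} (hχ : IsCharacter Γ χ) (σ : ℂ →+* ℂ) :
    detOrder (fun g => σ (χ g)) = detOrder χ := by
  rw [detOrder, detChar_gal hχ, detOrder]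
  exact orderOf_injective (σ.toMonoidHom.compLeft Γ)
    (fun a b h => funext fun g => σ.injective (congrFun h g)) (detChar χ)

theorem coprime_index_detOrder_mul {G : Subgroup Γ} (hcop : (Nat.card G).Coprime G.index)
    (θ : IrrCharacter G) : G.index.Coprime (detOrder θ.1 * charDegree θ.1) :=
  Nat.Coprime.mul_right
    (hcop.symm.coprime_dvd_right (H72.detOrder_dvd_card (H11.irr_isCharacter θ)))
    (hcop.symm.coprime_dvd_right (H19.charDegree_dvd_card θ))

theorem exists_canonical {G : Subgroup Γ} [G.Normal] (hcop : (Nat.card G).Coprime G.index)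
    (θ : IrrCharacter G) (hθ : InvBy G ⊤ θ.1) :
    ∃ χ : IrrCharacter Γ, (∀ g : G, χ.1 g = θ.1 g) ∧ (detOrder χ.1).Coprime G.index := by
  obtain ⟨χ, ⟨h1, h2, h3⟩, -⟩ := S0867.result G θ.1 θ.2 (invBy_top_iff.1 hθ) _
    (H19.charDegree_cast_irr θ).symm (coprime_index_detOrder_mul hcop θ)
  refine ⟨⟨χ, h1⟩, h2, ?_⟩
  rw [h3]
  exact hcop.coprime_dvd_left (H72.detOrder_dvd_card (H11.irr_isCharacter θ))

theorem canonical_unique {G : Subgroup Γ} [G.Normal] (hcop : (Nat.card G).Coprime G.index)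
    (θ : IrrCharacter G) {χ χ' : Γ → ℂ} (hχ : IsIrrCharacter Γ χ) (hχ' : IsIrrCharacter Γ χ')
    (h : ∀ g : G, χ g = θ.1 g) (h' : ∀ g : G, χ' g = θ.1 g) (hd : (detOrder χ).Coprime G.index)
    (hd' : (detOrder χ').Coprime G.index) : χ = χ' := by
  obtain ⟨χ₀, -, h0⟩ := S0867.result G θ.1 θ.2 (fun g n => by
      rw [← h, ← h]; exact H11.isClassFunction_of_irr hχ n g) _
    (H19.charDegree_cast_irr θ).symm (coprime_index_detOrder_mul hcop θ)
  exact (h0 χ hχ h hd.symm).trans (h0 χ' hχ' h' hd'.symm).symm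

theorem canonical_pow {G : Subgroup Γ} [G.Normal] (hcop : (Nat.card G).Coprime G.index)
    (θ : IrrCharacter G) {χ : Γ → ℂ} (hχ : IsIrrCharacter Γ χ) (h : ∀ g : G, χ g = θ.1 g)
    (hd : (detOrder χ).Coprime G.index) {k : ℕ} (hk : k.Coprime G.index)
    (hk1 : k ≡ 1 [MOD Nat.card G]) (g : Γ) : χ (g ^ k) = χ g := by
  have hk' : k.Coprime (Nat.card Γ) := by
    rw [← G.card_mul_index]
    refine Nat.Coprime.mul_right ?_ hk
    rw [Nat.Coprime, hk1.gcd_eq, Nat.gcd_one_left]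
  obtain ⟨σ, hσ⟩ := H12.exists_ringEquiv_character_pow hk'
  have hc := H11.isCharacter_of_irr hχ
  have := canonical_unique hcop θ (H12.isIrrCharacter_gal hχ σ) hχ (fun x => by
    rw [hσ χ hc, ← h, ← coe_pow, pow_eq_pow_of_modEq hk1 pow_card_eq_one', pow_one]) h
    (by
      have := detOrder_gal hc σ.toRingHom
      exact this ▸ hd) hd
  rw [← hσ χ hc]
  exact congrFun this g

/-- The values of the canonical extension at `c * s` do not depend on the generator `s`. -/
theorem canonical_apply_mul_pow {G : Subgroup Γ} [G.Normal] (hcop : (Nat.card G).Coprime G.index)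
    (θ : IrrCharacter G) {χ : Γ → ℂ} (hχ : IsIrrCharacter Γ χ) (h : ∀ g : G, χ g = θ.1 g)
    (hd : (detOrder χ).Coprime G.index) {c s : Γ} (hc : c ∈ G) (hs : s ^ G.index = 1)
    (hcs : Commute c s) {k : ℕ} (hk : k.Coprime G.index) : χ (c * s ^ k) = χ (c * s) := by
  obtain ⟨k', h1, h2⟩ := Nat.chineseRemainder hcop 1 k
  have hk' : k'.Coprime G.index := by rw [Nat.Coprime, h2.gcd_eq]; exact hk
  rw [← canonical_pow hcop θ hχ h hd hk' h1 (c * s), hcs.mul_pow,
    pow_eq_pow_of_modEq h1 (H4.pow_card_eq_one_of_mem hc), pow_one, pow_eq_pow_of_modEq h2 hs]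

theorem canonical_apply_int {G : Subgroup Γ} [G.Normal] (hcop : (Nat.card G).Coprime G.index)
    (θ : IrrCharacter G) {χ : Γ → ℂ} (hχ : IsIrrCharacter Γ χ) (h : ∀ g : G, χ g = θ.1 g)
    (hd : (detOrder χ).Coprime G.index) {s : Γ} (hs : s ^ G.index = 1) : ∃ z : ℤ, χ s = z := by
  have hc := H11.isCharacter_of_irr hχ
  refine H12.exists_int_of_forall_ringEquiv (H12.IsCharacter_isIntegral hc s) fun σ => ?_
  obtain ⟨m, hm, hσ⟩ := H12.exists_pow_character_of_ringHom (G := Γ) σ.toRingHom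
  have := canonical_apply_mul_pow hcop θ hχ h hd (one_mem G) hs (Commute.one_left s)
    (hm.coprime_dvd_right G.index_dvd_card)
  rw [one_mul, one_mul] at this
  exact (hσ χ hc s).trans this

end Canonical

section Prod

variable {Γ : Type*} [Group Γ]

/-- The multiplication map on the product of two commuting subgroups. -/
def jHom (C S : Subgroup Γ) (h : C ≤ centralizer (S : Set Γ)) : C × S →* Γ :=
  MonoidHom.noncommCoprod C.subtype S.subtype fun c x => (h c.2 x x.2).symm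

theorem jHom_apply (C S : Subgroup Γ) (h : C ≤ centralizer (S : Set Γ)) (d : C × S) :
    jHom C S h d = d.1 * d.2 := rfl

theorem range_inl_normal (C S : Type*) [Group C] [Group S] : (MonoidHom.inl C S).range.Normal :=
  ⟨by
    rintro _ ⟨c, rfl⟩ g
    exact ⟨g.1 * c * g.1⁻¹, by ext <;> simp⟩⟩

theorem inl_injective (C S : Type*) [Group C] [Group S] :
    Function.Injective (MonoidHom.inl C S) := fun _ _ h => congrArg Prod.fst h

theorem index_eq_card_of_sup {G S : Subgroup Γ} [G.Normal]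
    (hcop : (Nat.card G).Coprime (Nat.card S)) (htop : G ⊔ S = ⊤) : G.index = Nat.card S :=
  (isComplement'_of_disjoint_and_mul_eq_univ (disjoint_of_coprime_natCard hcop) (by
    rw [← normal_mul, htop, coe_top])).symm.index_eq_card

theorem normal_of_sup_eq_top [Finite Γ] {G S : Subgroup Γ}
    (hnorm : ∀ s ∈ S, ∀ g ∈ G, s * g * s⁻¹ ∈ G) (htop : G ⊔ S = ⊤) : G.Normal := by
  rw [← normalizer_eq_top_iff, eq_top_iff, ← htop]
  exact sup_le le_normalizer (le_normalizer_of_conj_mem hnorm)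

theorem fusion_bot [Finite Γ] {G S : Subgroup Γ} (hcop : (Nat.card G).Coprime (Nat.card S))
    {s : Γ} (hs : s ∈ S) {t : ℕ} (ht : t.Coprime (orderOf s)) {x c c' : Γ} (hx : x ∈ G)
    (hc : c ∈ G) (hc' : c' ∈ G) (hsc : s * c = c * s) (hsc' : s * c' = c' * s)
    (e : x * (c * s ^ t) * x⁻¹ = c' * s ^ t) : s * x = x * s := by
  have := fusion_mod (N := ⊥) (G := G) le_normalizer_of_normal (le_normalizer_of_normal
    (mem_top s)) (m := Nat.card S) (by rw [H4.pow_card_eq_one_of_mem hs]; exact one_mem _)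
    (by rw [relIndex_bot_left]; exact hcop.symm) ht hx hc hc' (by simp [hsc]) (by simp [hsc']) e
  rwa [mem_bot, mul_inv_eq_one, mul_inv_eq_iff_eq_mul] at this

theorem isSetup_prod [Finite Γ] {G S C : Subgroup Γ} [G.Normal]
    (hcop : (Nat.card G).Coprime (Nat.card S)) (htop : G ⊔ S = ⊤)
    (hC : C = G ⊓ centralizer (S : Set Γ)) (hCG : C ≤ G) (hCS : C ≤ centralizer (S : Set Γ))
    {s : Γ} (hs : zpowers s = S) (hsS : s ∈ S) :
    IsSetup G.subtype (MonoidHom.inl C S) (inclusion hCG) (jHom C S hCS) (1, ⟨s, hsS⟩) := by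
  refine ⟨G.subtype_injective, inclusion_injective _, by rw [range_subtype]; infer_instance,
    range_inl_normal C S, fun x => ?_, fun x => ?_, fun c => by simp [jHom_apply],
    fun t ht x c c' e => ?_⟩
  · have : x ∈ G ⊔ zpowers s := by rw [hs, htop]; exact mem_top x
    obtain ⟨k, hk, a, ha, e⟩ := (H4.mem_sup_iff_of_le_normalizer le_normalizer_of_normal).1 this
    obtain ⟨n, rfl⟩ := mem_zpowers_iff.1 ha
    exact ⟨n, ⟨k, hk⟩, by simp [← e, jHom_apply]⟩
  · have : (x.2 : Γ) ∈ zpowers s := hs ▸ x.2.2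
    obtain ⟨n, hn⟩ := mem_zpowers_iff.1 this
    refine ⟨n, x.1, ?_⟩
    ext <;> simp [hn]
  · have ht' : t.Coprime (orderOf s) := by
      refine ht.coprime_dvd_right ?_
      rw [Nat.card_prod, ← hs, Nat.card_zpowers]
      exact dvd_mul_left _ _
    have e' : (x : Γ) * (c * s ^ t) * (x : Γ)⁻¹ = c' * s ^ t := by
      simpa [jHom_apply] using e
    have := fusion_bot hcop hsS ht' x.2 (hCG c.2) (hCG c'.2) (hCS c.2 s hsS) (hCS c'.2 s hsS) e'
    refine ⟨⟨x, hC ▸ ⟨x.2, ?_⟩⟩, rfl⟩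
    rw [← hs]
    rintro _ ⟨n, rfl⟩
    exact (Commute.zpow_left this n)

theorem eta_prod {C S : Subgroup Γ} [Fintype C] (hCS : C ≤ centralizer (S : Set Γ)) (f : Γ → ℂ)
    (β : C → ℂ) (x : S) :
    eta (MonoidHom.inl C S) (fun d => f (jHom C S hCS d)) (fun d => β d.1) (1, x) =
      classInner (fun c : C => f (c * x)) β := by
  simp [eta, jHom_apply]

theorem norm_coset_eq_one [Finite Γ] {G C : Subgroup Γ} [G.Normal] [Fintype C] (hCG : C ≤ G)
    {t : Γ} (hfus : ∀ x ∈ G, ∀ c ∈ C, ∀ c' ∈ C, x * (c * t) * x⁻¹ = c' * t → x ∈ C)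
    {χ : Γ → ℂ} (hχ : IsCharacter Γ χ) (hirr : IsIrrCharacter G fun g : G => χ g) :
    classInner (fun c : C => χ (c * t)) (fun c : C => χ (c * t)) = 1 := by
  let _ := Fintype.ofFinite G
  let _ := Fintype.ofFinite Γ
  have hn : G.subtype.range.Normal := by rw [range_subtype]; infer_instance
  have h1 := congrFun (eta_self G.subtype_injective hn hχ hirr) t
  rw [eta_eq_avg, avg_eq_avg_of_fusion G.subtype_injective hn (inclusion_injective hCG)
    (fun x c c' e => ⟨⟨x, hfus x x.2 c c.2 c' c'.2 e⟩, rfl⟩) (fun x y => by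
      have := H11.isClassFunction_of_isCharacter hχ y x
      simp only [Pi.mul_apply, coe_subtype, this])] at h1
  exact h1

end Prod

end Cfsg.Agent.H23
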