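import Cfsg.Agent.H19.S93Kit

/-!
# Lifting a wreath product through a normal subgroup of odd order
-/

set_option autoImplicit false
open scoped Pointwise commutatorElement
open Subgroup

namespace Cfsg.Agent.H23.S93Lift
open Cfsg.Agent.H46.S95 Cfsg.Agent.H19.S93Q

universe u

local notation "C[" A "]" => Subgroup.centralizer (SetLike.coe A)
local notation "N[" A "]" => Subgroup.normalizer (SetLike.coe A)

variable {Γ Δ : Type} [Group Γ] [Group Δ] {N H : Type u} [Group N] [Group H] {π : N →* H}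

theorem comm_le (X : Subgroup N) : ⁅X, X⁆ ≤ X := commutator_le.2 fun a ha b hb => by
  rw [commutatorElement_def]
  exact mul_mem (mul_mem (mul_mem ha hb) (inv_mem ha)) (inv_mem hb)

theorem ker_comm {x z : N} (hx : x ∈ C[π.ker]) (hz : π z = 1) : z * x = x * z :=
  mem_centralizer_iff.1 hx z hz

theorem br {X M : Subgroup N} (hM : M ≤ C[π.ker]) (hX : X ≤ C[π.ker])
    (h : X.map π ≤ M.map π) : ⁅X, X⁆ ≤ ⁅M, M⁆ := by
  have k : ∀ x ∈ X, ∃ m ∈ M, ∃ z, π z = 1 ∧ x = m * z := fun x hx => by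
    obtain ⟨m, hm, e⟩ := h (mem_map_of_mem π hx)
    exact ⟨m, hm, m⁻¹ * x, by rw [map_mul, map_inv, e, inv_mul_cancel], by group⟩
  refine commutator_le.2 fun x hx y hy => ?_
  obtain ⟨a, ha, z, hz, e1⟩ := k x hx
  obtain ⟨b, hb, w, hw, e2⟩ := k y hy
  have h1 := ker_comm (hX hy) hz
  have h2 := ker_comm (inv_mem (hM ha)) hw
  have e : ⁅x, y⁆ = ⁅a, b⁆ := by
    rw [commutatorElement_def, commutatorElement_def]
    calc x * y * x⁻¹ * y⁻¹ = a * (z * y) * z⁻¹ * a⁻¹ * y⁻¹ := by rw [e1]; group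
      _ = a * y * a⁻¹ * y⁻¹ := by rw [h1]; group
      _ = a * b * (w * a⁻¹) * w⁻¹ * b⁻¹ := by rw [e2]; group
      _ = _ := by rw [h2]; group
  rw [e]
  exact commutator_mem_commutator ha hb

theorem core [Finite N] {p : Δ →* Γ} (hv : Cv p) {φ : Δ →* N} {ψ : Γ →* H} {s : N}
    (hπ : Function.Surjective π) (hodd : ∀ z, π z = 1 → Odd (orderOf z))
    (hs : s ∈ C[π.ker]) (ss : s * s = 1) (hφ : ∀ a, φ a ∈ C[π.ker])
    (he : ∀ a, π (φ a) = ψ (p a)) (hψ : Function.Injective ψ) {B : Subgroup H}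
    (w : Wr ψ (π s) B) (hB : ⁅B, B⁆ = B) : ∃ B', Wr φ s B' := by
  haveI hn : (C[π.ker].map π).Normal := Normal.map inferInstance π hπ
  have hBC : B ≤ C[π.ker].map π := by
    let f := QuotientGroup.mk' (C[π.ker].map π)
    have f1 : ∀ x ∈ C[π.ker], f (π x) = 1 := fun x hx =>
      (QuotientGroup.eq_one_iff _).2 (mem_map_of_mem π hx)
    have f2 : ∀ b ∈ B, f b * f b = 1 := fun b hb => by
      obtain ⟨c, hc⟩ := w.into b hb
      obtain ⟨a, rfl⟩ := hv.surj c
      have := congrArg f hc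
      rw [← he, f1 _ (hφ a), map_mul, map_mul, map_mul, f1 s hs, one_mul, mul_one] at this
      exact this.symm
    rw [← hB]
    refine commutator_le.2 fun b hb c hc => (QuotientGroup.eq_one_iff _).1 ?_
    change f _ = 1
    have := f2 _ (mul_mem hb hc)
    rw [map_commutatorElement, commutatorElement_def, inv_eq_of_mul_eq_one_right (f2 b hb),
      inv_eq_of_mul_eq_one_right (f2 c hc), ← this, map_mul]
    simp only [mul_assoc]
  let B0 : Subgroup N := C[π.ker] ⊓ B.comap π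
  have m0 : B0.map π = B := by
    refine le_antisymm (map_le_iff_le_comap.2 inf_le_right) fun b hb => ?_
    obtain ⟨x, hx, rfl⟩ := hBC hb
    exact ⟨x, ⟨hx, hb⟩, rfl⟩
  let B1 : Subgroup N := ⁅B0, B0⁆
  have l1 : B1 ≤ B0 := comm_le B0
  have c1 : B1 ≤ C[π.ker] := l1.trans inf_le_left
  have m1 : B1.map π = B := by rw [map_commutator, m0, hB]
  have p1 : B1 ≤ ⁅B1, B1⁆ := br c1 inf_le_left (by rw [m0, m1])
  have hcomm : ∀ b ∈ B1, ∀ c ∈ B1, b * (s * c * s) = s * c * s * b := by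
    intro b hb c hc
    have k : ⁅B1, zpowers (s * c * s)⁆ ≤ π.ker := commutator_le.2 fun x hx y hy => by
      obtain ⟨n, rfl⟩ := mem_zpowers_iff.1 hy
      rw [MonoidHom.mem_ker, map_commutatorElement, commutatorElement_eq_one_iff_commute, map_zpow]
      refine Commute.zpow_right ?_ n
      rw [map_mul, map_mul]
      exact w.comm _ (l1 hx).2 _ (l1 hc).2
    have k1 : ⁅⁅B1, zpowers (s * c * s)⁆, B1⁆ = ⊥ :=
      commutator_eq_bot_iff_le_centralizer.2 fun x hx =>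
        mem_centralizer_iff.2 fun y hy => (ker_comm (c1 hy) (k hx)).symm
    have k2 := commutator_commutator_eq_bot_of_rotate k1
      (by rw [commutator_comm (zpowers _) B1]; exact k1)
    have k3 := commutator_eq_bot_iff_le_centralizer.1 k2 (p1 hb)
    exact (mem_centralizer_iff.1 k3 _ (mem_zpowers _)).symm
  let δ : B1 →* N := MonoidHom.mk' (fun b => b * (s * b * s)) fun b c => by
    have := hcomm c c.2 b b.2
    calc ((b * c : B1) : N) * (s * (b * c : B1) * s)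
        = b * (c * (s * b * (s * s) * c * s)) := by rw [ss, Subgroup.coe_mul]; group
      _ = b * (c * (s * b * s)) * (s * c * s) := by group
      _ = _ := by rw [this]; group
  have hδ : ∀ b : B1, δ b = b * (s * b * s) := fun _ => rfl
  have hinto : δ.range ≤ φ.range := by
    have t1 : ⁅(⊤ : Subgroup B1), (⊤ : Subgroup B1)⁆ = ⊤ := by
      refine map_injective B1.subtype_injective ?_
      rw [map_commutator, ← MonoidHom.range_eq_map, range_subtype]
      exact le_antisymm (comm_le B1) p1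
    have t2 : δ.range = ⁅δ.range, δ.range⁆ := by
      rw [MonoidHom.range_eq_map, ← map_commutator, t1]
    rw [t2]
    refine (br (π := π) ?_ ?_ ?_).trans (comm_le _)
    · rintro _ ⟨a, rfl⟩
      exact hφ a
    · rintro _ ⟨b, rfl⟩
      exact mul_mem (c1 b.2) (mul_mem (mul_mem hs (c1 b.2)) hs)
    · rintro _ ⟨_, ⟨b, rfl⟩, rfl⟩
      obtain ⟨c, hc⟩ := w.into _ (l1 b.2).2
      obtain ⟨a, rfl⟩ := hv.surj c
      exact ⟨φ a, ⟨a, rfl⟩, by rw [he, hc, hδ, map_mul, map_mul, map_mul]⟩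
  refine ⟨B1, hcomm, ?_, fun b hb => hinto ⟨⟨b, hb⟩, rfl⟩, fun a => ?_⟩
  · have l2 : closure {b | b ∈ B1 ∧ b * b = 1} ≤ B1 := (closure_le _).2 fun b hb => hb.1
    refine (br (l2.trans c1) inf_le_left ?_).trans (comm_le _)
    rw [m0]
    refine w.gen.trans ((closure_le _).2 fun b hb => ?_)
    obtain ⟨x, hx, rfl⟩ := m1.ge hb.1
    have o := hodd (x * x) (by rw [map_mul, hb.2])
    refine ⟨x ^ orderOf (x * x), subset_closure ⟨pow_mem hx _, ?_⟩, ?_⟩
    · rw [← (Commute.refl x).mul_pow, pow_orderOf_eq_one]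
    · rw [map_pow, pow_odd_of_sq hb.2 o]
  · have t : δ.range.comap φ = ⊤ := hv.top_of_map (eq_top_iff.2 fun c _ => by
      obtain ⟨b, hb, e⟩ := w.onto c
      obtain ⟨x, hx, rfl⟩ := m1.ge hb
      obtain ⟨a, ha⟩ := hinto ⟨⟨x, hx⟩, rfl⟩
      refine ⟨a, ⟨⟨x, hx⟩, ha.symm⟩, hψ ?_⟩
      rw [← he, ha, ← e, hδ, map_mul, map_mul, map_mul])
    obtain ⟨b, hb⟩ := t.ge (mem_top a)
    exact ⟨b, b.2, hb⟩

/-- **LIFT** -/
theorem lift : H19.S93Q.LiftStmt.{u} := by
  intro Γ Δ _ _ G _ _ p φ hv t O H _ _ π ψ h q s hs B w hB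
  have kc : ∀ x : N[O], (∀ o ∈ O, o * x = x * o) → x ∈ C[π.ker] := fun x hx =>
    mem_centralizer_iff.2 fun z hz => Subtype.ext (hx z ((q.ker z).1 hz))
  obtain ⟨B', w'⟩ := core (π := π) hv (φ := φ.codRestrict _ q.mem) (ψ := ψ) (s := s) q.surj
    (fun z hz => by rw [← Subgroup.orderOf_coe]; exact h.odd_ord ((q.ker z).1 hz))
    (kc s fun o ho => by rw [hs]; exact h.Ot o ho) (Subtype.ext (by rw [Subgroup.coe_mul, hs]; exact h.tt))
    (fun a => kc _ fun o ho => (h.oA ho a).symm) (fun a => q.eq a _ rfl) q.inj w hB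
  subst hs
  refine ⟨B'.map (N[O]).subtype, ?_, ?_, ?_, fun a => ?_⟩
  · rintro _ ⟨b, hb, rfl⟩ _ ⟨c, hc, rfl⟩
    exact congrArg Subtype.val (w'.comm b hb c hc)
  · refine map_le_iff_le_comap.2 (w'.gen.trans ((closure_le _).2 fun b hb => ?_))
    exact subset_closure ⟨mem_map_of_mem _ hb.1, congrArg Subtype.val hb.2⟩
  · rintro _ ⟨b, hb, rfl⟩
    obtain ⟨a, ha⟩ := w'.into b hb
    exact ⟨a, congrArg Subtype.val ha⟩
  · obtain ⟨b, hb, e⟩ := w'.onto a
    exact ⟨b, mem_map_of_mem _ hb, congrArg Subtype.val e⟩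

end Cfsg.Agent.H23.S93Lift
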