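import Mathlib
import Cfsg.Agent.H12.Burnside
import Cfsg.Agent.H23.Coset

/-!
# Zeros of characters and conjugacy criteria
-/

namespace Cfsg.Agent.H23

open Cfsg
open scoped ComplexConjugate

variable {G : Type*} [Group G]

/-- If every irreducible character either vanishes at `g` or agrees at `g` and `h`, then the two
elements are conjugate. -/
theorem isConj_of_forall_irr_zero_or_eq [Finite G] {g h : G}
    (H : ∀ χ, IsIrrCharacter G χ → χ g = 0 ∨ χ h = χ g) : IsConj g h := by
  classical
  haveI := Fintype.ofFinite (IrrCharacter G)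
  by_contra hc
  have h1 := H11.column_orthogonality_of_not_isConj hc
  have h2 := H11.column_orthogonality_of_isConj (IsConj.refl g)
  have h3 : ∑ χ : IrrCharacter G, (χ : G → ℂ) g * conj ((χ : G → ℂ) h) =
      ∑ χ : IrrCharacter G, (χ : G → ℂ) g * conj ((χ : G → ℂ) g) :=
    Finset.sum_congr rfl fun χ _ => by
      rcases H χ χ.2 with h0 | h0
      · simp [h0]
      · rw [h0]
  rw [h3, h2] at h1
  exact H11.card_ne_zero _ h1

/-- If a whole coset of `N` is contained in a conjugacy class, the characters not containing `N`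
in their kernel vanish on it. -/
theorem apply_eq_zero_of_isConj_coset [Finite G] {N : Subgroup G} [N.Normal] {g : G}
    (hg : ∀ n ∈ N, IsConj g (n * g)) {χ : G → ℂ} (hχ : IsIrrCharacter G χ)
    (hN : ¬ N ≤ H11.charKer χ) : χ g = 0 := by
  haveI := Fintype.ofFinite N
  have h1 := H11.sum_coset_eq_zero hχ N hN g
  have h2 : ∀ n : N, χ (n * g) = χ g := fun n =>
    (H11.classFun_of_isConj (H11.isClassFunction_of_irr hχ) (hg n n.2)).symm
  simp only [h2, Finset.sum_const, Finset.card_univ, nsmul_eq_mul,
    ← Nat.card_eq_fintype_card] at h1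
  exact (mul_eq_zero.1 h1).resolve_left (H11.card_ne_zero N)

theorem isConj_mul_of_vanish [Finite G] {N : Subgroup G} {g : G}
    (hg : ∀ χ, IsIrrCharacter G χ → ¬ N ≤ H11.charKer χ → χ g = 0) {n : G} (hn : n ∈ N) :
    IsConj g (n * g) :=
  isConj_of_forall_irr_zero_or_eq fun χ hχ => by
    by_cases h : N ≤ H11.charKer χ
    · exact Or.inr (h hn g)
    · exact Or.inl (hg χ hχ h)

theorem mem_of_pow_mem_of_coprime_card [Finite G] {H : Subgroup G} {m : ℕ}
    (hm : m.Coprime (Nat.card G)) {g : G} (hg : g ^ m ∈ H) : g ∈ H := by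
  obtain ⟨k, hk⟩ := exists_pow_eq_self_of_coprime
    (Nat.Coprime.coprime_dvd_right (orderOf_dvd_natCard g) hm)
  rw [← hk]
  exact H.pow_mem hg k

theorem apply_pow_ne_zero [Finite G] {χ : G → ℂ} (hχ : IsCharacter G χ) {m : ℕ}
    (hm : m.Coprime (Nat.card G)) {g : G} (hg : χ g ≠ 0) : χ (g ^ m) ≠ 0 := by
  obtain ⟨σ, hσ⟩ := H12.exists_ringEquiv_character_pow (G := G) hm
  rw [← hσ χ hχ g]
  simpa using hg

open Classical in
/-- The sum of `|χ|²` over the complement of a subgroup is at least the number of non-zeros. -/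
theorem card_nonzero_le_sum [Fintype G] {χ : G → ℂ} (hχ : IsCharacter G χ) (H : Subgroup G) :
    ((Finset.univ.filter fun g => g ∉ H ∧ χ g ≠ 0).card : ℝ) ≤
      ∑ g ∈ Finset.univ.filter (fun g => g ∉ H), ‖χ g‖ ^ 2 := by
  have h1 := H12.card_le_sum_normSq hχ (Finset.univ.filter fun g => g ∉ H ∧ χ g ≠ 0)
    (fun m hm g hg => by
      simp only [Finset.mem_filter, Finset.mem_univ, true_and] at hg ⊢
      exact ⟨fun h => hg.1 (mem_of_pow_mem_of_coprime_card hm h), apply_pow_ne_zero hχ hm hg.2⟩)
    (fun g hg => (Finset.mem_filter.1 hg).2.2)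
  refine h1.trans ?_
  simp only [Complex.normSq_eq_norm_sq]
  exact Finset.sum_le_sum_of_subset_of_nonneg
    (fun g hg => by
      simp only [Finset.mem_filter, Finset.mem_univ, true_and] at hg ⊢; exact hg.1)
    (fun _ _ _ => by positivity)

open Classical in
theorem sum_mem_norm_sq_le [Fintype G] {χ : G → ℂ} (hχ : IsIrrCharacter G χ) (H : Subgroup G) :
    ∑ g ∈ Finset.univ.filter (fun g => g ∈ H), ‖χ g‖ ^ 2 ≤
      ((Finset.univ.filter fun g => g ∈ H).card : ℝ) +
        ((Finset.univ.filter fun g => g ∉ H ∧ χ g = 0).card : ℝ) := by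
  have h1 := card_nonzero_le_sum (H11.isCharacter_of_irr hχ) H
  have h2 := H11.sum_norm_sq_eq_card hχ
  rw [← Finset.sum_filter_add_sum_filter_not Finset.univ (fun g => g ∈ H)] at h2
  have h3 := Finset.card_filter_add_card_filter_not (s := (Finset.univ : Finset G))
    (fun g => g ∈ H)
  have h4 := Finset.card_filter_add_card_filter_not
    (s := Finset.univ.filter fun g : G => g ∉ H) (fun g => χ g = 0)
  simp only [Finset.filter_filter] at h4
  rw [Finset.card_univ, ← Nat.card_eq_fintype_card] at h3
  have h3' : ((Finset.univ.filter fun g => g ∈ H).card : ℝ) +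
    ((Finset.univ.filter fun g => g ∉ H).card : ℝ) = Nat.card G := by exact_mod_cast h3
  have h4' : ((Finset.univ.filter fun g => g ∉ H ∧ χ g = 0).card : ℝ) +
    ((Finset.univ.filter fun g => g ∉ H ∧ χ g ≠ 0).card : ℝ) =
      ((Finset.univ.filter fun g => g ∉ H).card : ℝ) := by exact_mod_cast h4
  linarith

/-- Galois averaging for a character with positive real values on a power-closed set. -/
theorem card_le_sum_re [Finite G] {η : G → ℂ} (hη : IsCharacter G η) (s : Finset G)
    (hs : ∀ m : ℕ, m.Coprime (Nat.card G) → ∀ g ∈ s, g ^ m ∈ s) (r : G → ℝ)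
    (hr : ∀ g ∈ s, η g = r g) (h0 : ∀ g ∈ s, 0 < r g) : (s.card : ℝ) ≤ ∑ g ∈ s, r g := by
  classical
  apply H12.card_le_sum_of_one_le_prod s _ h0
  have hP : ((∏ g ∈ s, r g : ℝ) : ℂ) = ∏ g ∈ s, η g := by
    push_cast
    exact Finset.prod_congr rfl fun g hg => (hr g hg).symm
  obtain ⟨z, hz⟩ := H12.exists_int_of_forall_ringEquiv (x := ∏ g ∈ s, η g)
    (IsIntegral.prod _ fun g _ => H12.IsCharacter_isIntegral hη g)
    (fun σ => by
      obtain ⟨m, hm, hσ⟩ := H12.exists_pow_character_of_ringHom (G := G) σ.toRingHom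
      have hσ' : ∀ g, σ (η g) = η (g ^ m) := hσ η hη
      have hinj : Function.Injective (fun g : G => g ^ m) := (powCoprime hm.symm).injective
      rw [map_prod]
      simp only [hσ']
      refine Finset.prod_bij (fun g _ => g ^ m) (fun g hg => hs m hm g hg)
        (fun a _ b _ h => hinj h) (fun b hb => ?_) (fun _ _ => rfl)
      exact Finset.surj_on_of_inj_on_of_card_le (fun g _ => g ^ m) (fun g hg => hs m hm g hg)
        (fun a b _ _ h => hinj h) le_rfl b hb |>.imp fun a ⟨ha, h⟩ => ⟨ha, h.symm⟩)
  rw [← hP] at hz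
  have hz' : ∏ g ∈ s, r g = (z : ℝ) := by exact_mod_cast hz
  have hpos : 0 < ∏ g ∈ s, r g := Finset.prod_pos h0
  rw [hz'] at hpos ⊢
  have : 0 < z := by exact_mod_cast hpos
  exact_mod_cast this

/-- A character with positive real values everywhere and average `1` is trivial. -/
theorem apply_one_eq_one_of_pos [Fintype G] {η : G → ℂ} (hη : IsCharacter G η) (r : G → ℝ)
    (hr : ∀ g, η g = r g) (h0 : ∀ g, 0 < r g) (h1 : classInner η (fun _ => 1) = 1) :
    η 1 = 1 := by
  classical
  have h2 := card_le_sum_re hη (Finset.univ.erase 1)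
    (fun m hm g hg => by
      simp only [Finset.mem_erase, Finset.mem_univ, and_true] at hg ⊢
      intro h
      exact hg ((powCoprime hm.symm).injective (by simpa using h))) r (fun g _ => hr g)
    (fun g _ => h0 g)
  rw [H11.classInner_one_right, inv_mul_eq_one₀ (H11.card_ne_zero G)] at h1
  simp only [hr] at h1
  have h3 : (Nat.card G : ℝ) = ∑ g, r g := by exact_mod_cast h1
  rw [← Finset.add_sum_erase _ _ (Finset.mem_univ 1)] at h3
  rw [Finset.card_erase_of_mem (Finset.mem_univ 1), Finset.card_univ, ← Nat.card_eq_fintype_card,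
    Nat.cast_sub Nat.card_pos] at h2
  obtain ⟨d, hd⟩ := H11.exists_nat_degree hη
  have h4 : r 1 = d := by
    have := (hr 1).symm.trans hd
    exact_mod_cast this
  have h5 : (d : ℝ) ≤ 1 := by push_cast at h2; linarith
  have h6 : (0 : ℝ) < d := h4 ▸ h0 1
  have h7 : d ≤ 1 := by exact_mod_cast h5
  have h8 : 0 < d := by exact_mod_cast h6
  rw [hd, show d = 1 by omega, Nat.cast_one]

/-- The restriction of an irreducible character to a normal subgroup is reducible iff the
character vanishes on a coset. -/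
theorem not_irr_res_iff [Finite G] (N : Subgroup G) [N.Normal] {χ : G → ℂ}
    (hχ : IsIrrCharacter G χ) :
    ¬ IsIrrCharacter N (fun n : N => χ n) ↔ ∃ x : G, ∀ n : N, χ ((n : G) * x) = 0 := by
  classical
  haveI := Fintype.ofFinite G
  haveI := Fintype.ofFinite N
  have hn : N.subtype.range.Normal := by rw [Subgroup.range_subtype]; infer_instance
  have hc := H11.isCharacter_of_irr hχ
  constructor
  · intro h
    by_contra hz
    push Not at hz
    apply h
    have hη := isCharacter_eta N.subtype_injective hn hc hc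
    have h1 := apply_one_eq_one_of_pos hη
      (fun d => (Nat.card N : ℝ)⁻¹ * ∑ n : N, ‖χ ((n : G) * d)‖ ^ 2)
      (fun d => H11.classInner_self_eq _) (fun d => by
        obtain ⟨n, hn⟩ := hz d
        have : (0 : ℝ) < Nat.card N := by exact_mod_cast Nat.card_pos
        refine mul_pos (inv_pos.2 this) ?_
        exact Finset.sum_pos' (fun _ _ => by positivity) ⟨n, Finset.mem_univ _, by positivity⟩)
      (by
        rw [classInner_eta_of_const _ _ _ (fun _ _ => rfl)]
        have : (χ * fun _ => 1) = χ := by ext; simp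
        rw [this, H11.classInner_irr_self hχ])
    rw [eta_one] at h1
    exact H11.isIrrCharacter_of_classInner_self (H11.isCharacter_restrict hc N) h1
  · rintro ⟨x, hx⟩ hirr
    have h1 := congrFun (eta_self N.subtype_injective hn hc hirr) x
    have h2 : (fun k : N => χ (N.subtype k * x)) = 0 := funext hx
    rw [eta, h2, H11.classInner_zero_left] at h1
    exact zero_ne_one h1

end Cfsg.Agent.H23
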