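import Cfsg.Agent.H86.CksExt
import Cfsg.Agent.H8.T3Mu

/-!
Project CKS, piece MDU: the systems of the unitary groups.
-/

set_option autoImplicit false
set_option linter.style.haveILetI false
set_option linter.unusedSectionVars false

namespace Cfsg.Agent.H23.CkU

open Equiv Cfsg.Agent.H34 Cfsg.Agent.H34.Split Cfsg.Agent.H80 Cfsg.Agent.H31 Cfsg.Agent.H75
  Cfsg.Agent.H75.T3G Cfsg.Agent.Lead.T3 Cfsg.Agent.H74.Cks Cfsg.Agent.H8.T3U
open scoped MatrixGroups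

section Model

variable {p : ℕ} {Γ : Type} [Group Γ]

/-- The ambient torus is abelian. -/
def Ab (M : Model.{0, 0} p Γ) : Prop := ∀ a ∈ M.P.H, ∀ b ∈ M.P.H, a * b = b * a

/-- The fixed points in the unipotent group are generated by the simple root groups. -/
def Gn (M : Model.{0, 0} p Γ) {n : ℕ} (e : Fin n → M.ι) : Prop :=
  ∀ g ∈ M.P.Up, M.τ.σ g = g → g ∈ ⨆ a, M.τ.UJ (e a)

variable {M : Model.{0, 0} p Γ} {n : ℕ} {e : Fin n → M.ι}

theorem Ab.quot [Finite Γ] (h : Ab M) (Z : Subgroup Γ) [Z.Normal] [(Z.map M.j).Normal]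
    (hZ : Z ≤ M.H) : Ab (M.quot Z hZ) := by
  rintro _ ⟨a, ha, rfl⟩ _ ⟨b, hb, rfl⟩
  exact congrArg (QuotientGroup.mk' (Z.map M.j)) (h a ha b hb)

theorem Gn.quot [Finite Γ] (h : Gn M e) (Z : Subgroup Γ) [Z.Normal] [(Z.map M.j).Normal]
    (hZ : Z ≤ M.H) : Gn (M.quot Z hZ) e := by
  have hk : (QuotientGroup.mk' (Z.map M.j)).ker ≤ M.P.H := by
    rw [QuotientGroup.ker_mk']
    rintro _ ⟨z, hz, rfl⟩
    exact hZ hz
  have hU := quotSplit_U M.P _ (QuotientGroup.mk'_surjective (Z.map M.j)) hk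
  intro g hg h2
  obtain ⟨y, hy, rfl⟩ := (hU _).le hg
  have h3 : M.τ.σ y = y := inv_mul_eq_one.1 (eq_one_of_U_H (mul_mem (inv_mem (M.τ.map_Up hy)) hy)
    (hk (by
      rw [MonoidHom.mem_ker, map_mul, map_inv, inv_mul_eq_one]
      exact h2)))
  have h4 : (⨆ a, M.τ.UJ (e a)) ≤
      (⨆ a, (M.quot Z hZ).τ.UJ (e a)).comap (QuotientGroup.mk' (Z.map M.j)) :=
    iSup_le fun a x hx => Subgroup.mem_iSup_of_mem a
      ⟨(hU _).ge ⟨x, hx.1, rfl⟩, congrArg (QuotientGroup.mk' (Z.map M.j)) hx.2⟩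
  exact h4 (h y hy h3)

theorem Gn.gen (h : Gn M e) : ⨆ a, M.UJ (e a) = M.U := by
  refine le_antisymm (iSup_le fun a => M.UJ_le_U _) fun u hu => ?_
  have h4 : (⨆ a, M.τ.UJ (e a)) ≤ (⨆ a, M.UJ (e a)).map M.j := iSup_le fun a x hx => by
    obtain ⟨x, rfl⟩ := M.exists_of_G1 (M.τ.UJ_le_G1 _ hx)
    exact ⟨x, Subgroup.mem_iSup_of_mem a hx, rfl⟩
  obtain ⟨x, hx, e⟩ := h4 (h _ hu (M.j_mem_fix u))
  exact M.inj e ▸ hx

theorem sys [Finite Γ] [IsSimpleGroup Γ] [Fact p.Prime] {A : Fin n → Fin n → ℕ} {q : Fin n → ℕ}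
    (h : MD M A q e) (hA : ∀ a b, A a b = 1 → a = b) (hb : Ab M) :
    ∃ S : Sys Γ p n, (∀ a b, S.m a b = A a b) ∧ (∀ a, S.q a = q a) ∧ (Gn M e → S.Gen) := by
  obtain ⟨S, h1, h2, h3, h4⟩ := H86.CksExt.ext M h hA fun a ha b hb' =>
    M.inj (by rw [map_mul, map_mul, hb _ ha _ hb'])
  exact ⟨S, h1, h2, fun g => by simp only [Sys.Gen, h3, h4, g.gen]⟩

end Model

section Mat

variable {K : Type} [Field K] {φ : K →+* K}

theorem fixI {n : ℕ} {g : SL(n, K)} : σU φ g = g ↔ g * σU φ g⁻¹ = 1 := by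
  rw [map_inv, mul_inv_eq_one, eq_comm]

theorem red {n : ℕ} {Y : Subgroup SL(n, K)} (hY : ∀ y ∈ Y, σU φ y = y) {y g : SL(n, K)}
    (hy : y ∈ Y) (hg : σU φ g = g) (h : σU φ (y * g) = y * g → y * g ∈ Y) : g ∈ Y :=
  (mul_mem_cancel_left hy).1 (h (by rw [map_mul, hY y hy, hg]))

/-- Unitriangular matrices of degree four. -/
def T4 (a b c d e f : K) : SL(4, K) :=
  ⟨!![1, a, b, c; 0, 1, d, e; 0, 0, 1, f; 0, 0, 0, 1], by
    rw [Matrix.det_of_isUpperTriangular (by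
      intro i j h; fin_cases i <;> fin_cases j <;> first | rfl | exact absurd h (by decide))]
    simp [Fin.prod_univ_succ]⟩

theorem T4_mul (a b c d e f a' b' c' d' e' f' : K) : T4 a b c d e f * T4 a' b' c' d' e' f' =
    T4 (a + a') (b + a * d' + b') (c + a * e' + b * f' + c') (d + d') (e + d * f' + e') (f + f') :=
  Subtype.ext (by
    rw [Matrix.SpecialLinearGroup.coe_mul]
    ext i j
    fin_cases i <;> fin_cases j <;> simp [T4, Matrix.mul_apply, Fin.sum_univ_succ] <;> ring1)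

theorem T4_zero : T4 (0 : K) 0 0 0 0 0 = 1 := Subtype.ext (by
  ext i j
  fin_cases i <;> fin_cases j <;> rfl)

theorem T4_σ (a b c d e f : K) :
    σU φ (T4 a b c d e f)⁻¹ = T4 (φ f) (φ e) (φ c) (φ d) (φ b) (φ a) := Subtype.ext (by
  ext i j
  rw [σU_apply, inv_inv]
  fin_cases i <;> fin_cases j <;> first | rfl | exact map_one φ | exact map_zero φ)

theorem fix4 {a b c d e f : K} (h : σU φ (T4 a b c d e f) = T4 a b c d e f) :
    f + φ a = 0 ∧ e + d * φ a + φ b = 0 ∧ c + a * φ b + b * φ a + φ c = 0 ∧ d + φ d = 0 := by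
  rw [fixI, T4_σ, T4_mul, ← T4_zero] at h
  have k := fun i j => congrArg (fun g : SL(4, K) => g.1 i j) h
  exact ⟨k 2 3, k 1 3, k 0 3, k 1 2⟩

theorem gen4 (hφ : IsInvol φ) {Y : Subgroup SL(4, K)} (hY : ∀ y ∈ Y, σU φ y = y)
    (h0 : ∀ t, T4 t 0 0 0 0 (-φ t) ∈ Y) (h1 : ∀ u, u + φ u = 0 → T4 0 0 0 u 0 0 ∈ Y)
    {a b c d e f : K} (h : σU φ (T4 a b c d e f) = T4 a b c d e f) : T4 a b c d e f ∈ Y := by
  obtain ⟨u, u0, hu⟩ := hφ.exists_skew
  obtain ⟨l, hl⟩ := hφ.exists_trace_eq (map_one φ)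
  have a2 : ∀ s, ∃ c e, T4 0 s c 0 e 0 ∈ Y := fun s => by
    have := mul_mem (mul_mem (mul_mem (h0 (s / u)) (h1 u (by rw [hu, add_neg_cancel])))
      (h0 (-(s / u)))) (h1 (-u) (by rw [map_neg, hu, neg_neg, neg_add_cancel]))
    simp only [T4_mul, add_zero, zero_add, mul_zero, zero_mul, add_neg_cancel, neg_add_cancel,
      map_neg, neg_neg, div_mul_cancel₀ s u0] at this
    exact ⟨_, _, this⟩
  have l3 : ∀ c e, σU φ (T4 0 0 c 0 e 0) = T4 0 0 c 0 e 0 → T4 0 0 c 0 e 0 ∈ Y := fun c e h => by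
    obtain ⟨-, k1, k2, -⟩ := fix4 h
    obtain ⟨c', e', hy⟩ := a2 (c * l)
    obtain ⟨-, k3, -⟩ := fix4 (hY _ hy)
    simp only [map_zero, map_mul, add_zero, mul_zero] at k1 k2 k3
    refine (mul_mem_cancel_right (mul_mem hy (h0 1))).1 ?_
    convert mul_mem (h0 1) hy using 1
    simp only [T4_mul, map_one, k1]
    congr 1 <;> first | ring1 | linear_combination -c * hl - k3 + φ l * k2
  have l2 : ∀ b c e, σU φ (T4 0 b c 0 e 0) = T4 0 b c 0 e 0 → T4 0 b c 0 e 0 ∈ Y := fun b c e h => by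
    obtain ⟨c', e', hy⟩ := a2 (-b)
    refine red hY hy h fun h => ?_
    simp only [T4_mul, add_zero, mul_zero, neg_add_cancel] at h ⊢
    exact l3 _ _ h
  have l1 : ∀ b c d e, σU φ (T4 0 b c d e 0) = T4 0 b c d e 0 → T4 0 b c d e 0 ∈ Y :=
    fun b c d e h => by
      refine red hY (h1 (-d) (by rw [map_neg, ← neg_add, (fix4 h).2.2.2, neg_zero])) h fun h => ?_
      simp only [T4_mul, add_zero, neg_add_cancel] at h ⊢
      exact l2 _ _ _ h
  obtain rfl : f = -φ a := eq_neg_of_add_eq_zero_left (fix4 h).1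
  refine red hY (h0 (-a)) h fun h => ?_
  simp only [T4_mul, neg_add_cancel, map_neg, neg_neg, add_neg_cancel] at h ⊢
  exact l1 _ _ _ _ h

/-- Unitriangular matrices of degree five. -/
def T5 (a b c d e f g h i j : K) : SL(5, K) :=
  ⟨!![1, a, b, c, d; 0, 1, e, f, g; 0, 0, 1, h, i; 0, 0, 0, 1, j; 0, 0, 0, 0, 1], by
    rw [Matrix.det_of_isUpperTriangular (by
      intro i j h; fin_cases i <;> fin_cases j <;> first | rfl | exact absurd h (by decide))]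
    simp [Fin.prod_univ_succ]⟩

theorem T5_mul (a b c d e f g h i j a' b' c' d' e' f' g' h' i' j' : K) :
    T5 a b c d e f g h i j * T5 a' b' c' d' e' f' g' h' i' j' =
      T5 (a + a') (b + a * e' + b') (c + a * f' + b * h' + c') (d + a * g' + b * i' + c * j' + d')
        (e + e') (f + e * h' + f') (g + e * i' + f * j' + g') (h + h') (i + h * j' + i') (j + j') :=
  Subtype.ext (by
    rw [Matrix.SpecialLinearGroup.coe_mul]
    ext i j
    fin_cases i <;> fin_cases j <;> simp [T5, Matrix.mul_apply, Fin.sum_univ_succ] <;> ring1)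

theorem T5_zero : T5 (0 : K) 0 0 0 0 0 0 0 0 0 = 1 := Subtype.ext (by
  ext i j
  fin_cases i <;> fin_cases j <;> rfl)

theorem T5_σ (a b c d e f g h i j : K) : σU φ (T5 a b c d e f g h i j)⁻¹ =
    T5 (φ j) (φ i) (φ g) (φ d) (φ h) (φ f) (φ c) (φ e) (φ b) (φ a) := Subtype.ext (by
  ext i j
  rw [σU_apply, inv_inv]
  fin_cases i <;> fin_cases j <;> first | rfl | exact map_one φ | exact map_zero φ)

theorem fix5 {a b c d e f g h i j : K}
    (H : σU φ (T5 a b c d e f g h i j) = T5 a b c d e f g h i j) :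
    j + φ a = 0 ∧ h + φ e = 0 ∧ i + h * φ a + φ b = 0 ∧ f + e * φ e + φ f = 0 ∧
      g + e * φ b + f * φ a + φ c = 0 ∧ d + a * φ c + b * φ b + c * φ a + φ d = 0 := by
  rw [fixI, T5_σ, T5_mul, ← T5_zero] at H
  have k := fun i j => congrArg (fun g : SL(5, K) => g.1 i j) H
  exact ⟨k 3 4, k 2 3, k 2 4, k 1 3, k 1 4, k 0 4⟩

theorem gen5 (hφ : IsInvol φ) {Y : Subgroup SL(5, K)} (hY : ∀ y ∈ Y, σU φ y = y)
    (h0 : ∀ t, T5 t 0 0 0 0 0 0 0 0 (-φ t) ∈ Y)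
    (h1 : ∀ u f, f + u * φ u + φ f = 0 → T5 0 0 0 0 u f 0 (-φ u) 0 0 ∈ Y)
    {a b c d e f g h i j : K} (H : σU φ (T5 a b c d e f g h i j) = T5 a b c d e f g h i j) :
    T5 a b c d e f g h i j ∈ Y := by
  obtain ⟨u, u0, hu⟩ := hφ.exists_skew
  obtain ⟨l, hl⟩ := hφ.exists_trace_eq (map_one φ)
  have h2 : ∀ f, f + φ f = 0 → T5 0 0 0 0 0 f 0 0 0 0 ∈ Y := fun f hf => by
    simpa using h1 0 f (by simpa using hf)
  have h3 : ∀ u, ∃ f, T5 0 0 0 0 u f 0 (-φ u) 0 0 ∈ Y := fun u => by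
    obtain ⟨f, hf⟩ := hφ.exists_trace_eq (a := -(u * φ u)) (by rw [map_neg, hφ.norm_fixed])
    exact ⟨f, h1 u f (by linear_combination hf)⟩
  have a3 : ∀ s, ∃ d g, T5 0 0 s d 0 0 g 0 0 0 ∈ Y := fun s => by
    have := mul_mem (mul_mem (mul_mem (h0 (s / u)) (h2 u (by rw [hu, add_neg_cancel])))
      (h0 (-(s / u)))) (h2 (-u) (by rw [map_neg, hu, neg_neg, neg_add_cancel]))
    simp only [T5_mul, add_zero, zero_add, mul_zero, zero_mul, add_neg_cancel, neg_add_cancel,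
      map_neg, neg_neg, div_mul_cancel₀ s u0] at this
    exact ⟨_, _, this⟩
  have a2 : ∀ s, ∃ c d f g i, T5 0 s c d 0 f g 0 i 0 ∈ Y := fun s => by
    obtain ⟨f, hf⟩ := h3 1
    obtain ⟨f', hf'⟩ := h3 (-1)
    have := mul_mem (mul_mem (mul_mem (h0 s) hf) (h0 (-s))) hf'
    simp only [T5_mul, add_zero, zero_add, mul_zero, zero_mul, add_neg_cancel, neg_add_cancel,
      map_neg, neg_neg, mul_one] at this
    exact ⟨_, _, _, _, _, this⟩
  have l4 : ∀ d g, σU φ (T5 0 0 0 d 0 0 g 0 0 0) = T5 0 0 0 d 0 0 g 0 0 0 →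
      T5 0 0 0 d 0 0 g 0 0 0 ∈ Y := fun d g h => by
    obtain ⟨-, -, -, -, k1, k2⟩ := fix5 h
    obtain ⟨d', g', hy⟩ := a3 (d * l)
    obtain ⟨-, -, -, -, k3, -⟩ := fix5 (hY _ hy)
    simp only [map_zero, map_mul, add_zero, mul_zero] at k1 k2 k3
    refine (mul_mem_cancel_right (mul_mem hy (h0 1))).1 ?_
    convert mul_mem (h0 1) hy using 1
    simp only [T5_mul, map_one, k1]
    congr 1 <;> first | ring1 | linear_combination -d * hl - k3 + φ l * k2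
  have l3 : ∀ c d g, σU φ (T5 0 0 c d 0 0 g 0 0 0) = T5 0 0 c d 0 0 g 0 0 0 →
      T5 0 0 c d 0 0 g 0 0 0 ∈ Y := fun c d g h => by
    obtain ⟨d', g', hy⟩ := a3 (-c)
    refine red hY hy h fun h => ?_
    simp only [T5_mul, add_zero, mul_zero, neg_add_cancel] at h ⊢
    exact l4 _ _ h
  have l2' : ∀ c d f g i, σU φ (T5 0 0 c d 0 f g 0 i 0) = T5 0 0 c d 0 f g 0 i 0 →
      T5 0 0 c d 0 f g 0 i 0 ∈ Y := fun c d f g i h => by
    obtain ⟨-, -, k1, k2, -⟩ := fix5 h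
    simp only [map_zero, add_zero, mul_zero] at k1 k2
    subst k1
    refine red hY (h2 (-f) (by rw [map_neg, ← neg_add, k2, neg_zero])) h fun h => ?_
    simp only [T5_mul, add_zero, mul_zero, neg_add_cancel] at h ⊢
    exact l3 _ _ _ h
  have l2 : ∀ b c d f g i, σU φ (T5 0 b c d 0 f g 0 i 0) = T5 0 b c d 0 f g 0 i 0 →
      T5 0 b c d 0 f g 0 i 0 ∈ Y := fun b c d f g i h => by
    obtain ⟨_, _, _, _, _, hy⟩ := a2 (-b)
    refine red hY hy h fun h => ?_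
    simp only [T5_mul, add_zero, mul_zero, neg_add_cancel] at h ⊢
    exact l2' _ _ _ _ _ h
  have l1 : ∀ b c d e f g h i, σU φ (T5 0 b c d e f g h i 0) = T5 0 b c d e f g h i 0 →
      T5 0 b c d e f g h i 0 ∈ Y := fun b c d e f g h i H => by
    obtain rfl : h = -φ e := eq_neg_of_add_eq_zero_left (fix5 H).2.1
    obtain ⟨_, hy⟩ := h3 (-e)
    refine red hY hy H fun h => ?_
    simp only [T5_mul, add_zero, neg_add_cancel, map_neg, neg_neg, add_neg_cancel] at h ⊢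
    exact l2 _ _ _ _ _ _ h
  obtain rfl : j = -φ a := eq_neg_of_add_eq_zero_left (fix5 H).1
  refine red hY (h0 (-a)) H fun h => ?_
  simp only [T5_mul, neg_add_cancel, map_neg, neg_neg, add_neg_cancel] at h ⊢
  exact l1 _ _ _ _ _ _ _ _ h

variable (hφ : IsInvol φ)

/-- Generation in the special unitary group. -/
def GU (m : ℕ) {n : ℕ} (hn : n ≤ m) : Prop := ∀ g ∈ (rdlA m K).split.Up, σU φ g = g →
  g ∈ ⨆ a : Fin n, (twistA m φ hφ).UJ (a.castLE hn)

theorem fixU {m n : ℕ} (hn : n ≤ m) :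
    ∀ y ∈ ⨆ a : Fin n, (twistA m φ hφ).UJ (a.castLE hn), σU φ y = y :=
  fun _ h => (iSup_le fun _ => inf_le_right :
    ⨆ a : Fin n, (twistA m φ hφ).UJ (a.castLE hn) ≤ (twistA m φ hφ).fix) h

theorem gu4 : GU hφ 3 (n := 2) (by omega) := fun g hg H => by
  have h1 := unitri_of_mem (fun r g => (mem_parHom_range _ g).1) hg
  obtain ⟨a, b, c, d, e, f, rfl⟩ : ∃ a b c d e f, g = T4 a b c d e f :=
    ⟨g.1 0 1, g.1 0 2, g.1 0 3, g.1 1 2, g.1 1 3, g.1 2 3, Subtype.ext (by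
      ext i j
      fin_cases i <;> fin_cases j <;> first | rfl | exact h1 _ _ (by decide))⟩
  have x : ∀ t : K, xA ((sysA 3).α 0) t = T4 t 0 0 0 0 0 ∧ xA ((sysA 3).α 1) t = T4 0 0 0 t 0 0 ∧
      xA ((sysA 3).α 2) t = T4 0 0 0 0 0 t := fun t => by
    refine ⟨?_, ?_, ?_⟩ <;> refine Subtype.ext ?_ <;> ext i j <;> fin_cases i <;> fin_cases j <;>
      simp [coe_xA, sysA, T4]
  refine gen4 hφ (fixU hφ _) (fun t => Subgroup.mem_iSup_of_mem 0 ((mem_UJ hφ).2 ⟨?_, ?_⟩))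
    (fun u hu => Subgroup.mem_iSup_of_mem 1 ((mem_UJ hφ).2 ⟨?_, ?_⟩)) H
  · have := mul_mem (α_mem (K := K) ((symA 3).mem_orb_self 0) t) (α_mem (rev_mem 0) (-φ t))
    rw [(x _).1, show (0 : Fin 3).rev = 2 from rfl, (x _).2.2] at this
    simpa [T4_mul] using this
  · rw [fixI, T4_σ, T4_mul, ← T4_zero]
    simp [hφ.invol]
  · exact (x u).2.1 ▸ α_mem (K := K) ((symA 3).mem_orb_self 1) u
  · rw [fixI, T4_σ, T4_mul, ← T4_zero]
    simp [hu]

theorem gu5 : GU hφ 4 (n := 2) (by omega) := fun g hg H => by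
  have h1 := unitri_of_mem (fun r g => (mem_parHom_range _ g).1) hg
  obtain ⟨a, b, c, d, e, f, g, h, i, j, rfl⟩ : ∃ a b c d e f g' h i j,
      g = T5 a b c d e f g' h i j :=
    ⟨g.1 0 1, g.1 0 2, g.1 0 3, g.1 0 4, g.1 1 2, g.1 1 3, g.1 1 4, g.1 2 3, g.1 2 4, g.1 3 4,
      Subtype.ext (by
        ext i j
        fin_cases i <;> fin_cases j <;> first | rfl | exact h1 _ _ (by decide))⟩
  have x : ∀ t : K, xA ((sysA 4).α 0) t = T5 t 0 0 0 0 0 0 0 0 0 ∧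
      xA ((sysA 4).α 1) t = T5 0 0 0 0 t 0 0 0 0 0 ∧
      xA ((sysA 4).α 2) t = T5 0 0 0 0 0 0 0 t 0 0 ∧
      xA ((sysA 4).α 3) t = T5 0 0 0 0 0 0 0 0 0 t := fun t => by
    refine ⟨?_, ?_, ?_, ?_⟩ <;> refine Subtype.ext ?_ <;> ext i j <;> fin_cases i <;>
      fin_cases j <;> simp [coe_xA, sysA, T5]
  refine gen5 hφ (fixU hφ _) (fun t => Subgroup.mem_iSup_of_mem 0 ((mem_UJ hφ).2 ⟨?_, ?_⟩))
    (fun u f hu => Subgroup.mem_iSup_of_mem 1 ((mem_UJ hφ).2 ⟨?_, ?_⟩)) H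
  · have := mul_mem (α_mem (K := K) ((symA 4).mem_orb_self 0) t) (α_mem (rev_mem 0) (-φ t))
    rw [(x _).1, show (0 : Fin 4).rev = 3 from rfl, (x _).2.2.2] at this
    simpa [T5_mul] using this
  · rw [fixI, T5_σ, T5_mul, ← T5_zero]
    simp [hφ.invol]
  · have k1 := fun t => (x t).2.1 ▸ α_mem (K := K) ((symA 4).mem_orb_self 1) t
    have k2 := fun t => (x t).2.2.1 ▸ α_mem (K := K) (j := 2) (rev_mem (1 : Fin 4)) t
    have := mul_mem (mul_mem (mul_mem (mul_mem (mul_mem (k1 u) (k2 (-φ u))) (k1 (f + u * φ u)))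
      (k2 1)) (k1 (-(f + u * φ u)))) (k2 (-1))
    simp only [Nat.reduceAdd, T5_mul] at this
    convert this using 1 <;> first | rfl | (congr 1 <;> ring1)
  · rw [fixI, T5_σ, T5_mul, ← T5_zero]
    simp [hφ.invol, hu]

end Mat

open Matrix in
theorem has {K : Type} [Field K] [Fintype K] (p : ℕ) [Fact p.Prime] [CharP K p] {r : ℕ}
    (hF : Fintype.card K = r ^ 2) (n m N : ℕ) (hN : m + 1 = N) (hm : m + 1 = 2 * n ∨ m = 2 * n)
    (h2 : 2 ≤ m) (hn : n ≤ m) (hs : ¬ (m + 1 = 3 ∧ r = 2)) : ∃ S : Sys (PSU N K r) p n,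
      (∀ a b, S.m a b = tm n Lead.T3.parA (n - 1) a b) ∧
      (∀ a, S.q a = qC n (r ^ 2) (if m = 2 * n then r ^ 3 else r) a) ∧
      ((∀ (φ : K →+* K) (hφ : IsInvol φ), GU hφ m hn) → S.Gen) := by
  subst hN
  have hφ := isInvol_frobQ hF
  obtain ⟨e⟩ := (isHerm_antiB (n := m + 1) _ hφ).nonempty_sisom_equiv_SU hF
    (fun _ => rfl) (Module.finrank_fin_fun _)
  have ht : ∀ a, frobQ hF a = a → Nat.card {x : K // x + frobQ hF x = a} = r := fun a ha =>
    card_trace_eq hF (fun _ => rfl) ha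
  generalize frobQ hF = φ at hφ e ht
  have : Nonempty (Fin m) := ⟨⟨0, by omega⟩⟩
  have hj : Function.Injective (sisomSL φ (antiB φ (m + 1))) := fun g h e =>
    Subtype.ext (LinearEquiv.ext fun x => by rw [← sisomSL_mulVec, e, sisomSL_mulVec])
  have := Finite.of_injective _ hj
  let M : Model.{0, 0} p (sisom (antiB φ (m + 1))) := (rdlA m K).model (coordA_conn (by omega))
    (fun r _ => (H80.parA K m).isPGroup r) diagA_noTors (twistA m φ hφ) coordA_compat (sisomSL φ _) hj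
    (fun g hg => ⟨⟨SpecialLinearGroup.toLin' g, mem_sisom'.2
      ⟨(σU_eq_iff φ hφ g).1 (Split.Twist.G1_le_fix _ hg), by
        rw [SpecialLinearGroup.toLin'_to_linearMap, LinearMap.det_toLin', g.2]⟩⟩,
      Subtype.ext (matrix_ext_mulVec fun x => sisomSL_mulVec _ _ _ _)⟩) (by
    rintro _ ⟨g, rfl⟩
    refine (σU_eq_iff φ hφ _).2 fun x y => ?_
    rw [sisomSL_mulVec, sisomSL_mulVec]
    exact g.2.1 x y)
  have hZ : ∀ z ∈ Subgroup.center _, M.j z ∈ Subgroup.center M.G := fun z hz => by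
    obtain ⟨a, ha⟩ := ((isHerm_antiB φ hφ).mem_center_sisom_iff (by simp; omega)).1 hz
    refine Subgroup.mem_center_iff.2 fun g : SL(m + 1, K) => Subtype.ext
      (matrix_ext_mulVec fun x => ?_)
    change (g.1 * (sisomSL φ _ z).1) *ᵥ x = ((sisomSL φ _ z).1 * g.1) *ᵥ x
    rw [← mulVec_mulVec, ← mulVec_mulVec, sisomSL_mulVec, sisomSL_mulVec, ha, ha, mulVec_smul]
  have md : MD M (tm n Lead.T3.parA (n - 1)) (qC n (r ^ 2) (if m = 2 * n then r ^ 3 else r))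
      (Fin.castLE hn) := by
    refine ⟨fun i : Fin m => ?_, ord_all hm hn, fun a => ?_⟩
    · by_cases h : (i : ℕ) < n
      · exact ⟨⟨i, h⟩, (symA m).mem_orb_self i⟩
      · have hr : (i.rev : ℕ) = m - (i + 1) := Fin.val_rev i
        have := rev_mem i.rev
        rw [Fin.rev_rev] at this
        exact ⟨⟨i.rev, by omega⟩, this⟩
    · change Nat.card ((twistA m φ hφ).UJ (a.castLE hn)) = _
      have hr : ((a.castLE hn).rev : ℕ) = m - (a + 1) := Fin.val_rev _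
      have ha := a.2
      rw [qC]
      split_ifs with h1 h2
      · rw [card_B hφ (by rw [hr, Fin.val_castLE]; omega), Nat.card_sigma,
          Finset.sum_congr rfl fun t _ => ht _ (hφ.norm_fixed t), Finset.sum_const, Finset.card_univ,
          hF, smul_eq_mul, ← pow_succ]
      · rw [card_A hφ (Fin.ext (by rw [hr, Fin.val_castLE]; omega)), ht _ (map_zero φ)]
      · rw [card_C hφ (by rw [hr, Fin.val_castLE]; omega), Nat.card_eq_fintype_card, hF]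
  have ab : Ab M := by
    rintro (a : SL(m + 1, K)) ⟨c, hc⟩ (b : SL(m + 1, K)) ⟨d, hd⟩
    exact Subtype.ext (Matrix.ext fun i j => ((hc.mul hd) i j).trans
      (Eq.trans (by simp [mul_comm]) ((hd.mul hc) i j).symm))
  have := isSimpleGroup_PSU hF (n := m + 1) (by omega) hs
  haveI := normal_map_center hZ
  obtain ⟨S, k1, k2, k3⟩ := sys ((md.quotZ hZ).ofEquiv (quotientCenterCongr e).symm)
    (fun _ _ => tm_eq_one) (ab.quot _ M.center_le_H)
  exact ⟨S, k1, k2, fun h => k3 (Gn.quot (M := M) (h φ hφ) _ M.center_le_H)⟩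

theorem mdu : MduStmt := fun _ _ _ p _ _ r hF n h3 => by
  obtain ⟨S, h1, h2, -⟩ := has p hF n (2 * n) _ rfl (by omega) (by omega) (by omega) (by omega)
  refine ⟨?_, S, h1, by simpa using h2⟩
  obtain ⟨S, h1, h2, -⟩ := has p hF n (2 * n - 1) (2 * n) (by omega) (by omega) (by omega)
    (by omega) (by omega)
  exact ⟨S, h1, by simpa [show 2 * n - 1 ≠ 2 * n by omega] using h2⟩

theorem mdv : MdvStmt := fun _ _ _ p _ _ r hF => by
  refine ⟨?_, ?_, fun h => ?_⟩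
  · obtain ⟨S, h1, -, h3⟩ := has p hF 2 3 4 rfl (by omega) (by omega) (by omega) (by omega)
    exact ⟨S, h1 0 1, fun _ => h3 fun _ => gu4⟩
  · obtain ⟨S, h1, -, h3⟩ := has p hF 2 4 5 rfl (by omega) (by omega) (by omega) (by omega)
    exact ⟨S, h1 0 1, fun _ => h3 fun _ => gu5⟩
  · obtain ⟨S, -, h2, -⟩ := has p hF 1 2 3 rfl (by omega) (by omega) (by omega) (by omega)
    exact ⟨S, h2 0⟩

end Cfsg.Agent.H23.CkU
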