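import Mathlib
import Cfsg.Agent.H24.Deg
import Cfsg.Agent.H23.Zeros

/-!
# Codegrees of irreducible characters
-/

namespace Cfsg.Agent.H23

open Cfsg

variable {G : Type*} [Group G] [Finite G]

theorem charKer_eq_bot_of_faithful {χ : G → ℂ} (hf : ∀ g : G, χ g = χ 1 → g = 1) :
    H11.charKer χ = ⊥ :=
  (Subgroup.eq_bot_iff_forall _).2 fun g hg => hf g (H11.apply_eq_of_mem_charKer hg)

theorem faithful_of_charKer_eq_bot {χ : G → ℂ} (hχ : IsCharacter G χ) (h : H11.charKer χ = ⊥)
    (g : G) (hg : χ g = χ 1) : g = 1 := by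
  rw [← H11.mem_charKer_iff hχ, h] at hg
  exact hg

theorem card_ker_eq {χ : G → ℂ} (hχ : IsCharacter G χ) :
    Nat.card {g : G // χ g = χ 1} = Nat.card (H11.charKer χ) :=
  Nat.card_congr (Equiv.subtypeEquivRight fun _ => (H11.mem_charKer_iff hχ).symm)

theorem deg_dvd_index_of_le_charKer {χ : G → ℂ} (hχ : IsIrrCharacter G χ) (N : Subgroup G)
    [N.Normal] (h : N ≤ H11.charKer χ) : charDegree χ ∣ N.index :=
  H24.dvd_card_of_mem_cd (H24.deg_mem_cd_quotient hχ N h)

theorem deg_dvd_index_charKer {χ : G → ℂ} (hχ : IsIrrCharacter G χ) :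
    charDegree χ ∣ (H11.charKer χ).index :=
  haveI := H11.charKer_normal (H11.isClassFunction_of_irr hχ)
  deg_dvd_index_of_le_charKer hχ _ le_rfl

/-- The codegree in the form used by the statements. -/
theorem codeg_eq {χ : G → ℂ} (hχ : IsIrrCharacter G χ) :
    Nat.card G / (Nat.card {g : G // χ g = χ 1} * charDegree χ) =
      (H11.charKer χ).index / charDegree χ := by
  rw [card_ker_eq (H11.isCharacter_of_irr hχ), ← Nat.div_div_eq_div_mul,
    ← (H11.charKer χ).card_mul_index, Nat.mul_div_cancel_left _ Nat.card_pos]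

theorem codeg_mul_deg {χ : G → ℂ} (hχ : IsIrrCharacter G χ) :
    Nat.card G / (Nat.card {g : G // χ g = χ 1} * charDegree χ) * charDegree χ =
      (H11.charKer χ).index := by
  rw [codeg_eq hχ, Nat.div_mul_cancel (deg_dvd_index_charKer hχ)]

/-- The faithful irreducible character of the quotient by the kernel. -/
theorem exists_faithful_lift {χ : G → ℂ} (hχ : IsIrrCharacter G χ) [(H11.charKer χ).Normal] :
    ∃ ψ : G ⧸ H11.charKer χ → ℂ, IsIrrCharacter _ ψ ∧ H11.charKer ψ = ⊥ ∧ ∀ g : G, ψ g = χ g := by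
  obtain ⟨ψ, hψ, h⟩ := H11.exists_irr_lift hχ _ le_rfl
  refine ⟨ψ, hψ, ?_, h⟩
  rw [Subgroup.eq_bot_iff_forall]
  intro x hx
  obtain ⟨g, rfl⟩ := QuotientGroup.mk_surjective x
  rw [QuotientGroup.eq_one_iff, H11.mem_charKer_irr_iff hχ, ← h, ← h]
  exact H11.apply_eq_of_mem_charKer hx

/-- An irreducible character of degree `|G| / p`: the Sylow `p`-subgroup is normal of order `p`
and self-centralizing. -/
theorem exists_normal_of_card_eq_prime_mul_deg {χ : G → ℂ} (hχ : IsIrrCharacter G χ) {p : ℕ}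
    (hp : p.Prime) (h : Nat.card G = p * charDegree χ) :
    charDegree χ < p ∧ ∃ P : Subgroup G, P.Normal ∧ Nat.card P = p ∧ P.index = charDegree χ ∧
      ∀ n ∈ P, n ≠ 1 → ∀ g : G, Commute g n → g ∈ P := by
  classical
  haveI := Fact.mk hp
  have hd0 := H24.deg_pos hχ
  have h1 := H24.deg_sq_le_card hχ
  have hle : charDegree χ ≤ p := by
    rw [h, sq] at h1
    exact Nat.le_of_mul_le_mul_right h1 hd0
  have hlt : charDegree χ < p := by
    refine lt_of_le_of_ne hle fun he => ?_
    have h2 : Nat.card G = p ^ 2 := by rw [h, he, sq]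
    have h3 : ∀ a b : G, a * b = b * a := fun a b =>
      (IsPGroup.isMulCommutative_of_card_eq_prime_sq h2).is_comm.comm a b
    have h4 := H11.irr_apply_one_of_comm h3 hχ
    rw [H24.deg_eq (n := 1) (by simpa using h4)] at he
    exact hp.one_lt.ne he
  have hnd : ¬ p ∣ charDegree χ := fun hd => absurd (Nat.le_of_dvd hd0 hd) (not_le.2 hlt)
  obtain ⟨P⟩ : Nonempty (Sylow p G) := inferInstance
  have hcard : Nat.card (P : Subgroup G) = p := by
    rw [P.card_eq_multiplicity, h, Nat.factorization_mul hp.ne_zero hd0.ne']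
    simp [hp.factorization_self, Nat.factorization_eq_zero_of_not_dvd hnd]
  have hidx : (P : Subgroup G).index = charDegree χ := by
    have := (P : Subgroup G).card_mul_index
    rw [hcard, h] at this
    exact Nat.eq_of_mul_eq_mul_left hp.pos this
  have hn : Nat.card (Sylow p G) = 1 := by
    have h2 := P.card_dvd_index
    have h3 := card_sylow_modEq_one p G
    rw [hidx] at h2
    have h4 : Nat.card (Sylow p G) < p := lt_of_le_of_lt (Nat.le_of_dvd hd0 h2) hlt
    exact h3.eq_of_lt_of_lt h4 hp.one_lt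
  haveI : Subsingleton (Sylow p G) := (Nat.card_eq_one_iff_unique.1 hn).1
  have hPn : (P : Subgroup G).Normal := Sylow.normal_of_subsingleton P
  refine ⟨hlt, P, hPn, hcard, hidx, fun n hn hn1 g hg => ?_⟩
  have hgen : Subgroup.zpowers n = P := by
    have h2 : Subgroup.zpowers n ≤ P := (Subgroup.zpowers_le_of_mem hn)
    refine Subgroup.eq_of_le_of_card_ge h2 ?_
    have h3 := Subgroup.card_dvd_of_le h2
    rw [hcard] at h3 ⊢
    rcases (Nat.dvd_prime hp).1 h3 with h4 | h4
    · exact absurd (by simpa using h4) hn1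
    · exact h4.ge
  let A : Subgroup G := Subgroup.closure {n, g}
  have hA : ∀ a ∈ A, ∀ b ∈ A, a * b = b * a := fun a ha b hb => by
    have := Subgroup.isMulCommutative_closure (k := {n, g}) (by
      rintro x (rfl | rfl) y (rfl | rfl)
      · rfl
      · exact hg.symm
      · exact hg
      · rfl)
    exact congrArg Subtype.val (this.is_comm.comm (⟨a, ha⟩ : A) ⟨b, hb⟩)
  have hPA : (P : Subgroup G) ≤ A := by
    rw [← hgen]
    exact Subgroup.zpowers_le_of_mem (Subgroup.subset_closure (by simp))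
  have h5 := H24.deg_le_index_of_comm hχ A hA
  have h6 : A = P := by
    refine (Subgroup.eq_of_le_of_card_ge hPA ?_).symm
    have h7 := A.card_mul_index
    have h8 := (P : Subgroup G).card_mul_index
    rw [hidx] at h8
    have h9 : Nat.card A * charDegree χ ≤ Nat.card (P : Subgroup G) * charDegree χ := by
      rw [h8, ← h7]; exact Nat.mul_le_mul_left _ h5
    exact Nat.le_of_mul_le_mul_right h9 hd0
  rw [← h6]
  exact Subgroup.subset_closure (by simp)

end Cfsg.Agent.H23
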