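import Mathlib
import Cfsg.Agent.H23.MultDeg
import Cfsg.Agent.H4.CoprimeGen

/-!
# Fully ramified characters and Sylow subgroups (DeMeyer–Janusz, Howlett–Isaacs)
-/

namespace Cfsg.Agent.H23

open Cfsg Subgroup

variable {Γ : Type*} [Group Γ] [Finite Γ]

/-- A fully ramified character stays fully ramified in a Sylow subgroup. -/
theorem fullram_sylow {Z S G : Subgroup Γ} (h₁ : Z ≤ S) (h₂ : S ≤ G)
    (hn : G ≤ normalizer (Z : Set Γ)) {θ : IrrCharacter Z} (hθ : InvBy Z G θ.1)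
    {χ : IrrCharacter G} (he : mult (h₁.trans h₂) χ θ ^ 2 = Z.relIndex G) {p a : ℕ} (hp : p.Prime)
    (hS : Z.relIndex S = p ^ a) (hcop : ¬ p ∣ S.relIndex G) {η : IrrCharacter S}
    (hη : mult h₁ η θ ≠ 0) : mult h₁ η θ ^ 2 = Z.relIndex S := by
  have he0 : mult (h₁.trans h₂) χ θ ≠ 0 := fun h0 => by
    rw [h0] at he; exact relIndex_ne_zero' Z G (by simpa using he.symm)
  have h1 := mult_mul_deg_eq_of_unique h₂ (χ := χ) (ξ := η) fun χ' h =>
    unique_of_mult_sq_eq _ hn hθ he (mult_trans_ne_zero h₁ h₂ h hη)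
  rw [deg_eq_mult_mul _ hn he0 hθ, deg_eq_mult_mul h₁ (h₂.trans hn) hη (hθ.mono h₂),
    ← mul_assoc, ← mul_assoc] at h1
  have h2 := Nat.eq_of_mul_eq_mul_right (H24.deg_pos θ.2) h1
  rw [← relIndex_mul_relIndex Z S G h₁ h₂, hS] at he
  have h3 : mult h₂ χ η ^ 2 * p ^ a = S.relIndex G * mult h₁ η θ ^ 2 := by
    apply Nat.eq_of_mul_eq_mul_right (relIndex_pos' S G)
    rw [mul_assoc, ← he, ← mul_pow, h2]; ring
  have h4 : p ^ a ∣ mult h₁ η θ ^ 2 :=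
    (Nat.Coprime.pow_left a ((Nat.Prime.coprime_iff_not_dvd hp).2 hcop)).dvd_of_dvd_mul_left
      ⟨_, by rw [← h3, mul_comm]⟩
  refine le_antisymm (mult_sq_le h₁ (h₂.trans hn) (hθ.mono h₂) η) ?_
  rw [hS]
  exact Nat.le_of_dvd (pow_pos (Nat.pos_of_ne_zero hη) 2) h4

/-- If `η` is the only irreducible character over `μ`, then `a² |S : I| = |S : Q|`. -/
theorem mult_sq_mul_relIndex {Q S : Subgroup Γ} (h : Q ≤ S) (hn : S ≤ normalizer (Q : Set Γ))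
    {η : IrrCharacter S} {μ : IrrCharacter Q} (hu : ∀ η', mult h η' μ ≠ 0 → η' = η) :
    mult h η μ ^ 2 * (invStab Q μ.1).relIndex S = Q.relIndex S := by
  obtain ⟨η', h0⟩ := exists_over h μ
  obtain rfl := hu η' h0
  have h1 := mult_mul_deg_eq_of_unique h hu
  rw [deg_eq_clifford h hn h0] at h1
  apply Nat.eq_of_mul_eq_mul_right (H24.deg_pos μ.2)
  rw [← h1]; ring

omit [Finite Γ] in
theorem le_normalizer_inf_of_normal (S K : Subgroup Γ) [hK : K.Normal] :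
    S ≤ normalizer ((S ⊓ K : Subgroup Γ) : Set Γ) := fun s hs => mem_normalizer_iff.2 fun x =>
  ⟨fun h => mem_inf.2 ⟨mul_mem (mul_mem hs (mem_inf.1 h).1) (inv_mem hs), hK.conj_mem _ h.2 s⟩,
    fun h => mem_inf.2
    ⟨by simpa [mul_assoc] using mul_mem (mul_mem (inv_mem hs) (mem_inf.1 h).1) hs,
      by simpa [mul_assoc] using hK.conj_mem _ h.2 s⁻¹⟩⟩

omit [Finite Γ] in
theorem relIndex_dvd_index_of_normal (S K : Subgroup Γ) [K.Normal] : S.relIndex K ∣ S.index := by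
  rw [H4.relIndex_eq_of_mul (X := K) (K := K ⊔ S) (C := S) le_sup_left fun k hk => by
    obtain ⟨n, hn, c, hc, e⟩ := (H4.mem_sup_iff_of_le_normalizer le_normalizer').1 hk
    exact ⟨n, hn, c, hc, e⟩]
  exact relIndex_dvd_index_of_le le_sup_right

/-- The main step: a complement to the Sylow subgroup `SK/K`. -/
theorem exists_complement_of_mult_eq_one {Z K S Q : Subgroup Γ} [Z.Normal] [hK : K.Normal]
    (hQ : Q = S ⊓ K) (hZQ : Z ≤ Q) (hQS : Q ≤ S) {p : ℕ} (hp : p.Prime)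
    (hS : ∀ x ∈ S, ∃ k, x ^ p ^ k ∈ Z)
    (hcop : ¬ p ∣ S.index) {θ : IrrCharacter Z} (hθ : InvBy Z ⊤ θ.1) {η : IrrCharacter S}
    (hu : ∀ η', mult (hZQ.trans hQS) η' θ ≠ 0 → η' = η) {μ : IrrCharacter Q}
    (hμ : mult hZQ μ θ ≠ 0) (ha : mult hQS η μ = 1) :
    ∃ M : Subgroup (Γ ⧸ K), M.IsComplement' (S.map (QuotientGroup.mk' K)) := by
  have hQK : Q ≤ K := hQ ▸ inf_le_right
  have hZK : Z ≤ K := hZQ.trans hQK
  have hSQ : S ≤ normalizer (Q : Set Γ) := hQ ▸ le_normalizer_inf_of_normal S K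
  have hu' : ∀ μ' : IrrCharacter Q, mult hZQ μ' θ ≠ 0 → ∀ η', mult hQS η' μ' ≠ 0 →
      η' = η := fun μ' h η' h' => hu η' (mult_trans_ne_zero hZQ hQS h' h)
  have h1 := mult_sq_mul_relIndex hQS hSQ (hu' μ hμ)
  rw [ha, one_pow, one_mul] at h1
  set M := invStab Q μ.1 with hM
  have hQM : Q ≤ M := le_invStab (H11.isClassFunction_of_irr μ.2)
  have hMN : M ≤ normalizer (Q : Set Γ) := invStab_le _ _
  have hN : ∀ n ∈ normalizer (Q : Set Γ), ∃ s ∈ S, ∃ m ∈ M, s * m = n := fun n hn => by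
    have h2 : mult hZQ (cj Q ⟨n, hn⟩ μ) θ ≠ 0 := by
      rwa [mult_cj_left hZQ hn (le_normalizer' (mem_top n)) μ (hθ n (mem_top n))]
    obtain ⟨η', h3⟩ := exists_over hQS (cj Q ⟨n, hn⟩ μ)
    obtain rfl := hu' _ h2 η' h3
    obtain ⟨g, hg⟩ := exists_cj_eq_of_mult_ne_zero hQS hSQ (ha.trans_ne one_ne_zero) h3
    refine ⟨g, g.2, (g : Γ)⁻¹ * n, ⟨mul_mem (inv_mem (hSQ g.2)) hn, ?_⟩, by group⟩
    refine (cj_eq_self_iff (⟨g, hSQ g.2⟩⁻¹ * ⟨n, hn⟩) μ).1 ?_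
    rw [cj_mul, ← hg, cj_inv_cj]
  have h2 : Q.relIndex M = S.relIndex (normalizer (Q : Set Γ)) := by
    apply Nat.eq_of_mul_eq_mul_right (relIndex_pos' M (normalizer (Q : Set Γ)))
    rw [relIndex_mul_relIndex Q M _ hQM hMN, ← H4.relIndex_eq_of_mul hSQ hN, h1, mul_comm,
      relIndex_mul_relIndex Q S _ hQS hSQ]
  have h3 : ¬ p ∣ Q.relIndex M := fun h => hcop (h.trans (h2 ▸ relIndex_dvd_index_of_le hSQ))
  have hF : ∀ g : Γ, ∃ k ∈ K, k * g ∈ normalizer (Q : Set Γ) := fun g => by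
    obtain ⟨k, hk, h⟩ := exists_conj_mem_of_not_dvd hp (L := Z) (T := K) (Q := Q)
      (R := Q.map (MulAut.conj g).toMonoidHom)
      (by rintro _ ⟨x, hx, rfl⟩; exact hK.conj_mem _ (hQK hx) g) hZQ
      (fun z hz => ⟨g⁻¹ * z * g, hZQ (by simpa using ‹Z.Normal›.conj_mem _ hz g⁻¹), by
        simp [mul_assoc]⟩) le_normalizer'
      (by
        rintro _ ⟨x, hx, rfl⟩
        obtain ⟨k, hk⟩ := hS x (hQS hx)
        exact ⟨k, by rw [← map_pow]; exact ‹Z.Normal›.conj_mem _ hk g⟩)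
      (by
        rw [hQ, inf_relIndex_right]
        exact fun h => hcop (h.trans (relIndex_dvd_index_of_normal S K)))
    refine ⟨k, hk, mem_normalizer_of_conj_mem fun x hx => ?_⟩
    have := h _ ⟨x, hx, rfl⟩
    simpa [mul_assoc] using this
  refine ⟨M.map (QuotientGroup.mk' K), isComplement'_of_disjoint_and_mul_eq_univ ?_ ?_⟩
  · rw [disjoint_iff, eq_bot_iff]
    rintro _ ⟨⟨m, hm, rfl⟩, s, hs, e⟩
    obtain ⟨k, hk⟩ := hS s hs
    refine mem_of_pow_mem_of_coprime (a := p ^ k) (b := Q.relIndex M) ?_ ?_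
      (Nat.Coprime.pow_left k ((Nat.Prime.coprime_iff_not_dvd hp).2 h3))
    · rw [← e, ← map_pow, mem_bot]
      exact (QuotientGroup.eq_one_iff _).2 (hZK hk)
    · rw [← map_pow, mem_bot]
      exact (QuotientGroup.eq_one_iff _).2 (hQK (pow_relIndex_mem' hMN hm))
  · rw [Set.eq_univ_iff_forall]
    intro x
    obtain ⟨g, rfl⟩ := QuotientGroup.mk_surjective x
    obtain ⟨k, hk, h⟩ := hF g⁻¹
    obtain ⟨s, hs, m, hm, e⟩ := hN _ h
    refine ⟨_, ⟨m⁻¹, inv_mem hm, rfl⟩, _, ⟨s⁻¹, inv_mem hs, rfl⟩, ?_⟩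
    change ((m⁻¹ * s⁻¹ : Γ) : Γ ⧸ K) = g
    rw [← mul_inv_rev, e, QuotientGroup.eq]
    simpa using hk

/-- Setup: the fully ramified hypothesis in the `mult` language. -/
theorem fullram_setup {Z : Subgroup Γ} [Z.Normal] {χ : IrrCharacter Γ} {θ : IrrCharacter Z} {e : ℕ}
    (he : e ^ 2 = Z.index) (h : ∀ z : Z, χ.1 z = e * θ.1 z) :
    InvBy Z ⊤ θ.1 ∧ mult le_top (topIrr χ) θ = e := by
  haveI := Fintype.ofFinite Z
  have he0 : (e : ℂ) ≠ 0 := by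
    rintro h0
    rw [Nat.cast_eq_zero] at h0
    subst h0
    exact index_ne_zero_of_finite (H := Z) (by simpa using he.symm)
  refine ⟨fun s _ g g' hg => mul_left_cancel₀ he0 ?_, mult_eq_of_inner _ ?_⟩
  · rw [← h, ← h, hg]
    exact H11.isClassFunction_of_irr χ.2 _ _
  · have : (fun c : Z => (topIrr χ).1 ⟨c, le_top (a := Z) c.2⟩) = (e : ℂ) • θ.1 := funext h
    rw [this, H11.classInner_smul_left, H11.classInner_irr_self θ.2, mul_one]

/-- A relative Sylow subgroup mapping onto a given Sylow subgroup of a quotient. -/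
theorem exists_sylow_lift {Z K : Subgroup Γ} [Z.Normal] [K.Normal] (hZK : Z ≤ K) {p : ℕ}
    [hp : Fact p.Prime] (P : Sylow p (Γ ⧸ K)) :
    ∃ S : Subgroup Γ, Z ≤ S ∧ (∀ x ∈ S, ∃ k, x ^ p ^ k ∈ Z) ∧ ¬ p ∣ S.index ∧
      S.map (QuotientGroup.mk' K) = P := by
  obtain ⟨S₀, hS₀⟩ := Sylow.mapSurjective_surjective (QuotientGroup.mk'_surjective K) p P
  refine ⟨Z ⊔ S₀, le_sup_left, fun x hx => ?_,
    fun h => S₀.not_dvd_index (h.trans (index_dvd_of_le le_sup_right)), ?_⟩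
  · obtain ⟨z, hz, s, hs, rfl⟩ := (H4.mem_sup_iff_of_le_normalizer le_normalizer').1 hx
    obtain ⟨k, hk⟩ := S₀.2 ⟨s, hs⟩
    refine ⟨k, (QuotientGroup.eq_one_iff _).1 ?_⟩
    rw [QuotientGroup.mk_pow, QuotientGroup.mk_mul, (QuotientGroup.eq_one_iff _).2 hz, one_mul,
      ← QuotientGroup.mk_pow, show s ^ p ^ k = 1 from congrArg Subtype.val hk]
    rfl
  · rw [Subgroup.map_sup, ← hS₀, Sylow.coe_mapSurjective, sup_eq_right.2]
    rintro _ ⟨z, hz, rfl⟩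
    rw [show QuotientGroup.mk' K z = 1 from (QuotientGroup.eq_one_iff _).2 (hZK hz)]
    exact one_mem _

end Cfsg.Agent.H23
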