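import Mathlib
import Cfsg.Agent.H23.Good
import Cfsg.Agent.H23.FullRam

/-!
# Tools for the Okuyama–Wajima argument
-/

namespace Cfsg.Agent.H23

open Cfsg Subgroup
open scoped commutatorElement

section Grp

variable {Γ : Type*} [Group Γ]

theorem mul_pow_mul_inv_mem {K : Subgroup Γ} {k y : Γ} (hk : k ∈ K)
    (hy : y ∈ normalizer (K : Set Γ)) (n : ℕ) : (k * y) ^ n * (y ^ n)⁻¹ ∈ K := by
  induction n with
  | zero => simp
  | succ n ih =>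
    have := mul_mem ih (H4.conj_mem_of_mem_normalizer (pow_mem hy n) hk)
    convert this using 1
    rw [pow_succ, pow_succ]; group

theorem pmod_sup {p : ℕ} {K P : Subgroup Γ} (hP : P ≤ normalizer (K : Set Γ))
    (h : ∀ x ∈ P, ∃ k, x ^ p ^ k ∈ K) : ∀ x ∈ K ⊔ P, ∃ k, x ^ p ^ k ∈ K := fun x hx => by
  obtain ⟨k, hk, y, hy, rfl⟩ := (H4.mem_sup_iff_of_le_normalizer hP).1 hx
  obtain ⟨n, hn⟩ := h y hy
  exact ⟨n, by simpa using mul_mem (mul_pow_mul_inv_mem hk (hP hy) (p ^ n)) hn⟩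

theorem pmod_mono {p : ℕ} {K K' P P' : Subgroup Γ} (h : ∀ x ∈ P, ∃ k, x ^ p ^ k ∈ K)
    (hK : K ≤ K') (hP : P' ≤ P) : ∀ x ∈ P', ∃ k, x ^ p ^ k ∈ K' := fun x hx =>
  (h x (hP hx)).imp fun _ hk => hK hk

theorem inf_le_of_pmod {p : ℕ} (hp : p.Prime) {L P G : Subgroup Γ}
    (hP : ∀ x ∈ P, ∃ k, x ^ p ^ k ∈ L) (hG : G ≤ normalizer (L : Set Γ))
    (hcop : ¬ p ∣ L.relIndex G) : G ⊓ P ≤ L := fun x hx => by
  obtain ⟨k, hk⟩ := hP x hx.2
  exact mem_of_pow_mem_of_coprime hk (pow_relIndex_mem' hG hx.1)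
    (Nat.Coprime.pow_left k ((Nat.Prime.coprime_iff_not_dvd hp).2 hcop))

theorem inf_sup_le_of {K B P : Subgroup Γ} (hBK : B ≤ K) (hP : P ≤ normalizer (B : Set Γ))
    (h : K ⊓ P ≤ B) : K ⊓ (B ⊔ P) ≤ B := fun x hx => by
  obtain ⟨b, hb, y, hy, rfl⟩ := (H4.mem_sup_iff_of_le_normalizer hP).1 hx.2
  exact mul_mem hb (h ⟨(mul_mem_cancel_left (hBK hb)).1 hx.1, hy⟩)

theorem factor_of_sup {K P B : Subgroup Γ} (hP : P ≤ normalizer (K : Set Γ)) (h : P ≤ B) :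
    ∀ a ∈ K ⊔ P, ∃ m ∈ K, ∃ b ∈ B, a = m * b := fun a ha => by
  obtain ⟨k, hk, y, hy, rfl⟩ := (H4.mem_sup_iff_of_le_normalizer hP).1 ha
  exact ⟨k, hk, y, h hy, rfl⟩

theorem mem_normalizer_sup {A B : Subgroup Γ} {x : Γ} (hA : x ∈ normalizer (A : Set Γ))
    (hB : x ∈ normalizer (B : Set Γ)) : x ∈ normalizer ((A ⊔ B : Subgroup Γ) : Set Γ) :=
  normalizer_inf_normalizer_le_normalizer_sup A B ⟨hA, hB⟩

theorem mem_normalizer_inf {A B : Subgroup Γ} {x : Γ} (hA : x ∈ normalizer (A : Set Γ))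
    (hB : x ∈ normalizer (B : Set Γ)) : x ∈ normalizer ((A ⊓ B : Subgroup Γ) : Set Γ) :=
  inf_normalizer_le_normalizer_inf ⟨hA, hB⟩

theorem mem_normalizer_normalizer {A : Subgroup Γ} {x : Γ} (hA : x ∈ normalizer (A : Set Γ)) :
    x ∈ normalizer ((normalizer (A : Set Γ) : Subgroup Γ) : Set Γ) := le_normalizer hA

theorem comm_mod_pair {C B : Subgroup Γ} (hCB : C ≤ B) (hB : B ≤ normalizer (C : Set Γ)) {x t : Γ}
    (hx : x ∈ B) (ht : t ∈ B) (h : x * t * x⁻¹ * t⁻¹ ∈ C) :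
    ∀ a ∈ C ⊔ zpowers x ⊔ zpowers t, ∀ b ∈ C ⊔ zpowers x ⊔ zpowers t, a * b * a⁻¹ * b⁻¹ ∈ C := by
  have h1 : C ⊔ zpowers x ⊔ zpowers t ≤ centMod B C {x, t} := by
    refine sup_le (sup_le (le_centMod hCB ?_) (zpowers_le_of_mem ?_)) (zpowers_le_of_mem ?_)
    · rintro y (rfl | rfl)
      exacts [hB hx, hB ht]
    · refine (mem_centMod hB).2 ⟨hx, ?_⟩
      rintro y (rfl | rfl)
      · simp
      · simpa [mul_assoc] using inv_mem h
    · refine (mem_centMod hB).2 ⟨ht, ?_⟩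
      rintro y (rfl | rfl)
      · exact h
      · simp
  intro a ha b hb
  obtain ⟨hbB, hb'⟩ := (mem_centMod hB).1 (h1 hb)
  have h2 : C ⊔ zpowers x ⊔ zpowers t ≤ fixMod C {b} := by
    refine sup_le (sup_le (fun c hc => ⟨le_normalizer hc, ?_⟩) (zpowers_le_of_mem ⟨hB hx, ?_⟩))
      (zpowers_le_of_mem ⟨hB ht, ?_⟩) <;> rintro _ rfl
    · simpa [mul_assoc] using mul_mem hc (H4.conj_mem_of_mem_normalizer (hB hbB) (inv_mem hc))
    · exact hb' _ (by simp)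
    · exact hb' _ (by simp)
  exact (h2 ha).2 b rfl

/-- Schur–Zassenhaus modulo a normal subgroup. -/
theorem exists_complement_mod [Finite Γ] {C R T : Subgroup Γ} (hCR : C ≤ R) (hRT : R ≤ T)
    (hC : T ≤ normalizer (C : Set Γ)) (hR : T ≤ normalizer (R : Set Γ))
    (hcop : (C.relIndex R).Coprime (R.relIndex T)) :
    ∃ B : Subgroup Γ, C ≤ B ∧ B ≤ T ∧ R ⊓ B ≤ C ∧ ∀ t ∈ T, ∃ r ∈ R, ∃ b ∈ B, t = r * b := by
  haveI : (C.subgroupOf T).Normal := (normal_subgroupOf_iff_le_normalizer (hCR.trans hRT)).2 hC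
  haveI : (R.subgroupOf T).Normal := (normal_subgroupOf_iff_le_normalizer hRT).2 hR
  have hle : C.subgroupOf T ≤ R.subgroupOf T := fun x hx => hCR hx
  have hs := QuotientGroup.mk'_surjective (C.subgroupOf T)
  haveI : ((R.subgroupOf T).map (QuotientGroup.mk' (C.subgroupOf T))).Normal :=
    Normal.map inferInstance _ hs
  have h1 : ((R.subgroupOf T).map (QuotientGroup.mk' (C.subgroupOf T))).index = R.relIndex T := by
    rw [index_map_eq _ hs (by rwa [QuotientGroup.ker_mk'])]; rfl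
  have h2 : Nat.card ((R.subgroupOf T).map (QuotientGroup.mk' (C.subgroupOf T))) =
      C.relIndex R := by
    rw [← relIndex_ker, QuotientGroup.ker_mk', relIndex_subgroupOf hRT]
  obtain ⟨B, hB⟩ := exists_right_complement'_of_coprime
    (N := (R.subgroupOf T).map (QuotientGroup.mk' (C.subgroupOf T))) (by rwa [h1, h2])
  refine ⟨(B.comap (QuotientGroup.mk' _)).map T.subtype, fun c hc => ⟨⟨c, hRT (hCR hc)⟩, ?_, rfl⟩,
    map_subtype_le _, ?_, fun t ht => ?_⟩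
  · change QuotientGroup.mk' _ _ ∈ B
    rw [show QuotientGroup.mk' (C.subgroupOf T) ⟨c, hRT (hCR hc)⟩ = 1 from
      (QuotientGroup.eq_one_iff _).2 hc]
    exact one_mem _
  · rintro _ ⟨hr, x, hx, rfl⟩
    exact (QuotientGroup.eq_one_iff x).1 (mem_bot.1 (hB.disjoint.le_bot ⟨⟨x, hr, rfl⟩, hx⟩))
  · obtain ⟨⟨⟨_, r, hr, rfl⟩, b⟩, e⟩ := hB.2 (QuotientGroup.mk' _ ⟨t, ht⟩)
    refine ⟨r, hr, (r⁻¹ * ⟨t, ht⟩ : T), ⟨r⁻¹ * ⟨t, ht⟩, ?_, rfl⟩, by simp⟩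
    change QuotientGroup.mk' _ _ ∈ B
    rw [map_mul, map_inv, ← e]
    simp

end Grp

section Act

theorem sum_card_stabilizer {H α : Type*} [Group H] [Finite H] [MulAction H α] (s : Finset α)
    (a : α) (hs : ∀ b, b ∈ s ↔ b ∈ MulAction.orbit H a) :
    ∑ b ∈ s, Nat.card (MulAction.stabilizer H b) = Nat.card H := by
  rw [Finset.sum_congr rfl (g := fun _ => Nat.card (MulAction.stabilizer H a)) fun b hb =>
    Nat.card_congr (MulAction.stabilizerEquivStabilizerOfOrbitRel ((hs b).1 hb)).toEquiv,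
    Finset.sum_const, smul_eq_mul, ← index_mul_card (MulAction.stabilizer H a),
    MulAction.index_stabilizer, ← Set.ncard_coe_finset]
  congr 2
  exact Set.ext hs

end Act

variable {Γ : Type*} [Group Γ] [Finite Γ] {p : ℕ}

omit [Finite Γ] in
theorem invBy_sup_iff {H P L : Subgroup Γ} (hL : L ≤ H) (hP : P ≤ normalizer (H : Set Γ))
    (χ : IrrCharacter H) : InvBy H (P ⊔ L) χ.1 ↔ InvBy H P χ.1 :=
  ⟨fun h => h.mono le_sup_left, fun h => InvBy.sup hP (hL.trans le_normalizer) h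
    ((invBy_self (H11.isClassFunction_of_irr χ.2)).mono hL)⟩

omit [Finite Γ] in
theorem invBy_cj {H P : Subgroup Γ} {x : Γ} (hx : x ∈ normalizer (H : Set Γ))
    (hxP : x ∈ normalizer (P : Set Γ)) (hP : P ≤ normalizer (H : Set Γ)) {χ : IrrCharacter H}
    (h : InvBy H P χ.1) : InvBy H P (cj H ⟨x, hx⟩ χ).1 := fun _ hs =>
  invEl_cj _ (hP hs) (h _ (H4.inv_conj_mem_of_mem_normalizer hxP hs))

theorem IsCorr.congr {P P' C G : Subgroup Γ} {h : C ≤ G} (H : IsCorr p P h)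
    (e1 : ∀ χ : IrrCharacter G, InvBy G P' χ.1 ↔ InvBy G P χ.1)
    (e2 : ∀ χ : IrrCharacter C, InvBy C P' χ.1 ↔ InvBy C P χ.1) : IsCorr p P' h where
  exR χ a := by simpa only [e2] using H.exR χ ((e1 _).1 a)
  exL χ a := by simpa only [e1] using H.exL χ ((e2 _).1 a)
  uniqR χ ξ ξ' a b c := H.uniqR χ ξ ξ' ((e1 _).1 a) ((e2 _).1 b) ((e2 _).1 c)
  uniqL χ χ' ξ a b c := H.uniqL χ χ' ξ ((e1 _).1 a) ((e1 _).1 b) ((e2 _).1 c)
  modEq χ ξ a b := H.modEq χ ξ ((e1 _).1 a) ((e2 _).1 b)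

theorem mem_inf_normalizer_iff (hp : p.Prime) {L P G : Subgroup Γ} (hLP : L ≤ P)
    (hP : ∀ x ∈ P, ∃ k, x ^ p ^ k ∈ L) (hPG : P ≤ normalizer (G : Set Γ))
    (hGL : G ≤ normalizer (L : Set Γ)) (hcop : ¬ p ∣ L.relIndex G) {g : Γ} :
    g ∈ G ⊓ normalizer (P : Set Γ) ↔ g ∈ G ∧ ∀ x ∈ P, x * g * x⁻¹ * g⁻¹ ∈ L :=
  ⟨fun h => ⟨h.1, fun x hx => inf_le_of_pmod hp hP hGL hcop
    <| mem_inf.2 ⟨mul_mem (H4.conj_mem_of_mem_normalizer (hPG hx) h.1)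
      (inv_mem (mem_inf.1 h).1), by
      simpa [mul_assoc] using mul_mem hx (H4.conj_mem_of_mem_normalizer h.2 (inv_mem hx))⟩⟩,
    fun h => ⟨h.1, mem_normalizer_of_commutator_mem hLP fun c hc => by
      simpa [mul_assoc] using inv_mem (h.2 c hc)⟩⟩

/-- The relative Glauberman correspondence for a `p`-group `P/L`. -/
theorem isCorr_rel (hp : p.Prime) {L P G C : Subgroup Γ} (hLP : L ≤ P)
    (hP : ∀ x ∈ P, ∃ k, x ^ p ^ k ∈ L) (hPL : P ≤ normalizer (L : Set Γ))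
    (hPG : P ≤ normalizer (G : Set Γ)) (hLG : L ≤ G) (hGL : G ≤ normalizer (L : Set Γ))
    (hcop : ¬ p ∣ L.relIndex G) (hC : C = G ⊓ normalizer (P : Set Γ)) (h : C ≤ G) :
    IsCorr p P h := by
  obtain ⟨P₀, hP₀, e⟩ := exists_pgroup_sup_eq hp hLP hPL hP
  have h0 : P₀ ≤ P := e ▸ le_sup_left
  have hLC : L ≤ C := hC ▸ le_inf hLG (hLP.trans le_normalizer)
  have hPC : P ≤ normalizer (C : Set Γ) := hC ▸ fun x hx =>
    mem_normalizer_inf (hPG hx) (mem_normalizer_normalizer (le_normalizer hx))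
  refine (isCorr_of_isPGroup hp hP₀ (h0.trans hPL) (h0.trans hPG) hLG hGL hcop (fun g => ?_)
    h).congr (fun χ => e ▸ invBy_sup_iff hLG (h0.trans hPG) χ)
    (fun χ => e ▸ invBy_sup_iff hLC (h0.trans hPC) χ)
  rw [hC, mem_inf_normalizer_iff hp hLP hP hPG hGL hcop]
  refine and_congr_right fun hg => ⟨fun h' x hx => h' x (h0 hx), fun h' x hx => ?_⟩
  have : P₀ ⊔ L ≤ fixMod L {g} := sup_le
    (fun y hy => ⟨hPL (h0 hy), by rintro _ rfl; exact h' y hy⟩)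
    (fun y hy => ⟨le_normalizer hy, by
      rintro _ rfl
      simpa [mul_assoc] using mul_mem hy (H4.conj_mem_of_mem_normalizer (hGL hg) (inv_mem hy))⟩)
  exact (this (e.ge hx)).2 g rfl

theorem IsCorr.mult_trans_rel (hp : p.Prime) {L P C B G : Subgroup Γ} {h₁ : C ≤ B} {h₂ : B ≤ G}
    (hLP : L ≤ P) (hP : ∀ x ∈ P, ∃ k, x ^ p ^ k ∈ L) (hPL : P ≤ normalizer (L : Set Γ))
    (hLC : L ≤ C) (hG : P ≤ normalizer (G : Set Γ)) (hB : P ≤ normalizer (B : Set Γ))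
    (hC : P ≤ normalizer (C : Set Γ)) (H₂ : IsCorr p P h₂) {χ : IrrCharacter G}
    {ψ : IrrCharacter B} {ξ : IrrCharacter C} (hχ : InvBy G P χ.1) (hψ : InvBy B P ψ.1)
    (hξ : InvBy C P ξ.1) (a : ¬ p ∣ mult h₂ χ ψ) :
    ¬ p ∣ mult (h₁.trans h₂) χ ξ ↔ ¬ p ∣ mult h₁ ψ ξ := by
  haveI := Fact.mk hp
  obtain ⟨P₀, hP₀, e⟩ := exists_pgroup_sup_eq hp hLP hPL hP
  have h0 : P₀ ≤ P := e ▸ le_sup_left
  have H := H₂.congr (P' := P₀)
    (fun χ => e ▸ (invBy_sup_iff (hLC.trans (h₁.trans h₂)) (h0.trans hG) χ).symm)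
    (fun χ => e ▸ (invBy_sup_iff (hLC.trans h₁) (h0.trans hB) χ).symm)
  have h1 := IsCorr.mult_trans_eq hp (h₁ := h₁) hP₀ (h0.trans hG) (h0.trans hB) (h0.trans hC) H
    (hχ.mono h0) (hψ.mono h0) (hξ.mono h0) a
  rw [← ZMod.natCast_eq_zero_iff] at a ⊢
  rw [← ZMod.natCast_eq_zero_iff, h1, mul_eq_zero, not_or, and_iff_right a]

theorem IsCorr.exists_equiv {P C G : Subgroup Γ} {h : C ≤ G} (H : IsCorr p P h)
    {X : IrrCharacter G → Prop} {Y : IrrCharacter C → Prop} (hX : ∀ χ, X χ → InvBy G P χ.1)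
    (hY : ∀ ξ, Y ξ → InvBy C P ξ.1)
    (hXY : ∀ χ ξ, InvBy G P χ.1 → InvBy C P ξ.1 → ¬ p ∣ mult h χ ξ → (X χ ↔ Y ξ)) :
    ∃ f : {χ // X χ} ≃ {ξ // Y ξ}, ∀ χ, ¬ p ∣ mult h χ.1 (f χ).1 := by
  choose f hf hf' using fun χ : {χ // X χ} => H.exR χ.1 (hX _ χ.2)
  let g : {χ // X χ} → {ξ // Y ξ} := fun χ =>
    ⟨f χ, (hXY _ _ (hX _ χ.2) (hf χ) (hf' χ)).1 χ.2⟩
  refine ⟨Equiv.ofBijective g ⟨fun a b e => Subtype.ext ?_, fun ξ => ?_⟩, hf'⟩
  · have e' : f a = f b := congrArg Subtype.val e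
    exact H.uniqL _ _ _ (hX _ a.2) (hX _ b.2) (hf a) (hf' a) (e' ▸ hf' b)
  · obtain ⟨χ, a, b⟩ := H.exL ξ.1 (hY _ ξ.2)
    let χ' : {χ // X χ} := ⟨χ, (hXY _ _ a (hY _ ξ.2) b).2 ξ.2⟩
    exact ⟨χ', Subtype.ext (H.uniqR _ _ _ a (hf χ') (hY _ ξ.2) (hf' χ') b)⟩

theorem IsCorr.invEl_iff {P C G : Subgroup Γ} {h : C ≤ G} (H : IsCorr p P h)
    (hG : P ≤ normalizer (G : Set Γ)) (hC : P ≤ normalizer (C : Set Γ)) {χ : IrrCharacter G}
    {ξ : IrrCharacter C} (hχ : InvBy G P χ.1) (hξ : InvBy C P ξ.1) (a : ¬ p ∣ mult h χ ξ) {x : Γ}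
    (hxG : x ∈ normalizer (G : Set Γ)) (hxC : x ∈ normalizer (C : Set Γ))
    (hxP : x ∈ normalizer (P : Set Γ)) : InvEl G x χ.1 ↔ InvEl C x ξ.1 :=
  ⟨fun e => (cj_eq_self_iff ⟨x, hxC⟩ ξ).1 (H.uniqR _ _ _ hχ (invBy_cj hxC hxP hC hξ) hξ
      (by rwa [mult_cj_right h hxG hxC e]) a),
    fun e => (cj_eq_self_iff ⟨x, hxG⟩ χ).1 (H.uniqL _ _ _ (invBy_cj hxG hxP hG hχ) hχ hξ
      (by rwa [mult_cj_left h hxG hxC _ e]) a)⟩

/-- Over an abelian quotient all multiplicities agree. -/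
theorem card_over_mul_sq {N M : Subgroup Γ} (h : N ≤ M) (hn : M ≤ normalizer (N : Set Γ))
    (hab : ∀ a ∈ M, ∀ b ∈ M, a * b * a⁻¹ * b⁻¹ ∈ N) {θ : IrrCharacter N} (hθ : InvBy N M θ.1)
    {ψ : IrrCharacter M} (h1 : mult h ψ θ ≠ 0) :
    Nat.card {χ : IrrCharacter M // mult h χ θ ≠ 0} * mult h ψ θ ^ 2 = N.relIndex M := by
  classical
  haveI := Fintype.ofFinite (IrrCharacter M)
  rw [← sum_mult_sq h hn hθ, Nat.subtype_card (Finset.univ.filter fun χ => mult h χ θ ≠ 0)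
    (by simp), ← smul_eq_mul, ← Finset.sum_const, Finset.sum_filter]
  refine Finset.sum_congr rfl fun χ _ => ?_
  split_ifs with h0
  · obtain ⟨lam, hl, e⟩ := exists_linear_of_over h hn hab h1 h0
    rw [show χ = mulLin lam ψ from Subtype.ext e, mult_mulLin h lam hl]
  · rw [not_not.1 h0]; simp

/-- Extendibility to `KP` passes along multiplicities prime to `p`. -/
theorem extends_iff_of_not_dvd (hp : p.Prime) {K B P : Subgroup Γ} (h : B ≤ K)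
    (hPK : P ≤ normalizer (K : Set Γ)) (hPB : P ≤ normalizer (B : Set Γ))
    (hP : ∀ x ∈ P, ∃ k, x ^ p ^ k ∈ B) (hKP : K ⊓ P ≤ B) {θ : IrrCharacter K}
    {ξ : IrrCharacter B} (hθ : InvBy K P θ.1) (hξ : InvBy B P ξ.1) (a : ¬ p ∣ mult h θ ξ) :
    Extends θ.1 (K ⊔ P) ↔ Extends ξ.1 (B ⊔ P) := by
  have hθ' := (invBy_sup_iff le_rfl hPK θ).2 hθ
  have hξ' := (invBy_sup_iff le_rfl hPB ξ).2 hξ
  rw [sup_comm] at hθ' hξ'
  have hle : B ⊔ P ≤ K ⊔ P := sup_le_sup_right h P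
  haveI := Fintype.ofFinite (IrrCharacter ↥(K ⊔ P))
  haveI := Fintype.ofFinite (IrrCharacter ↥(B ⊔ P))
  haveI := Fintype.ofFinite (IrrCharacter K)
  haveI := Fintype.ofFinite (IrrCharacter B)
  constructor
  · intro e
    obtain ⟨μ, hμ⟩ := (extends_iff le_sup_left).1 e
    have h1 := mult_trans h le_sup_left μ ξ
    have h2 : ∑ ψ : IrrCharacter K, mult (le_sup_left : K ≤ K ⊔ P) μ ψ * mult h ψ ξ =
        mult h θ ξ := by
      rw [Finset.sum_eq_single θ (fun θ' _ hne => ?_) (fun h => absurd (Finset.mem_univ _) h),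
        mult_eq_one_of_res_eq _ hμ, one_mul]
      rw [Classical.not_not.1 fun h0 => hne (eq_of_res_eq_of_mult_ne_zero _ hμ h0).symm, zero_mul]
    rw [h2] at h1
    rw [← h1, mult_trans le_sup_left hle μ ξ] at a
    obtain ⟨η, hη⟩ := not_forall.1 fun h' => a (Finset.dvd_sum fun η _ => h' η)
    exact (extends_iff le_sup_left).2 ⟨η, (res_eq_iff_mult_eq_one _
      (sup_le le_normalizer hPB) hξ').2 (mult_eq_one_of_not_dvd hp _ (sup_le le_normalizer hPB)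
      (pmod_sup hPB hP) hξ' fun hd => hη (hd.mul_left _))⟩
  · intro e
    obtain ⟨η, hη⟩ := (extends_iff le_sup_left).1 e
    have h1 := mackey_mult le_sup_left hle h le_sup_left (inf_sup_le_of h hPB hKP)
      (factor_of_sup hPK le_sup_right) η θ
    simp only [mul_comm (mult (le_sup_left : B ≤ B ⊔ P) η _)] at h1
    rw [sum_mult_mul_of_res_eq _ h θ hη] at h1
    rw [← h1] at a
    obtain ⟨μ, hμ⟩ := not_forall.1 fun h' => a (Finset.dvd_sum fun η _ => h' η)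
    exact (extends_iff le_sup_left).2 ⟨μ, (res_eq_iff_mult_eq_one _
      (sup_le le_normalizer hPK) hθ').2 (mult_eq_one_of_not_dvd hp _ (sup_le le_normalizer hPK)
      (pmod_sup hPK (pmod_mono hP h le_rfl)) hθ' fun hd => hμ (hd.mul_left _))⟩

/-- Two extensions of the same character differ by a linear character. -/
theorem exists_linear_of_ext {K R : Subgroup Γ} (h : K ≤ R) (hn : R ≤ normalizer (K : Set Γ))
    {θ : IrrCharacter K} {μ μ' : IrrCharacter R} (e : ∀ k : K, μ.1 ⟨k, h k.2⟩ = θ.1 k)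
    (e' : ∀ k : K, μ'.1 ⟨k, h k.2⟩ = θ.1 k) :
    ∃ lam : R →* ℂˣ, (∀ x : R, (x : Γ) ∈ K → lam x = 1) ∧ μ' = mulLin lam μ := by
  haveI : (K.subgroupOf R).Normal := (normal_subgroupOf_iff_le_normalizer h).2 hn
  haveI := Fintype.ofFinite (K.subgroupOf R)
  have h1 : (fun n : K.subgroupOf R => μ.1 n) =
      fun x : K.subgroupOf R => θ.1 ⟨(x : R), mem_subgroupOf.1 x.2⟩ :=
    funext fun x : K.subgroupOf R => e ⟨_, mem_subgroupOf.1 x.2⟩
  have h2 : (fun n : K.subgroupOf R => μ'.1 n) =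
      fun x : K.subgroupOf R => θ.1 ⟨(x : R), mem_subgroupOf.1 x.2⟩ :=
    funext fun x : K.subgroupOf R => e' ⟨_, mem_subgroupOf.1 x.2⟩
  have h3 := H24.isIrr_subgroupOf h θ.2
  obtain ⟨β, hβ, hk, e₀⟩ := H24.gallagher_exists (K.subgroupOf R) (H11.irr_isCharacter μ)
    (h1 ▸ h3) μ'.2 (by rw [h1, h2, H11.classInner_irr_self h3]; exact one_ne_zero)
  have h4 : β 1 = 1 := by
    have h5 := congrFun e₀ 1
    rw [Pi.mul_apply, show μ'.1 1 = μ.1 1 from (e' 1).trans (e 1).symm] at h5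
    exact (mul_eq_left₀ (H11.irr_apply_one_ne_zero μ.2)).1 h5.symm
  obtain ⟨lam, rfl⟩ := H11.exists_monoidHom_of_apply_one_eq_one (H11.isCharacter_of_irr hβ) h4
  rw [H11.charKer_monoidHom] at hk
  exact ⟨lam, fun x hx => hk hx, Subtype.ext e₀⟩

theorem mulLin_inj_of_ext {K R : Subgroup Γ} (h : K ≤ R) (hn : R ≤ normalizer (K : Set Γ))
    {θ : IrrCharacter K} {μ : IrrCharacter R} (e : ∀ k : K, μ.1 ⟨k, h k.2⟩ = θ.1 k)
    {lam lam' : R →* ℂˣ} (hl : ∀ x : R, (x : Γ) ∈ K → lam x = 1)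
    (hl' : ∀ x : R, (x : Γ) ∈ K → lam' x = 1) (he : mulLin lam μ = mulLin lam' μ) :
    lam = lam' := by
  haveI : (K.subgroupOf R).Normal := (normal_subgroupOf_iff_le_normalizer h).2 hn
  have h1 : (fun n : K.subgroupOf R => μ.1 n) =
      fun x : K.subgroupOf R => θ.1 ⟨(x : R), mem_subgroupOf.1 x.2⟩ :=
    funext fun x : K.subgroupOf R => e ⟨_, mem_subgroupOf.1 x.2⟩
  have := H24.gallagher_inj (K.subgroupOf R) (H11.irr_isCharacter μ)
    (h1 ▸ H24.isIrr_subgroupOf h θ.2) (H11.isIrrCharacter_monoidHom lam)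
    (H11.isIrrCharacter_monoidHom lam') (by rw [H11.charKer_monoidHom]; exact hl)
    (by rw [H11.charKer_monoidHom]; exact hl') (congrArg Subtype.val he)
  ext x
  exact congrFun this x

/-- The restriction of an extension to an intermediate subgroup. -/
def resExt {K B R : Subgroup Γ} (h₁ : K ≤ B) (h₂ : B ≤ R) {θ : IrrCharacter K}
    (μ : IrrCharacter R) (e : ∀ k : K, μ.1 ⟨k, h₂ (h₁ k.2)⟩ = θ.1 k) : IrrCharacter B :=
  ⟨fun a => μ.1 ⟨a, h₂ a.2⟩,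
    H14.isIrr_of_comp (H11.isCharacter_restrict_of_le (H11.irr_isCharacter μ) h₂)
      (inclusion h₁) (by
        rw [show (fun k : K => μ.1 ⟨inclusion h₁ k, _⟩) = θ.1 from funext e]
        exact θ.2)⟩

omit [Finite Γ] in
theorem cj_ext {K R : Subgroup Γ} (h : K ≤ R) {x : Γ} (hR : x ∈ normalizer (R : Set Γ))
    (hK : x ∈ normalizer (K : Set Γ)) {θ : IrrCharacter K} (hθ : InvEl K x θ.1)
    {μ : IrrCharacter R} (e : ∀ k : K, μ.1 ⟨k, h k.2⟩ = θ.1 k) (k : K) :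
    (cj R ⟨x, hR⟩ μ).1 ⟨k, h k.2⟩ = θ.1 k := by
  rw [cj_apply_of_eq _ _ (g := ⟨_, h (H4.inv_conj_mem_of_mem_normalizer hK k.2)⟩)
    (by simp only; group), e ⟨_, H4.inv_conj_mem_of_mem_normalizer hK k.2⟩]
  exact (hθ _ _ (by simp only; group)).symm

/-- An invariant extension exists under a coprime operator group. -/
theorem exists_inv_extension (hp : p.Prime) {K R S : Subgroup Γ} (h : K ≤ R)
    (hn : R ≤ normalizer (K : Set Γ)) (hR : ∀ x ∈ R, ∃ k, x ^ p ^ k ∈ K)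
    (hSK : S ≤ normalizer (K : Set Γ)) (hSR : S ≤ normalizer (R : Set Γ)) {m : ℕ}
    (hm : ∀ s ∈ S, s ^ m ∈ K) (hcop : ¬ p ∣ m) {θ : IrrCharacter K} (hθ : InvBy K S θ.1)
    (e : Extends θ.1 R) :
    ∃ μ : IrrCharacter R, (∀ k : K, μ.1 ⟨k, h k.2⟩ = θ.1 k) ∧ InvBy R S μ.1 := by
  obtain ⟨μ, hμ⟩ := (extends_iff h).1 e
  have hN : K ⊔ ⁅R, R⁆ ≤ R := sup_le h ((commutator_le_sup R R).trans (sup_idem R).le)
  have hnn : ∀ x ∈ normalizer (K : Set Γ), x ∈ normalizer (R : Set Γ) →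
      x ∈ normalizer ((K ⊔ ⁅R, R⁆ : Subgroup Γ) : Set Γ) := fun x h1 h2 => by
    refine mem_normalizer_sup h1 ?_
    have := normalizer_le_normalizer_dser R 1 h2
    rwa [dser_succ, dser_zero] at this
  have hab : ∀ a ∈ R, ∀ b ∈ R, a * b * a⁻¹ * b⁻¹ ∈ K ⊔ ⁅R, R⁆ := fun a ha b hb =>
    mem_sup_right (commutator_mem_commutator ha hb)
  let ω := resExt le_sup_left hN μ hμ
  have hω : ∀ μ' : IrrCharacter R, (∀ k : K, μ'.1 ⟨k, h k.2⟩ = θ.1 k) →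
      ∀ n : ↥(K ⊔ ⁅R, R⁆), μ'.1 ⟨n, hN n.2⟩ = ω.1 n := fun μ' e' n => by
    obtain ⟨lam, hl, rfl⟩ := exists_linear_of_ext h hn hμ e'
    have : K ⊔ ⁅R, R⁆ ≤ lam.ker.map R.subtype := by
      refine sup_le (fun k hk => ⟨⟨k, h hk⟩, hl _ hk, rfl⟩) (commutator_le.2 fun a ha b hb =>
        ⟨⁅(⟨a, ha⟩ : R), ⟨b, hb⟩⁆, ?_, rfl⟩)
      change lam _ = 1
      rw [map_commutatorElement, commutatorElement_eq_one_iff_mul_comm, mul_comm]
    obtain ⟨y, hy, e⟩ := this n.2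
    rw [mulLin_apply, show (⟨n, hN n.2⟩ : R) = y from Subtype.ext e.symm,
      show lam y = 1 from hy, Units.val_one, mul_one]
    exact congrArg μ.1 (Subtype.ext e)
  have hωS : InvBy _ S ω.1 := fun s hs g g' hg => by
    rw [← hω _ (cj_ext h (hSR hs) (hSK hs) (hθ s hs) hμ) g']
    exact cj_apply_of_eq _ _ hg
  obtain ⟨a, ha⟩ := exists_relIndex_eq_pow hp hN (fun x hx => hnn x (hn hx) (le_normalizer hx))
    (pmod_mono hR le_sup_left le_rfl)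
  obtain ⟨ψ, h1, h2⟩ := exists_inv_over_of_comm hN (fun x hx => hnn x (hn hx) (le_normalizer hx))
    hab hSR (fun x hx => hnn x (hSK hx) (hSR hx)) (fun s hs => mem_sup_left (hm s hs))
    (ha ▸ (Nat.Coprime.pow_left a ((Nat.Prime.coprime_iff_not_dvd hp).2 hcop)).symm) ω hωS
  obtain ⟨lam, hl, e⟩ := exists_linear_of_over hN (fun x hx => hnn x (hn hx) (le_normalizer hx))
    hab ((mult_eq_one_of_res_eq hN (χ := μ) (θ := ω) fun _ => rfl).trans_ne one_ne_zero) h1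
  exact ⟨ψ, fun k => by rw [e, Pi.mul_apply, hμ, hl _ (mem_sup_left k.2), Units.val_one, mul_one],
    h2⟩

/-- Equal extendibility over abelian sections gives equal numbers of characters. -/
theorem card_over_eq_of_extends {K B C B₀ : Subgroup Γ} (hKB : K ≤ B)
    (hBK : B ≤ normalizer (K : Set Γ)) (hCB : C ≤ B₀) (hB₀ : B₀ ≤ B)
    (hC : ∀ x ∈ B₀, x ∈ C ↔ x ∈ K) (hB : ∀ b ∈ B, ∃ k ∈ K, ∃ b₀ ∈ B₀, b = k * b₀)
    {θ : IrrCharacter K} {ξ : IrrCharacter C} (hθ : InvBy K B θ.1) (hξ : InvBy C B₀ ξ.1)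
    (hext : ∀ A, C ≤ A → A ≤ B₀ → (∀ a ∈ A, ∀ b ∈ A, a * b * a⁻¹ * b⁻¹ ∈ C) →
      (Extends θ.1 (K ⊔ A) ↔ Extends ξ.1 A)) :
    Nat.card {χ : IrrCharacter B // mult hKB χ θ ≠ 0} =
      Nat.card {χ : IrrCharacter B₀ // mult hCB χ ξ ≠ 0} := by
  haveI : (K.subgroupOf B).Normal := (normal_subgroupOf_iff_le_normalizer hKB).2 hBK
  have hn : B₀ ≤ normalizer (C : Set Γ) := le_normalizer_of_conj_mem fun s hs g hg =>
    (hC _ (mul_mem (mul_mem hs (hCB hg)) (inv_mem hs))).2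
      (H4.conj_mem_of_mem_normalizer (hBK (hB₀ hs)) ((hC _ (hCB hg)).1 hg))
  rw [card_over_eq_card_good hKB hBK hθ (QuotientGroup.mk' (K.subgroupOf B))
    (QuotientGroup.mk'_surjective _) (fun g => QuotientGroup.eq_one_iff g),
    card_over_eq_card_good hCB hn hξ ((QuotientGroup.mk' (K.subgroupOf B)).comp (inclusion hB₀))
    (fun q => by
      obtain ⟨b, rfl⟩ := QuotientGroup.mk_surjective q
      obtain ⟨k, hk, b₀, hb₀, e⟩ := hB b b.2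
      refine ⟨⟨b₀, hb₀⟩, QuotientGroup.eq.2 ?_⟩
      change b₀⁻¹ * b ∈ K
      rw [e, ← mul_assoc]
      exact H4.inv_conj_mem_of_mem_normalizer (hBK (hB₀ hb₀)) hk)
    (fun g => (QuotientGroup.eq_one_iff _).trans (hC g g.2).symm)]
  have key : ∀ k ∈ K, ∀ x ∈ B₀, ∀ k' ∈ K, ∀ t ∈ B₀, (k * x * (k' * t) * (k * x)⁻¹ * (k' * t)⁻¹ ∈ K ↔
      x * t * x⁻¹ * t⁻¹ ∈ C) := fun k hk x hx k' hk' t ht => by
    rw [hC _ (mul_mem (mul_mem (mul_mem hx ht) (inv_mem hx)) (inv_mem ht))]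
    have e : k * x * (k' * t) * (k * x)⁻¹ * (k' * t)⁻¹ =
      (k * (x * k' * x⁻¹)) * (x * t * x⁻¹ * t⁻¹) * ((t * k⁻¹ * t⁻¹) * k'⁻¹) := by group
    rw [e, mul_mem_cancel_right (mul_mem (H4.conj_mem_of_mem_normalizer (hBK (hB₀ ht))
      (inv_mem hk)) (inv_mem hk')), mul_mem_cancel_left (mul_mem hk
      (H4.conj_mem_of_mem_normalizer (hBK (hB₀ hx)) hk'))]
  have hA : ∀ x ∈ B₀, ∀ t ∈ B₀, x * t * x⁻¹ * t⁻¹ ∈ C →
      (Extends θ.1 (K ⊔ (C ⊔ zpowers x ⊔ zpowers t)) ↔ Extends ξ.1 (C ⊔ zpowers x ⊔ zpowers t)) :=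
    fun x hx t ht h => hext _ (le_sup_left.trans le_sup_left)
      (sup_le (sup_le hCB (zpowers_le_of_mem hx)) (zpowers_le_of_mem ht))
      (comm_mod_pair hCB hn hx ht h)
  have hCK : C ≤ K := fun c hc => (hC _ (hCB hc)).1 hc
  refine Nat.card_congr (Equiv.subtypeEquivRight fun c => ⟨?_, ?_⟩)
  · rintro ⟨x, rfl, hx⟩
    obtain ⟨k, hk, x₀, hx₀, e⟩ := hB x x.2
    refine ⟨⟨x₀, hx₀⟩, congrArg _ (QuotientGroup.eq.2 ?_), fun t ht h => ?_⟩
    · change x₀⁻¹ * x ∈ K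
      rw [e, ← mul_assoc]
      exact H4.inv_conj_mem_of_mem_normalizer (hBK (hB₀ hx₀)) hk
    · obtain ⟨A, h1, h2, h3, h4⟩ := hx t (hB₀ ht) (by
        have := (key k hk x₀ hx₀ 1 (one_mem _) t ht).2 h
        rwa [one_mul, ← e] at this)
      rw [e, mul_mem_cancel_left (h1 hk)] at h2
      exact ⟨_, le_sup_left.trans le_sup_left, mem_sup_left (mem_sup_zpowers _ _),
        mem_sup_zpowers _ _, (hA x₀ hx₀ t ht h).1 (h4.mono le_sup_left (sup_le h1 (sup_le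
        (sup_le (hCK.trans h1) (zpowers_le_of_mem h2)) (zpowers_le_of_mem h3))))⟩
  · rintro ⟨x, rfl, hx⟩
    refine ⟨inclusion hB₀ x, rfl, fun t ht h => ?_⟩
    obtain ⟨k, hk, t₀, ht₀, rfl⟩ := hB t ht
    have h' := (key 1 (one_mem _) x x.2 k hk t₀ ht₀).1 (by rw [one_mul]; exact h)
    obtain ⟨A, h1, h2, h3, h4⟩ := hx t₀ ht₀ h'
    exact ⟨_, le_sup_left, mem_sup_right (mem_sup_left (mem_sup_zpowers _ _)),
      mul_mem (mem_sup_left hk) (mem_sup_right (mem_sup_zpowers _ _)),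
      (hA x x.2 t₀ ht₀ h').2 (h4.mono (le_sup_left.trans le_sup_left)
        (sup_le (sup_le h1 (zpowers_le_of_mem h2)) (zpowers_le_of_mem h3)))⟩

/-- Counting characters of `G` through one `H`-orbit of constituents each. -/
theorem card_mul_eq_sum_weight {K G H : Subgroup Γ} (h : K ≤ G) (hHG : H ≤ G)
    (hH : H ≤ normalizer (K : Set Γ)) (X : IrrCharacter K → Prop) (Y : IrrCharacter G → Prop)
    [Fintype {θ // X θ}] (hX : ∀ (x : H) θ, X θ → X (cj K ⟨x, hH x.2⟩ θ))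
    (hex : ∀ χ, Y χ → ∃ θ, X θ ∧ mult h χ θ ≠ 0)
    (htr : ∀ χ θ θ', Y χ → X θ → X θ' → mult h χ θ ≠ 0 → mult h χ θ' ≠ 0 →
      ∃ x : H, cj K ⟨x, hH x.2⟩ θ = θ') :
    Nat.card H * Nat.card {χ // Y χ} = ∑ θ : {θ // X θ},
      Nat.card ((invStab K θ.1.1).subgroupOf H) * Nat.card {χ // Y χ ∧ mult h χ θ.1 ≠ 0} := by
  classical
  haveI := Fintype.ofFinite (IrrCharacter G)
  haveI := Fintype.ofFinite (IrrCharacter K)
  letI := subAct hH
  have h1 : ∀ θ : IrrCharacter K, (invStab K θ.1).subgroupOf H = MulAction.stabilizer H θ :=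
    fun θ => Subgroup.ext fun x => by
      rw [mem_subgroupOf, mem_invStab, and_iff_right (hH x.2), MulAction.mem_stabilizer_iff]
      exact (cj_eq_self_iff (H := K) ⟨x, hH x.2⟩ θ).symm
  have h2 : ∀ θ : IrrCharacter K, Nat.card {χ // Y χ ∧ mult h χ θ ≠ 0} =
      ∑ χ with Y χ, if mult h χ θ ≠ 0 then 1 else 0 := fun θ => by
    rw [← Finset.sum_filter, Finset.filter_filter, ← Finset.card_eq_sum_ones,
      Nat.subtype_card (Finset.univ.filter fun χ => Y χ ∧ mult h χ θ ≠ 0) (by simp)]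
  simp only [h1, h2, Finset.mul_sum]
  rw [Finset.sum_comm, Nat.subtype_card (Finset.univ.filter Y) (by simp), mul_comm, ← smul_eq_mul,
    ← Finset.sum_const]
  refine Finset.sum_congr rfl fun χ hχ => ?_
  have hY := (Finset.mem_filter.1 hχ).2
  obtain ⟨θ, a, b⟩ := hex χ hY
  rw [← sum_card_stabilizer (Finset.univ.filter fun θ' => X θ' ∧ mult h χ θ' ≠ 0) θ fun θ' => ?_]
  · simp only [mul_ite, mul_one, mul_zero]
    rw [← Finset.filter_filter, Finset.sum_filter]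
    exact Finset.sum_subtype _ (by simp) _
  · rw [Finset.mem_filter, and_iff_right (Finset.mem_univ _)]
    constructor
    · exact fun ⟨c, d⟩ => htr χ θ θ' hY a c b d
    · rintro ⟨x, rfl⟩
      exact ⟨hX x θ a, (mult_cj_of_mem h (hHG x.2) (hH x.2) χ θ).trans_ne b⟩

/-- Clifford correspondence with a degree condition. -/
theorem card_clifford (hp : p.Prime) {N T G : Subgroup Γ} (h₁ : N ≤ T) (h₂ : T ≤ G)
    (hN : G ≤ normalizer (N : Set Γ)) {θ : IrrCharacter N} (hT : invStab N θ.1 ⊓ G ≤ T)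
    (hcop : ¬ p ∣ T.relIndex G) :
    Nat.card {χ : IrrCharacter G // ¬ p ∣ charDegree χ.1 ∧ mult (h₁.trans h₂) χ θ ≠ 0} =
      Nat.card {ψ : IrrCharacter T // ¬ p ∣ charDegree ψ.1 ∧ mult h₁ ψ θ ≠ 0} := by
  obtain ⟨f, hf⟩ := exists_clifford_equiv h₁ h₂ hN hT
  simp only [and_comm (a := ¬ p ∣ _)]
  rw [← Nat.card_congr (Equiv.subtypeSubtypeEquivSubtypeInter _ _),
    ← Nat.card_congr (Equiv.subtypeSubtypeEquivSubtypeInter _ _)]
  refine (Nat.card_congr (f.subtypeEquiv fun ψ => ?_)).symm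
  rw [(clifford_aux h₁ h₂ hN hT ψ.2 (hf ψ)).2.2, hp.dvd_mul, not_or, and_iff_right hcop]

end Cfsg.Agent.H23
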