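import Mathlib
import Cfsg.Agent.H23.OWBasic

/-!
# The Okuyama–Wajima extension theorem (relative form)
-/

namespace Cfsg.Agent.H23

open Cfsg Subgroup
open scoped commutatorElement

section Grp

variable {Γ : Type*} [Group Γ]

theorem comm_sup_of_comm {K A : Subgroup Γ} (hA : A ≤ normalizer (K : Set Γ))
    (h : ∀ a ∈ A, ∀ b ∈ A, a * b * a⁻¹ * b⁻¹ ∈ K) :
    ∀ a ∈ K ⊔ A, ∀ b ∈ K ⊔ A, a * b * a⁻¹ * b⁻¹ ∈ K := fun a ha b hb => by
  obtain ⟨k, hk, x, hx, rfl⟩ := (H4.mem_sup_iff_of_le_normalizer hA).1 ha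
  obtain ⟨k', hk', t, ht, rfl⟩ := (H4.mem_sup_iff_of_le_normalizer hA).1 hb
  have e : k * x * (k' * t) * (k * x)⁻¹ * (k' * t)⁻¹ =
    (k * (x * k' * x⁻¹)) * (x * t * x⁻¹ * t⁻¹) * ((t * k⁻¹ * t⁻¹) * k'⁻¹) := by group
  rw [e]
  exact mul_mem (mul_mem (mul_mem hk (H4.conj_mem_of_mem_normalizer (hA hx) hk')) (h x hx t ht))
    (mul_mem (H4.conj_mem_of_mem_normalizer (hA ht) (inv_mem hk)) (inv_mem hk'))

theorem relIndex_sup_of_le_normalizer {Z A : Subgroup Γ} (hA : A ≤ normalizer (Z : Set Γ)) :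
    Z.relIndex (Z ⊔ A) = Z.relIndex A :=
  (H4.relIndex_eq_of_mul le_sup_right fun _ hk => (H4.mem_sup_iff_of_le_normalizer' hA).1 hk).symm

theorem relIndex_dvd_of_le_left {L K B : Subgroup Γ} (h₁ : L ≤ K) (h₂ : K ≤ B) :
    K.relIndex B ∣ L.relIndex B := Dvd.intro_left _ (relIndex_mul_relIndex L K B h₁ h₂)

theorem not_dvd_relIndex {p : ℕ} {L A K B : Subgroup Γ} (h : ¬ p ∣ L.relIndex A) (h₁ : L ≤ K)
    (h₂ : K ≤ B) (h₃ : B ≤ A) : ¬ p ∣ K.relIndex B := fun hd =>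
  h (hd.trans ((relIndex_dvd_of_le_left h₁ h₂).trans (relIndex_dvd_of_le (h₁.trans h₂) h₃)))

theorem lt_centMod [Finite Γ] {p : ℕ} (hp : p.Prime) {L P : Subgroup Γ} (h : L < P)
    (hn : P ≤ normalizer (L : Set Γ)) (hP : ∀ x ∈ P, ∃ k, x ^ p ^ k ∈ L) :
    L < centMod P L P := by
  haveI := Fact.mk hp
  haveI : (L.subgroupOf P).Normal := (normal_subgroupOf_iff_le_normalizer h.le).2 hn
  have hq : IsPGroup p (P ⧸ L.subgroupOf P) := fun q => by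
    obtain ⟨x, rfl⟩ := QuotientGroup.mk_surjective q
    obtain ⟨k, hk⟩ := hP x x.2
    exact ⟨k, by rw [← QuotientGroup.mk_pow, QuotientGroup.eq_one_iff]; exact hk⟩
  obtain ⟨y, hy, hy'⟩ := SetLike.exists_of_lt h
  haveI : Nontrivial (P ⧸ L.subgroupOf P) :=
    ⟨⟨(⟨y, hy⟩ : P), 1, fun e => hy' ((QuotientGroup.eq_one_iff (N := L.subgroupOf P) _).1 e)⟩⟩
  haveI := hq.center_nontrivial
  obtain ⟨⟨z, hz⟩, hz1⟩ := exists_ne (1 : center (P ⧸ L.subgroupOf P))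
  obtain ⟨z, rfl⟩ := QuotientGroup.mk_surjective z
  refine lt_of_le_of_ne (le_centMod h.le hn) fun e => hz1 (Subtype.ext ?_)
  refine (QuotientGroup.eq_one_iff _).2 (e.ge ((mem_centMod hn).2 ⟨z.2, fun x hx => ?_⟩))
  refine (QuotientGroup.eq_one_iff (N := L.subgroupOf P) (⟨x, hx⟩ * z * ⟨x, hx⟩⁻¹ * z⁻¹)).1 ?_
  simp only [QuotientGroup.mk_mul, QuotientGroup.mk_inv]
  rw [mem_center_iff.1 hz]; group

theorem exists_generator_of_simple [Finite Γ] {p : ℕ} (hp : p.Prime) {L P A : Subgroup Γ}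
    (hLP : L ≤ P) (hPL : P ≤ normalizer (L : Set Γ)) (hP : ∀ x ∈ P, ∃ k, x ^ p ^ k ∈ L)
    (hAL : A ≤ normalizer (L : Set Γ)) (hAP : A ≤ normalizer (P : Set Γ))
    (hab : ∀ a ∈ A, ∀ b ∈ A, ∀ x ∈ P, ⁅x, a * b * a⁻¹ * b⁻¹⁆ ∈ L)
    (hs : ∀ W : Subgroup Γ, L ≤ W → W ≤ P → A ≤ normalizer (W : Set Γ) → W = L ∨ W = P) :
    ∃ s ∈ A, ∀ a ∈ A, ∃ n : ℤ, ∀ x ∈ P, ⁅x, a * (s ^ n)⁻¹⁆ ∈ L := by
  haveI := Fact.mk hp
  haveI : (L.subgroupOf P).Normal := (normal_subgroupOf_iff_le_normalizer hLP).2 hPL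
  have hq : IsPGroup p (P ⧸ L.subgroupOf P) := fun q => by
    obtain ⟨x, rfl⟩ := QuotientGroup.mk_surjective q
    obtain ⟨k, hk⟩ := hP x x.2
    exact ⟨k, by rw [← QuotientGroup.mk_pow, QuotientGroup.eq_one_iff]; exact hk⟩
  haveI := hq.isNilpotent
  let φ := H4.sectionAct hAP hAL
  haveI : IsMulCommutative φ.range := ⟨⟨by
    rintro ⟨_, a, rfl⟩ ⟨_, b, rfl⟩
    apply Subtype.ext
    have := (H4.mem_ker_sectionAct hAP hAL (a * b * a⁻¹ * b⁻¹)).2 (hab a a.2 b b.2)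
    rw [MonoidHom.mem_ker, map_mul, map_mul, map_mul, map_inv, map_inv, mul_inv_eq_one,
      mul_inv_eq_iff_eq_mul] at this
    exact this⟩⟩
  have hc := H4.isCyclic_range_of_simple_action φ.range.subtype fun W hW =>
    H4.sectionAct_simple hLP hAP hAL hs W fun a => hW ⟨_, a, rfl⟩
  rw [range_subtype] at hc
  obtain ⟨⟨_, s, rfl⟩, hg⟩ := hc.exists_generator
  refine ⟨s, s.2, fun a ha => ?_⟩
  obtain ⟨n, hn⟩ := mem_zpowers_iff.1 (hg ⟨_, ⟨a, ha⟩, rfl⟩)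
  refine ⟨n, (H4.mem_ker_sectionAct hAP hAL (⟨a, ha⟩ * (s ^ n)⁻¹)).1 ?_⟩
  rw [MonoidHom.mem_ker, map_mul, map_inv, map_zpow, mul_inv_eq_one]
  exact (congrArg Subtype.val hn).symm

end Grp

variable {Γ : Type*} [Group Γ] [Finite Γ] {p : ℕ}

theorem mult_trans_of_inv {C K G : Subgroup Γ} (h₁ : C ≤ K) (h₂ : K ≤ G)
    (hn : G ≤ normalizer (K : Set Γ)) {χ : IrrCharacter G} {θ : IrrCharacter K}
    (h : mult h₂ χ θ ≠ 0) (hθ : InvBy K G θ.1) (ξ : IrrCharacter C) :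
    mult (h₁.trans h₂) χ ξ = mult h₂ χ θ * mult h₁ θ ξ := by
  haveI := Fintype.ofFinite (IrrCharacter K)
  rw [mult_trans h₁ h₂, Finset.sum_eq_single θ (fun θ' _ hne => ?_)
    (fun h => absurd (Finset.mem_univ _) h)]
  rw [Classical.not_not.1 fun h0 => hne (eq_of_under_of_inv h₂ hn h h0 hθ), zero_mul]

theorem mult_trans_of_res_eq {C K G : Subgroup Γ} (h₁ : C ≤ K) (h₂ : K ≤ G)
    {χ : IrrCharacter G} {θ : IrrCharacter K} (e : ∀ k : K, χ.1 ⟨k, h₂ k.2⟩ = θ.1 k)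
    (ξ : IrrCharacter C) : mult (h₁.trans h₂) χ ξ = mult h₁ θ ξ := by
  haveI := Fintype.ofFinite C
  refine mult_eq_of_inner _ ?_
  rw [← mult_spec h₁]
  congr 1
  exact funext fun c => e ⟨c, h₁ c.2⟩

theorem ne_zero_of_not_dvd {n : ℕ} (h : ¬ p ∣ n) : n ≠ 0 := fun h0 => h (h0 ▸ dvd_zero p)

/-- The case where `A` acts irreducibly on `P/L`. -/
theorem ow_simple (hp : p.Prime) {L K P A C : Subgroup Γ} (hLK : L ≤ K) (hLP : L ≤ P)
    (hKL : K ≤ normalizer (L : Set Γ)) (hPL : P ≤ normalizer (L : Set Γ))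
    (hAL : A ≤ normalizer (L : Set Γ)) (hPK : P ≤ normalizer (K : Set Γ))
    (hAK : A ≤ normalizer (K : Set Γ)) (hAP : A ≤ normalizer (P : Set Γ))
    (hC : C = K ⊓ normalizer (P : Set Γ)) (hCA : C ≤ A) (hP : ∀ x ∈ P, ∃ k, x ^ p ^ k ∈ L)
    (hcop : ¬ p ∣ L.relIndex (K ⊔ A)) (hab : ∀ a ∈ A, ∀ b ∈ A, a * b * a⁻¹ * b⁻¹ ∈ K)
    (hs : ∀ W : Subgroup Γ, L ≤ W → W ≤ P → A ≤ normalizer (W : Set Γ) → W = L ∨ W = P)
    (h : C ≤ K) {θ : IrrCharacter K} {ξ : IrrCharacter C} (hθP : InvBy K P θ.1)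
    (hθA : InvBy K A θ.1) (hξP : InvBy C P ξ.1) (hm : ¬ p ∣ mult h θ ξ) :
    Extends θ.1 (K ⊔ A) ↔ Extends ξ.1 A := by
  have hBK : K ⊔ A ≤ normalizer (K : Set Γ) := sup_le le_normalizer hAK
  have hBL : K ⊔ A ≤ normalizer (L : Set Γ) := sup_le hKL hAL
  have hab' := comm_sup_of_comm hAK hab
  have hcK : ¬ p ∣ L.relIndex K := not_dvd_relIndex hcop le_rfl hLK le_sup_left
  have hLC : L ≤ C := hC ▸ le_inf hLK (hLP.trans le_normalizer)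
  have hnC : ∀ x ∈ normalizer (K : Set Γ), x ∈ normalizer (P : Set Γ) →
      x ∈ normalizer (C : Set Γ) := fun x h1 h2 =>
    hC ▸ mem_normalizer_inf h1 (mem_normalizer_normalizer h2)
  have hPC : P ≤ normalizer (C : Set Γ) := fun x hx => hnC x (hPK hx) (le_normalizer hx)
  have hAC : A ≤ normalizer (C : Set Γ) := fun x hx => hnC x (hAK hx) (hAP hx)
  have HK := isCorr_rel hp hLP hP hPL hPK hLK hKL hcK hC h
  have hξA : InvBy C A ξ.1 := fun a ha =>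
    (HK.invEl_iff hPK hPC hθP hξP hm (hAK ha) (hAC ha) (hAP ha)).1 (hθA a ha)
  have hθB : InvBy K (K ⊔ A) θ.1 := sup_comm A K ▸ (invBy_sup_iff le_rfl hAK θ).2 hθA
  obtain ⟨M, hM⟩ : ∃ M, M = centMod (K ⊔ A) K P := ⟨_, rfl⟩
  obtain ⟨E, hE⟩ : ∃ E, E = M ⊓ normalizer (P : Set Γ) := ⟨_, rfl⟩
  have hMm : ∀ {g}, g ∈ M ↔ g ∈ K ⊔ A ∧ ∀ x ∈ P, x * g * x⁻¹ * g⁻¹ ∈ K := hM ▸ mem_centMod hBK
  have hKM : K ≤ M := hM ▸ le_centMod le_sup_left hPK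
  have hMB : M ≤ K ⊔ A := fun g hg => (hMm.1 hg).1
  have hEM : E ≤ M := hE ▸ inf_le_left
  have hEP : E ≤ normalizer (P : Set Γ) := hE ▸ inf_le_right
  have hCE : C ≤ E := hE ▸ hC ▸ inf_le_inf_right _ hKM
  have hEA : E ≤ A := fun e he => by
    obtain ⟨k, hk, a, ha, rfl⟩ := (H4.mem_sup_iff_of_le_normalizer hAK).1 (hMB (hEM he))
    exact mul_mem (hCA (hC ▸ ⟨hk, (mul_mem_cancel_right (hAP ha)).1 (hEP he)⟩)) ha
  have hPM : P ≤ normalizer (M : Set Γ) := fun x hx =>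
    mem_normalizer_of_commutator_mem hKM fun g hg => (hMm.1 hg).2 x hx
  have hBM : K ⊔ A ≤ normalizer (M : Set Γ) := fun x hx =>
    mem_normalizer_of_commutator_mem hKM fun g hg => hab' x hx g (hMB hg)
  have hnE : ∀ x ∈ normalizer (M : Set Γ), x ∈ normalizer (P : Set Γ) →
      x ∈ normalizer (E : Set Γ) := fun x h1 h2 =>
    hE ▸ mem_normalizer_inf h1 (mem_normalizer_normalizer h2)
  have hPE : P ≤ normalizer (E : Set Γ) := fun x hx => hnE x (hPM hx) (le_normalizer hx)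
  have hAE : A ≤ normalizer (E : Set Γ) := fun x hx => hnE x (hBM (mem_sup_right hx)) (hAP hx)
  have hcM : ¬ p ∣ L.relIndex M := not_dvd_relIndex hcop le_rfl (hLK.trans hKM) hMB
  have HM := isCorr_rel hp hLP hP hPL hPM (hLK.trans hKM) (hMB.trans hBL) hcM hE hEM
  have hidx : C.relIndex E = K.relIndex M := by
    rw [← H4.relIndex_eq_of_mul hEM (C := K) fun g hg => ?_, ← inf_relIndex_right K E]
    · congr 1
      exact le_antisymm (le_inf h hCE) (hC ▸ inf_le_inf_left _ hEP)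
    · obtain ⟨a, ha, k, hk, rfl⟩ := (H4.mem_sup_iff_of_le_normalizer' hAK).1 (hMB hg)
      exact ⟨a, hE ▸ ⟨(mul_mem_cancel_right (hKM hk)).1 hg, hAP ha⟩, k, hk, rfl⟩
  have hcKM : ¬ p ∣ K.relIndex M := not_dvd_relIndex hcop hLK hKM hMB
  have cop : ∀ (k : ℕ) {n}, ¬ p ∣ n → (p ^ k).Coprime n := fun k n hn =>
    Nat.Coprime.pow_left k ((Nat.Prime.coprime_iff_not_dvd hp).2 hn)
  have hX : ∀ ψ, mult hKM ψ θ ≠ 0 → InvBy M P ψ.1 := fun ψ h0 x hx => by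
    obtain ⟨k, hk⟩ := hP x hx
    exact invEl_over_of_trivial hKM (hMB.trans hBK) (hPK hx) (fun g hg => (hMm.1 hg).2 x hx)
      (hLK hk) (cop k hcKM) h0 (hθP x hx)
  have hY : ∀ ψ, mult hCE ψ ξ ≠ 0 → InvBy E P ψ.1 := fun ψ h0 x hx => by
    obtain ⟨k, hk⟩ := hP x hx
    exact invEl_over_of_trivial hCE (hEA.trans hAC) (hPC hx) (fun g hg => hLC
      (((mem_inf_normalizer_iff hp hLP hP hPM (hMB.trans hBL) hcM).1 (hE ▸ hg)).2 x hx))
      (hLC hk) (cop k (hidx ▸ hcKM)) h0 (hξP x hx)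
  have hXY : ∀ ψ ψ₀, InvBy M P ψ.1 → InvBy E P ψ₀.1 → ¬ p ∣ mult hEM ψ ψ₀ →
      (mult hKM ψ θ ≠ 0 ↔ mult hCE ψ₀ ξ ≠ 0) := fun ψ ψ₀ a b c => by
    have h1 := HM.mult_trans_rel hp (h₁ := hCE) hLP hP hPL hLC hPM hPE hPC a b hξP c
    constructor
    · intro h0
      refine ne_zero_of_not_dvd (h1.1 ?_)
      rw [mult_trans_of_inv h hKM (hMB.trans hBK) h0 (hθB.mono hMB), hp.dvd_mul, not_or]
      exact ⟨fun hd => hcKM (hd.trans (mult_dvd_relIndex hKM (hMB.trans hBK) h0 (hθB.mono hMB))),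
        hm⟩
    · intro h0
      haveI := Fintype.ofFinite (IrrCharacter K)
      have h2 := h1.2 fun hd => hcKM (hidx ▸ hd.trans
        (mult_dvd_relIndex hCE (hEA.trans hAC) h0 (hξA.mono hEA)))
      rw [mult_trans h hKM] at h2
      obtain ⟨θ', h3⟩ := not_forall.1 fun h' => h2 (Finset.dvd_sum fun η _ => h' η)
      rw [hp.dvd_mul, not_or] at h3
      have h4 : InvBy K P θ'.1 := fun x hx => by
        obtain ⟨k, hk⟩ := hP x hx
        exact invEl_under_of_trivial hKM (hMB.trans hBK) (hPK hx) (fun g hg => (hMm.1 hg).2 x hx)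
          (hLK hk) (cop k hcKM) (ne_zero_of_not_dvd h3.1) (a x hx)
      rw [← HK.uniqL _ _ _ h4 hθP hξP h3.2 hm]
      exact ne_zero_of_not_dvd h3.1
  obtain ⟨f, -⟩ := HM.exists_equiv hX hY hXY
  have hmult : ∀ ψ ψ₀, mult hKM ψ θ ≠ 0 → mult hCE ψ₀ ξ ≠ 0 → mult hKM ψ θ = mult hCE ψ₀ ξ := by
    intro ψ ψ₀ a b
    have h1 := card_over_mul_sq hKM (hMB.trans hBK) (fun x hx y hy => hab' x (hMB hx) y (hMB hy))
      (hθB.mono hMB) a
    have h2 := card_over_mul_sq hCE (hEA.trans hAC) (fun x hx y hy => hC ▸ ⟨hab x (hEA hx) y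
      (hEA hy), hEP (mul_mem (mul_mem (mul_mem hx hy) (inv_mem hx)) (inv_mem hy))⟩) (hξA.mono hEA) b
    rw [hidx, ← h1, Nat.card_congr f] at h2
    haveI : Nonempty {χ : IrrCharacter E // mult hCE χ ξ ≠ 0} := ⟨⟨ψ₀, b⟩⟩
    exact (Nat.pow_left_injective two_ne_zero (Nat.eq_of_mul_eq_mul_left Nat.card_pos h2)).symm
  obtain ⟨s, hsA, hgen⟩ := exists_generator_of_simple hp hLP hPL hP hAL hAP (fun a ha b hb =>
    ((mem_inf_normalizer_iff hp hLP hP hPK hKL hcK).1 ⟨hab a ha b hb,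
      hAP (mul_mem (mul_mem (mul_mem ha hb) (inv_mem ha)) (inv_mem hb))⟩).2) hs
  have hgenE : ∀ a ∈ A, ∃ n : ℤ, a * (s ^ n)⁻¹ ∈ E := fun a ha => by
    obtain ⟨n, hn⟩ := hgen a ha
    have h1 : a * (s ^ n)⁻¹ ∈ A := mul_mem ha (inv_mem (zpow_mem hsA n))
    exact ⟨n, hE ▸ ⟨hMm.2 ⟨mem_sup_right h1, fun x hx => hLK (hn x hx)⟩, hAP h1⟩⟩
  have hinv : ∀ ψ ψ₀, InvBy M P ψ.1 → InvBy E P ψ₀.1 → ¬ p ∣ mult hEM ψ ψ₀ →
      (InvEl M s ψ.1 ↔ InvEl E s ψ₀.1) := fun ψ ψ₀ a b c =>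
    HM.invEl_iff hPM hPE a b c (hBM (mem_sup_right hsA)) (hAE hsA) (hAP hsA)
  constructor
  · intro e
    obtain ⟨χ, hχ⟩ := (extends_iff le_sup_left).1 e
    let ψ := resExt hKM hMB χ hχ
    have h1 : mult hKM ψ θ = 1 := mult_eq_one_of_res_eq hKM hχ
    have h2 := hX ψ (h1.trans_ne one_ne_zero)
    obtain ⟨ψ₀, a, b⟩ := HM.exR ψ h2
    have h3 := (hXY _ _ h2 a b).1 (h1.trans_ne one_ne_zero)
    have h4 := hmult _ _ (h1.trans_ne one_ne_zero) h3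
    rw [h1, eq_comm, ← res_eq_iff_mult_eq_one hCE (hEA.trans hAC) (hξA.mono hEA)] at h4
    refine Extends.trans hCE h4 (extends_of_generator hEA hAE hsA hgenE ((hinv _ _ h2 a b).1 ?_))
    exact InvEl.res hMB (invEl_of_mem (H11.isClassFunction_of_irr χ.2) (mem_sup_right hsA))
  · intro e
    obtain ⟨χ, hχ⟩ := (extends_iff hCA).1 e
    let ψ₀ := resExt hCE hEA χ hχ
    have h1 : mult hCE ψ₀ ξ = 1 := mult_eq_one_of_res_eq hCE hχ
    have h2 := hY ψ₀ (h1.trans_ne one_ne_zero)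
    obtain ⟨ψ, a, b⟩ := HM.exL ψ₀ h2
    have h3 := (hXY _ _ a h2 b).2 (h1.trans_ne one_ne_zero)
    have h4 := hmult _ _ h3 (h1.trans_ne one_ne_zero)
    rw [h1, ← res_eq_iff_mult_eq_one hKM (hMB.trans hBK) (hθB.mono hMB)] at h4
    refine Extends.trans hKM h4 (extends_of_generator hMB hBM (mem_sup_right hsA) (fun x hx => ?_)
      ((hinv _ _ a h2 b).2 ?_))
    · obtain ⟨k, hk, a, ha, rfl⟩ := (H4.mem_sup_iff_of_le_normalizer hAK).1 hx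
      obtain ⟨n, hn⟩ := hgenE a ha
      exact ⟨n, by rw [mul_assoc]; exact mul_mem (hKM hk) (hEM hn)⟩
    · exact InvEl.res hEA (invEl_of_mem (H11.isClassFunction_of_irr χ.2) hsA)

/-- The Okuyama–Wajima theorem, relative to a normal subgroup `L`. -/
theorem okuyama_wajima (hp : p.Prime) {P : Subgroup Γ} (n : ℕ) : ∀ {L K A C : Subgroup Γ},
    L.relIndex P = n → L ≤ K → L ≤ P → K ≤ normalizer (L : Set Γ) → P ≤ normalizer (L : Set Γ) →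
    A ≤ normalizer (L : Set Γ) → P ≤ normalizer (K : Set Γ) → A ≤ normalizer (K : Set Γ) →
    A ≤ normalizer (P : Set Γ) → C = K ⊓ normalizer (P : Set Γ) → C ≤ A →
    (∀ x ∈ P, ∃ k, x ^ p ^ k ∈ L) → ¬ p ∣ L.relIndex (K ⊔ A) →
    (∀ a ∈ A, ∀ b ∈ A, a * b * a⁻¹ * b⁻¹ ∈ K) → ∀ (h : C ≤ K) {θ : IrrCharacter K}
    {ξ : IrrCharacter C}, InvBy K P θ.1 → InvBy K A θ.1 → InvBy C P ξ.1 → ¬ p ∣ mult h θ ξ →
    Extends θ.1 (K ⊔ P) → (Extends θ.1 (K ⊔ A) ↔ Extends ξ.1 A) := by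
  induction n using Nat.strong_induction_on with
  | _ n ih =>
  intro L K A C hn hLK hLP hKL hPL hAL hPK hAK hAP hC hCA hP hcop hab h θ ξ hθP hθA hξP hm hext
  rcases hLP.eq_or_lt with rfl | hlt
  · obtain rfl : C = K := hC.trans (inf_eq_left.2 hKL)
    obtain rfl := eq_of_mult_ne_zero h (ne_zero_of_not_dvd hm)
    rw [sup_eq_right.2 hCA]
  obtain ⟨Z, ⟨hLZ, hZc, hAZ⟩, hmin⟩ := exists_minimal_of_wellFoundedLT
    (fun W : Subgroup Γ => L < W ∧ W ≤ centMod P L P ∧ A ≤ normalizer (W : Set Γ))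
    ⟨_, lt_centMod hp hlt hPL hP, le_rfl, fun a ha =>
      mem_normalizer_centMod (hAP ha) (hAL ha) (hAP ha)⟩
  have hZP : Z ≤ P := hZc.trans (centMod_le _ _ _)
  have hPZ : P ≤ normalizer (Z : Set Γ) := fun x hx =>
    mem_normalizer_of_commutator_mem hLZ.le fun z hz => ((mem_centMod hPL).1 (hZc hz)).2 x hx
  have hZ := pmod_mono hP le_rfl hZP
  have hBL : K ⊔ A ≤ normalizer (L : Set Γ) := sup_le hKL hAL
  have hBP : (K ⊔ A) ⊓ P ≤ L := inf_le_of_pmod hp hP hBL hcop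
  have hcK : ¬ p ∣ L.relIndex K := not_dvd_relIndex hcop le_rfl hLK le_sup_left
  have hLC : L ≤ C := hC ▸ le_inf hLK (hLP.trans le_normalizer)
  have hCP : C ≤ normalizer (P : Set Γ) := hCA.trans hAP
  have hnC : ∀ x ∈ normalizer (K : Set Γ), x ∈ normalizer (P : Set Γ) →
      x ∈ normalizer (C : Set Γ) := fun x h1 h2 =>
    hC ▸ mem_normalizer_inf h1 (mem_normalizer_normalizer h2)
  have hPC : P ≤ normalizer (C : Set Γ) := fun x hx => hnC x (hPK hx) (le_normalizer hx)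
  have hAC : A ≤ normalizer (C : Set Γ) := fun x hx => hnC x (hAK hx) (hAP hx)
  obtain ⟨D, hD⟩ : ∃ D, D = K ⊓ normalizer (Z : Set Γ) := ⟨_, rfl⟩
  have hDK : D ≤ K := hD ▸ inf_le_left
  have hDZ : D ≤ normalizer (Z : Set Γ) := hD ▸ inf_le_right
  have hCD : C ≤ D := hD ▸ le_inf h (hCA.trans hAZ)
  have hLD : L ≤ D := hLC.trans hCD
  have hnD : ∀ x ∈ normalizer (K : Set Γ), x ∈ normalizer (Z : Set Γ) →
      x ∈ normalizer (D : Set Γ) := fun x h1 h2 =>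
    hD ▸ mem_normalizer_inf h1 (mem_normalizer_normalizer h2)
  have hPD : P ≤ normalizer (D : Set Γ) := fun x hx => hnD x (hPK hx) (hPZ hx)
  have hAD : A ≤ normalizer (D : Set Γ) := fun x hx => hnD x (hAK hx) (hAZ hx)
  have HZ := isCorr_rel hp hLZ.le hZ (hZP.trans hPL) (hZP.trans hPK) hLK hKL hcK hD hDK
  obtain ⟨θ₁, hθ₁Z, hm₁⟩ := HZ.exR θ (hθP.mono hZP)
  have hinv := fun x => HZ.invEl_iff (hZP.trans hPK) (hZP.trans hPD) (hθP.mono hZP) hθ₁Z hm₁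
    (x := x)
  have hθ₁P : InvBy D P θ₁.1 := fun x hx => (hinv x (hPK hx) (hPD hx) (hPZ hx)).1 (hθP x hx)
  have hθ₁A : InvBy D A θ₁.1 := fun x hx => (hinv x (hAK hx) (hAD hx) (hAZ hx)).1 (hθA x hx)
  have hm₂ : ¬ p ∣ mult hCD θ₁ ξ := (HZ.mult_trans_rel hp hLZ.le hZ (hZP.trans hPL) hLC
    (hZP.trans hPK) (hZP.trans hPD) (hZP.trans hPC) (hθP.mono hZP) hθ₁Z (hξP.mono hZP) hm₁).1 hm
  have hKDA : K ⊔ (D ⊔ A) = K ⊔ A := by rw [← sup_assoc, sup_eq_left.2 hDK]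
  have hDAB : D ⊔ A ≤ K ⊔ A := sup_le_sup_right hDK A
  have hDAZ : D ⊔ A ≤ normalizer (Z : Set Γ) := sup_le hDZ hAZ
  have step1 : Extends θ.1 (K ⊔ A) ↔ Extends θ₁.1 (D ⊔ A) := by
    rw [← hKDA]
    refine ow_simple hp hLK hLZ.le hKL (hZP.trans hPL) (hDAB.trans hBL) (hZP.trans hPK)
      (sup_le (hDK.trans le_normalizer) hAK) hDAZ hD le_sup_left hZ (hKDA ▸ hcop)
      (fun a ha b hb => comm_sup_of_comm hAK hab a (hDAB ha) b (hDAB hb)) (fun W h1 h2 h3 => ?_)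
      hDK (hθP.mono hZP) (sup_comm A D ▸ (invBy_sup_iff hDK hAK θ).2 hθA) hθ₁Z hm₁
    rcases h1.eq_or_lt with rfl | h1
    · exact Or.inl rfl
    · exact Or.inr (le_antisymm h2 (hmin ⟨h1, h2.trans hZc, le_sup_right.trans h3⟩ h2))
  rw [step1]
  -- pass to `D Z`
  have hext₁ : Extends θ₁.1 (D ⊔ P) := (extends_iff_of_not_dvd hp hDK hPK hPD
    (pmod_mono hP hLD le_rfl) (((inf_le_inf_right P le_sup_left).trans hBP).trans hLD) hθP hθ₁P
    hm₁).1 hext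
  obtain ⟨μ, hμ, hμA⟩ := exists_inv_extension hp le_sup_left (sup_le le_normalizer hPD)
    (pmod_sup hPD (pmod_mono hP hLD le_rfl)) hAD (fun a ha => mem_normalizer_sup (hAD ha) (hAP ha))
    (fun s hs => hLD (pow_relIndex_mem' hBL (mem_sup_right hs))) hcop hθ₁A hext₁
  have hle : D ⊔ Z ≤ D ⊔ P := sup_le_sup_left hZP D
  let η := resExt le_sup_left hle μ hμ
  have hη : ∀ d : D, η.1 ⟨d, mem_sup_left d.2⟩ = θ₁.1 d := hμ
  have hηP : InvBy _ P η.1 := fun x hx =>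
    InvEl.res hle (invEl_of_mem (H11.isClassFunction_of_irr μ.2) (mem_sup_right hx))
  have hηA : InvBy _ A η.1 := fun x hx => InvEl.res hle (hμA x hx)
  have hPK' : P ≤ normalizer ((D ⊔ Z : Subgroup Γ) : Set Γ) := fun x hx =>
    mem_normalizer_sup (hPD hx) (hPZ hx)
  have hAK' : A ≤ normalizer ((D ⊔ Z : Subgroup Γ) : Set Γ) := fun x hx =>
    mem_normalizer_sup (hAD hx) (hAZ hx)
  have hPC' : P ≤ normalizer ((C ⊔ Z : Subgroup Γ) : Set Γ) := fun x hx =>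
    mem_normalizer_sup (hPC hx) (hPZ hx)
  have hAC' : A ≤ normalizer ((C ⊔ Z : Subgroup Γ) : Set Γ) := fun x hx =>
    mem_normalizer_sup (hAC hx) (hAZ hx)
  have hC' : C ⊔ Z = (D ⊔ Z) ⊓ normalizer (P : Set Γ) := by
    refine le_antisymm (le_inf (sup_le_sup_right hCD Z) (sup_le hCP (hZP.trans le_normalizer)))
      fun x hx => ?_
    obtain ⟨d, hd, z, hz, rfl⟩ := (H4.mem_sup_iff_of_le_normalizer (hZP.trans hPD)).1 hx.1
    exact mul_mem (mem_sup_left (hC ▸ ⟨hDK hd,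
      (mul_mem_cancel_right (le_normalizer (hZP hz))).1 hx.2⟩)) (mem_sup_right hz)
  have hsup : D ⊔ Z ⊔ (Z ⊔ A) = D ⊔ Z ⊔ A := by rw [← sup_assoc, sup_eq_left.2 le_sup_right]
  have hcop' : ¬ p ∣ Z.relIndex (D ⊔ Z ⊔ (Z ⊔ A)) := by
    rw [hsup, sup_comm D Z, sup_assoc, relIndex_sup_of_le_normalizer hDAZ, ← inf_relIndex_right]
    exact not_dvd_relIndex hcop (le_inf hLZ.le (hLD.trans le_sup_left)) inf_le_right hDAB
  have hK'Z : D ⊔ Z ≤ normalizer (Z : Set Γ) := sup_le hDZ le_normalizer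
  have hP' := pmod_mono hP hLZ.le le_rfl
  have h' : C ⊔ Z ≤ D ⊔ Z := sup_le_sup_right hCD Z
  have H' := isCorr_rel hp hZP hP' hPZ hPK' le_sup_right hK'Z
    (not_dvd_relIndex hcop' le_rfl le_sup_right le_sup_left) hC' h'
  obtain ⟨η₀, hη₀P, hm₃⟩ := H'.exR η hηP
  have hη₀A : InvBy _ A η₀.1 := fun x hx =>
    (H'.invEl_iff hPK' hPC' hηP hη₀P hm₃ (hAK' hx) (hAC' hx) (hAP hx)).1 (hηA x hx)
  have hξ' : InvBy C (C ⊔ Z) ξ.1 :=
    sup_comm Z C ▸ (invBy_sup_iff le_rfl (hZP.trans hPC) ξ).2 (hξP.mono hZP)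
  have hη₀ : ∀ c : C, η₀.1 ⟨c, mem_sup_left c.2⟩ = ξ.1 c := by
    refine (res_eq_iff_mult_eq_one le_sup_left (sup_le le_normalizer (hZP.trans hPC)) hξ').2
      (mult_eq_one_of_not_dvd hp _ (sup_le le_normalizer (hZP.trans hPC))
      (pmod_sup (hZP.trans hPC) (pmod_mono hP hLC hZP)) hξ' ?_)
    refine (H'.mult_trans_rel hp hLP hP hPL hLC hPK' hPC' hPC hηP hη₀P hξP hm₃).1 ?_
    rwa [mult_trans_of_res_eq hCD le_sup_left hη]
  have hZA : ∀ {H : Subgroup Γ} (χ : IrrCharacter H), Z ≤ H → A ≤ normalizer (H : Set Γ) →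
      InvBy H A χ.1 → InvBy H (Z ⊔ A) χ.1 := fun χ a b c =>
    sup_comm A Z ▸ (invBy_sup_iff a b χ).2 c
  have IH := ih _ (hn ▸ (by
      rw [← relIndex_mul_relIndex L Z P hLZ.le hZP]
      exact lt_mul_of_one_lt_left (relIndex_pos' _ _) (lt_of_le_of_ne (relIndex_pos' _ _)
        fun e => hLZ.not_ge (relIndex_eq_one.1 e.symm)))) (L := Z) (K := D ⊔ Z) (A := Z ⊔ A)
    rfl le_sup_right hZP hK'Z hPZ (sup_le le_normalizer hAZ) hPK'
    (sup_le (hZP.trans hPK') hAK') (sup_le (hZP.trans le_normalizer) hAP) hC'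
    (sup_le (hCA.trans le_sup_right) le_sup_left) hP' hcop'
    (fun a ha b hb => comm_sup_of_comm hAK' (fun a ha b hb => mem_sup_left (hD ▸ ⟨hab a ha b hb,
      hAZ (mul_mem (mul_mem (mul_mem ha hb) (inv_mem ha)) (inv_mem hb))⟩)) a
      (sup_le_sup_right le_sup_right A ha) b (sup_le_sup_right le_sup_right A hb))
    h' hηP (hZA η le_sup_right hAK' hηA) hη₀P hm₃
    (Extends.mono le_sup_left (sup_le hle le_sup_right) ⟨μ, fun a n e => congrArg μ.1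
      (Subtype.ext e)⟩)
  have hZL : ∀ {M B : Subgroup Γ}, L ≤ M → M ≤ B → B ≤ K ⊔ A → Z ≤ normalizer (M : Set Γ) →
      (M ⊔ Z) ⊓ B ≤ M := fun h1 h2 h3 h4 => by
    rw [inf_comm]
    exact inf_sup_le_of h2 h4 (((inf_le_inf h3 hZP).trans hBP).trans h1)
  rw [hsup] at IH
  have hηB : InvBy _ (D ⊔ Z ⊔ A) η.1 := InvBy.sup le_normalizer hAK'
    (invBy_self (H11.isClassFunction_of_irr η.2)) hηA
  rw [← extends_iff_of_factor le_sup_left (sup_le_sup_right le_sup_left A) le_sup_left le_sup_left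
    (hZL hLD le_sup_left hDAB (hZP.trans hPD)) (factor_of_sup hAK' le_sup_right)
    (sup_le le_normalizer hAK') hηB hη, IH]
  refine extends_iff_of_factor (sup_le (hCA.trans le_sup_right) le_sup_left) le_sup_right
    le_sup_left hCA (hZL hLC hCA le_sup_right (hZP.trans hPC)) (fun a ha => ?_)
    (sup_le (hZP.trans hPC') hAC') (hZA η₀ le_sup_right hAC' hη₀A) hη₀
  obtain ⟨m, hm, b, hb, e⟩ := factor_of_sup hAZ le_rfl a ha
  exact ⟨m, mem_sup_right hm, b, hb, e⟩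

end Cfsg.Agent.H23
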