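import Mathlib
import Cfsg.Agent.H23.OW
import Cfsg.Agent.H11.Kernel

/-!
# Characters lying over the sign of a central involution; tensor products over central products
-/

set_option autoImplicit false

namespace Cfsg.Agent.H23

open Cfsg Subgroup
open scoped ComplexConjugate commutatorElement Pointwise

section Ty

variable {A : Type*} [Group A] [Finite A]

omit [Finite A] in
theorem mem_zpowers_invol {z x : A} (z2 : z * z = 1) : x ∈ zpowers z ↔ x = 1 ∨ x = z := by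
  refine ⟨?_, by rintro (rfl | rfl) <;> simp⟩
  rintro ⟨n, rfl⟩
  have h2 : z ^ (2 : ℤ) = 1 := by rw [zpow_two, z2]
  obtain ⟨k, rfl | rfl⟩ := Int.even_or_odd' n
  · exact Or.inl (by simp only [zpow_mul, h2, one_zpow])
  · exact Or.inr (by simp only [zpow_add, zpow_mul, h2, one_zpow, zpow_one, one_mul])

theorem apply_mul_of_neg {ψ : A → ℂ} (hψ : IsCharacter A ψ) {z : A} (h : ψ z = -ψ 1) (x : A) :
    ψ (z * x) = -ψ x := by
  by_cases h1 : ψ 1 = 0
  · have : ∀ y, ψ y = 0 := fun y => by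
      have := H12.IsCharacter_norm_le hψ y
      rwa [h1, norm_zero, norm_le_zero_iff] at this
    rw [this, this, neg_zero]
  · rw [H11.apply_mul_of_mem_charCenter h1 ((H11.mem_charCenter_iff hψ).2 (by rw [h, norm_neg])),
      h]
    field_simp

theorem irr_sign {ψ : A → ℂ} (hψ : IsIrrCharacter A ψ) {z : A} (hz : z ∈ center A)
    (z2 : z * z = 1) : ψ z = ψ 1 ∨ ψ z = -ψ 1 := by
  have h1 : ψ 1 ≠ 0 := by rw [H24.irr_deg hψ]; exact_mod_cast (H24.deg_pos hψ).ne'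
  have := H11.apply_mul_of_mem_charCenter h1 (H11.center_le_charCenter hψ hz) z
  rw [z2, eq_div_iff h1] at this
  exact mul_self_eq_mul_self_iff.1 this.symm

theorem classInner_eq_zero_of_sign [Fintype A] {f g : A → ℂ} {z : A} (hf : ∀ x, f (z * x) = f x)
    (hg : ∀ x, g (z * x) = -g x) : classInner f g = 0 := by
  have : ∑ x, f x * conj (g x) = -∑ x, f x * conj (g x) := by
    rw [← Finset.sum_neg_distrib]
    exact (Fintype.sum_equiv (Equiv.mulLeft z) _ _ fun x => by simp [hf, hg]).symm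
  rw [H11.classInner_def, show ∑ x, f x * conj (g x) = 0 by linear_combination (1 / 2 : ℂ) * this,
    mul_zero]

/-- `A` is "extraspecial-like" with respect to the central involution `z`. -/
structure ND (z : A) : Prop where
  z1 : z ≠ 1
  z2 : z * z = 1
  zc : z ∈ center A
  ab : ∀ a b : A, ⁅a, b⁆ ∈ zpowers z
  nd : center A ≤ zpowers z

theorem ND.vanish {z : A} (h : ND z) {ψ : A → ℂ} (hψ : IsCharacter A ψ) (e : ψ z = -ψ 1) {a : A}
    (h1 : a ≠ 1) (h2 : a ≠ z) : ψ a = 0 := by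
  have h3 : a ∉ center A := fun h0 => ((mem_zpowers_invol h.z2).1 (h.nd h0)).elim h1 h2
  rw [mem_center_iff] at h3
  push Not at h3
  obtain ⟨b, hb⟩ := h3
  have h4 : ⁅b, a⁆ = z := ((mem_zpowers_invol h.z2).1 (h.ab b a)).resolve_left
    (by rwa [commutatorElement_eq_one_iff_mul_comm])
  have h5 := apply_mul_of_neg hψ e a
  rw [← h4, show ⁅b, a⁆ * a = b * a * b⁻¹ by rw [commutatorElement_def]; group,
    H12.isClassFunction_of_isCharacter hψ] at h5
  linear_combination (1 / 2 : ℂ) * h5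

theorem ND.eq_of_deg {z : A} (h : ND z) {ψ φ : A → ℂ} (hψ : IsCharacter A ψ) (e : ψ z = -ψ 1)
    (hφ : IsCharacter A φ) (e' : φ z = -φ 1) (hd : ψ 1 = φ 1) : ψ = φ := funext fun a => by
  by_cases h1 : a = 1
  · rw [h1, hd]
  by_cases h2 : a = z
  · rw [h2, e, e', hd]
  rw [h.vanish hψ e h1 h2, h.vanish hφ e' h1 h2]

theorem ND.irr_iff {z : A} (h : ND z) {ψ : A → ℂ} (hψ : IsCharacter A ψ) (e : ψ z = -ψ 1) :
    IsIrrCharacter A ψ ↔ ψ 1 ^ 2 * 2 = Nat.card A := by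
  classical
  haveI := Fintype.ofFinite A
  obtain ⟨d, hd⟩ := H12.IsCharacter_one_eq_nat hψ
  rw [H14.isIrr_iff_inner_self_eq_one hψ, H11.classInner_def,
    ← Finset.sum_subset (Finset.subset_univ {1, z}) (fun a _ ha => by
      simp only [Finset.mem_insert, Finset.mem_singleton, not_or] at ha
      rw [h.vanish hψ e ha.1 ha.2, zero_mul]), Finset.sum_pair h.z1.symm, e, hd,
    inv_mul_eq_one₀ (H11.card_ne_zero A), map_neg, map_natCast, eq_comm]
  constructor <;> intro h <;> linear_combination h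

theorem ND.eq_of_irr {z : A} (h : ND z) {ψ φ : A → ℂ} (hψ : IsIrrCharacter A ψ) (e : ψ z = -ψ 1)
    (hφ : IsIrrCharacter A φ) (e' : φ z = -φ 1) : ψ = φ := by
  have h1 := (h.irr_iff (H11.isCharacter_of_irr hψ) e).1 hψ
  have h2 := (h.irr_iff (H11.isCharacter_of_irr hφ) e').1 hφ
  refine h.eq_of_deg (H11.isCharacter_of_irr hψ) e (H11.isCharacter_of_irr hφ) e' ?_
  rw [H24.irr_deg hψ, H24.irr_deg hφ] at *
  have : charDegree ψ ^ 2 * 2 = charDegree φ ^ 2 * 2 := by exact_mod_cast h1.trans h2.symm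
  rw [Nat.pow_left_injective two_ne_zero (Nat.eq_of_mul_eq_mul_right two_pos this)]

end Ty

variable {Γ : Type*} [Group Γ] [Finite Γ]

theorem sign_iff_of_mult {C G : Subgroup Γ} (h : C ≤ G) {z : Γ} (hz : z ∈ C) (z2 : z * z = 1)
    (hc : G ≤ centralizer {z}) {χ : IrrCharacter G} {ξ : IrrCharacter C} (hm : mult h χ ξ ≠ 0) :
    χ.1 ⟨z, h hz⟩ = -χ.1 1 ↔ ξ.1 ⟨z, hz⟩ = -ξ.1 1 := by
  haveI := Fintype.ofFinite C
  rw [mult_ne_zero_iff] at hm
  have c1 : (⟨z, h hz⟩ : G) ∈ center G := mem_center_iff.2 fun g =>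
    Subtype.ext (mem_centralizer_singleton_iff.1 (hc g.2))
  have c2 : (⟨z, hz⟩ : C) ∈ center C := mem_center_iff.2 fun g =>
    Subtype.ext (mem_centralizer_singleton_iff.1 (hc (h g.2)))
  constructor
  · intro e
    refine (irr_sign ξ.2 c2 (Subtype.ext z2)).resolve_left fun e' => hm ?_
    rw [← H11.conj_classInner, classInner_eq_zero_of_sign (z := ⟨z, hz⟩)
      ((H11.mem_charKer_irr_iff ξ.2).2 e') fun x =>
        apply_mul_of_neg (H11.irr_isCharacter χ) e ⟨x, h x.2⟩, map_zero]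
  · intro e
    refine (irr_sign χ.2 c1 (Subtype.ext z2)).resolve_left fun e' => hm ?_
    exact classInner_eq_zero_of_sign (z := ⟨z, hz⟩)
      (fun x => (H11.mem_charKer_irr_iff χ.2).2 e' ⟨x, h x.2⟩)
      (apply_mul_of_neg (H11.irr_isCharacter ξ) e)

/-- `η` is a character of `T` over the sign of `z` of degree `√(|A|/2)`. -/
structure SE (z : Γ) (A : Subgroup Γ) {T : Subgroup Γ} (η : T → ℂ) : Prop where
  ch : IsCharacter T η
  sg : ∀ t : T, (t : Γ) = z → η t = -η 1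
  dg : η 1 ^ 2 * 2 = Nat.card A

theorem SE.res_irr {z : Γ} {A T : Subgroup Γ} {η : T → ℂ} (h : SE z A η) (hA : A ≤ T) (hz : z ∈ A)
    (nd : ND (⟨z, hz⟩ : A)) : IsIrrCharacter A fun a => η ⟨a, hA a.2⟩ :=
  (nd.irr_iff (H11.isCharacter_restrict_of_le h.ch hA) (h.sg _ rfl)).2 h.dg

theorem SE.irr {z : Γ} {A T : Subgroup Γ} {η : T → ℂ} (h : SE z A η) (hA : A ≤ T) (hz : z ∈ A)
    (nd : ND (⟨z, hz⟩ : A)) : IsIrrCharacter T η :=
  H14.isIrr_of_comp h.ch (inclusion hA) (h.res_irr hA hz nd)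

theorem SE.ext {z : Γ} {A T T' : Subgroup Γ} {η : T → ℂ} (h : SE z A η) (hA : A ≤ T) (hz : z ∈ A)
    (nd : ND (⟨z, hz⟩ : A)) {t : Γ} (ht : t ∈ normalizer (T : Set Γ)) (hinv : InvEl T t η)
    (e : T ⊔ zpowers t = T') : ∃ η' : T' → ℂ, SE z A η' := by
  subst e
  obtain ⟨ψ, hψ⟩ := extends_sup_zpowers (θ := ⟨η, h.irr hA hz nd⟩) ht hinv
  have h1 : ψ.1 1 = η 1 := hψ 1 1 rfl
  exact ⟨ψ.1, H11.irr_isCharacter ψ, fun t ht => by
    rw [h1, hψ t ⟨z, hA hz⟩ ht]; exact h.sg _ rfl, by rw [h1, h.dg]⟩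

omit [Finite Γ] in
theorem le_centralizer_zpowers {z : Γ} {P : Subgroup Γ} (hc : P ≤ centralizer {z}) :
    P ≤ centralizer (zpowers z : Set Γ) :=
  le_centralizer_iff.1 (zpowers_le_of_mem fun _ hx => mem_centralizer_singleton_iff.1 (hc hx))

open Classical in
/-- The sign character of `⟨z⟩ × P`. -/
theorem exists_sgn {z : Γ} (z2 : z * z = 1) {P : Subgroup Γ} (hz : z ∉ P)
    (hc : P ≤ centralizer {z}) :
    ∃ ξ : IrrCharacter ↥(zpowers z ⊔ P), ∀ c, ξ.1 c = if (c : Γ) ∈ P then 1 else -1 := by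
  have hn : P ≤ normalizer (zpowers z : Set Γ) :=
    le_trans (le_centralizer_zpowers hc) (centralizer_le_normalizer _)
  have h1 : ∀ c ∈ zpowers z ⊔ P, c ∉ P → z * c ∈ P := fun c hc h0 => by
    obtain ⟨k, hk, a, ha, rfl⟩ := (H4.mem_sup_iff_of_le_normalizer hn).1 hc
    rcases (mem_zpowers_invol z2).1 hk with rfl | rfl
    · exact absurd (by simpa using ha) h0
    · rwa [← mul_assoc, z2, one_mul]
  let lam : ↥(zpowers z ⊔ P) →* ℂˣ :=
    { toFun := fun c => if (c : Γ) ∈ P then 1 else -1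
      map_one' := by simp
      map_mul' := fun c d => by
        by_cases h2 : (c : Γ) ∈ P <;> by_cases h3 : (d : Γ) ∈ P
        · simp [h2, h3, mul_mem h2 h3]
        · simp [h2, h3, mul_mem_cancel_left h2]
        · simp [h2, h3, mul_mem_cancel_right h3]
        · have h4 := h1 c c.2 h2
          have : (c : Γ) * d ∈ P := by
            have h5 := mul_mem h4 (h1 d d.2 h3)
            rwa [← mul_assoc, mem_centralizer_singleton_iff.1 (hc h4), ← mul_assoc, z2,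
              one_mul] at h5
          simp [h2, h3, this] }
  refine ⟨⟨fun c => lam c, H11.isIrrCharacter_monoidHom lam⟩, fun c => ?_⟩
  change ((if (c : Γ) ∈ P then 1 else -1 : ℂˣ) : ℂ) = _
  split_ifs <;> simp

/-- The diagonal group used for the tensor product over a central product. -/
def triGrp {A B P : Subgroup Γ} (hA : P ≤ normalizer (A : Set Γ)) (hB : P ≤ normalizer (B : Set Γ))
    (hAB : A ≤ centralizer (B : Set Γ)) : Subgroup (Γ × Γ × Γ) where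
  carrier := {d | ∃ a ∈ A, ∃ b ∈ B, ∃ x ∈ P, d = (a * x, b * x, a * b * x)}
  one_mem' := ⟨1, one_mem _, 1, one_mem _, 1, one_mem _, by simp only [mul_one]; rfl⟩
  mul_mem' := by
    rintro _ _ ⟨a, ha, b, hb, x, hx, rfl⟩ ⟨a', ha', b', hb', x', hx', rfl⟩
    have h1 := H4.conj_mem_of_mem_normalizer (hA hx) ha'
    refine ⟨_, mul_mem ha h1, _, mul_mem hb (H4.conj_mem_of_mem_normalizer (hB hx) hb'), _,
      mul_mem hx hx', Prod.ext (by simp [mul_assoc]) (Prod.ext (by simp [mul_assoc]) ?_)⟩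
    have h2 := hAB h1 b hb
    change a * b * x * (a' * b' * x') = _
    calc a * b * x * (a' * b' * x') = a * (b * (x * a' * x⁻¹)) * (x * b' * x') := by group
      _ = _ := by rw [h2]; group
  inv_mem' := by
    rintro _ ⟨a, ha, b, hb, x, hx, rfl⟩
    refine ⟨_, H4.inv_conj_mem_of_mem_normalizer (hA hx) (inv_mem ha), _,
      H4.inv_conj_mem_of_mem_normalizer (hB hx) (inv_mem hb), _, inv_mem hx,
      Prod.ext (by simp [mul_assoc]) (Prod.ext (by simp [mul_assoc]) ?_)⟩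
    change (a * b * x)⁻¹ = _
    rw [← hAB ha b hb]; group

omit [Finite Γ] in
theorem exists_eq_mul_mul {A B P : Subgroup Γ} (hA : P ≤ normalizer (A : Set Γ))
    (hB : P ≤ normalizer (B : Set Γ)) (hAB : A ≤ centralizer (B : Set Γ)) {t : Γ}
    (ht : t ∈ A ⊔ B ⊔ P) : ∃ a ∈ A, ∃ b ∈ B, ∃ x ∈ P, t = a * b * x := by
  obtain ⟨k, hk, x, hx, rfl⟩ :=
    (H4.mem_sup_iff_of_le_normalizer (H4.le_normalizer_sup hA hB)).1 ht
  obtain ⟨a, ha, b, hb, rfl⟩ := (H4.mem_sup_iff_of_le_normalizer'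
    (hAB.trans (centralizer_le_normalizer _))).1 (sup_comm A B ▸ hk)
  exact ⟨a, ha, b, hb, x, hx, rfl⟩

theorem exists_tensor {z : Γ} (z2 : z * z = 1) {A B P : Subgroup Γ}
    (hA : P ≤ normalizer (A : Set Γ)) (hB : P ≤ normalizer (B : Set Γ))
    (hAB : A ≤ centralizer (B : Set Γ)) (hi : A ⊓ B ≤ zpowers z) (hP : (A ⊔ B) ⊓ P = ⊥)
    {f : ↥(A ⊔ P) → ℂ} {g : ↥(B ⊔ P) → ℂ} (hf : IsCharacter _ f) (hg : IsCharacter _ g)
    (hfz : ∀ t : ↥(A ⊔ P), (t : Γ) = z → f t = -f 1)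
    (hgz : ∀ t : ↥(B ⊔ P), (t : Γ) = z → g t = -g 1) :
    ∃ η : ↥(A ⊔ B ⊔ P) → ℂ, IsCharacter _ η ∧ ∀ a ∈ A, ∀ b ∈ B, ∀ x ∈ P,
      ∀ (t : ↥(A ⊔ B ⊔ P)) (u : ↥(A ⊔ P)) (v : ↥(B ⊔ P)),
        (t : Γ) = a * b * x → (u : Γ) = a * x → (v : Γ) = b * x → η t = f u * g v := by
  let D := triGrp hA hB hAB
  let p1 : D →* ↥(A ⊔ P) := ((MonoidHom.fst _ _).comp D.subtype).codRestrict _ (by
    rintro ⟨_, a, ha, b, hb, x, hx, rfl⟩
    exact mul_mem (mem_sup_left ha) (mem_sup_right hx))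
  let p2 : D →* ↥(B ⊔ P) :=
    ((MonoidHom.fst _ _).comp ((MonoidHom.snd _ _).comp D.subtype)).codRestrict _ (by
    rintro ⟨_, a, ha, b, hb, x, hx, rfl⟩
    exact mul_mem (mem_sup_left hb) (mem_sup_right hx))
  let p3 : D →* ↥(A ⊔ B ⊔ P) :=
    ((MonoidHom.snd _ _).comp ((MonoidHom.snd _ _).comp D.subtype)).codRestrict _ (by
    rintro ⟨_, a, ha, b, hb, x, hx, rfl⟩
    exact mul_mem (mem_sup_left (mul_mem (mem_sup_left ha) (mem_sup_right hb))) (mem_sup_right hx))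
  have h1 := H11.isCharacter_mul (H11.isCharacter_comp hf p1) (H11.isCharacter_comp hg p2)
  obtain ⟨η, hη, e⟩ := H11.exists_character_lift_of_surjective h1 p3 (fun t => by
    obtain ⟨a, ha, b, hb, x, hx, e⟩ := exists_eq_mul_mul hA hB hAB t.2
    exact ⟨⟨_, a, ha, b, hb, x, hx, rfl⟩, Subtype.ext e.symm⟩) (by
    rintro ⟨_, a, ha, b, hb, x, hx, rfl⟩ hd
    rw [H11.mem_charKer_iff h1]
    have h2 : a * b * x = 1 := congrArg Subtype.val hd
    have h3 : x = 1 := mem_bot.1 (hP.le (mem_inf.2 ⟨by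
      rw [eq_inv_of_mul_eq_one_right h2]
      exact inv_mem (mul_mem (mem_sup_left ha) (mem_sup_right hb)), hx⟩))
    subst h3
    have h4 : a = b⁻¹ := eq_inv_of_mul_eq_one_left (by simpa using h2)
    simp only [Pi.mul_apply, map_one]
    rcases (mem_zpowers_invol z2).1 (hi (mem_inf.2 ⟨ha, by rw [h4]; exact inv_mem hb⟩)) with h5 | h5
    · rw [show p1 _ = 1 from Subtype.ext (by change a * 1 = 1; rw [h5, mul_one]),
        show p2 _ = 1 from Subtype.ext (by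
          change b * 1 = 1; rw [mul_one, ← inv_eq_one, ← h4, h5])]
    · rw [hfz _ (by change a * 1 = z; rw [h5, mul_one]), hgz _ (by
        change b * 1 = z
        rw [mul_one, ← inv_inj, ← h4, h5]; exact eq_inv_of_mul_eq_one_left z2), neg_mul_neg])
  refine ⟨η, hη, fun a ha b hb x hx t u v ht hu hv => ?_⟩
  let d : D := ⟨_, a, ha, b, hb, x, hx, rfl⟩
  rw [show t = p3 d from Subtype.ext ht, show u = p1 d from Subtype.ext hu,
    show v = p2 d from Subtype.ext hv]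
  exact e d

theorem card_sup_mul_two {z : Γ} (z1 : z ≠ 1) (z2 : z * z = 1) {A B : Subgroup Γ} (hA : z ∈ A)
    (hB : z ∈ B) (hAB : A ≤ centralizer (B : Set Γ)) (hi : A ⊓ B ≤ zpowers z) :
    Nat.card (A ⊔ B : Subgroup Γ) * 2 = Nat.card A * Nat.card B := by
  have h1 : B ⊓ A = zpowers z :=
    le_antisymm (inf_comm A B ▸ hi) (zpowers_le_of_mem ⟨hB, hA⟩)
  have h2 : Nat.card (zpowers z) = 2 := by
    rw [Nat.card_zpowers, orderOf_eq_prime (by rwa [pow_two]) z1]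
  rw [sup_comm, ← H3.card_mul_relIndex (le_sup_left : B ≤ B ⊔ A),
    relIndex_sup_of_le_normalizer (hAB.trans (centralizer_le_normalizer _)),
    ← H3.card_inf_mul_relIndex B A, h1, h2]
  ring

theorem SE.tensor {z : Γ} (z1 : z ≠ 1) (z2 : z * z = 1) {A B P : Subgroup Γ} (zA : z ∈ A)
    (zB : z ∈ B) (hA : P ≤ normalizer (A : Set Γ)) (hB : P ≤ normalizer (B : Set Γ))
    (hAB : A ≤ centralizer (B : Set Γ)) (hi : A ⊓ B ≤ zpowers z) (hP : (A ⊔ B) ⊓ P = ⊥)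
    {f : ↥(A ⊔ P) → ℂ} {g : ↥(B ⊔ P) → ℂ} (hf : SE z A f) (hg : SE z B g) :
    ∃ η : ↥(A ⊔ B ⊔ P) → ℂ, SE z (A ⊔ B) η ∧ ∀ a ∈ A, ∀ b ∈ B, ∀ x ∈ P,
      ∀ (t : ↥(A ⊔ B ⊔ P)) (u : ↥(A ⊔ P)) (v : ↥(B ⊔ P)),
        (t : Γ) = a * b * x → (u : Γ) = a * x → (v : Γ) = b * x → η t = f u * g v := by
  obtain ⟨η, hη, e⟩ := exists_tensor z2 hA hB hAB hi hP hf.ch hg.ch hf.sg hg.sg
  have h1 : η 1 = f 1 * g 1 :=
    e 1 (one_mem _) 1 (one_mem _) 1 (one_mem _) _ _ _ (by simp) (by simp) (by simp)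
  refine ⟨η, ⟨hη, fun t ht => ?_, ?_⟩, e⟩
  · rw [e z zA 1 (one_mem _) 1 (one_mem _) t ⟨z, mem_sup_left zA⟩ 1 (by simpa using ht) (by simp)
      (by simp), hf.sg _ rfl, h1, neg_mul]
  · have h2 : ((Nat.card (A ⊔ B : Subgroup Γ) * 2 : ℕ) : ℂ) = (Nat.card A * Nat.card B : ℕ) :=
      congrArg _ (card_sup_mul_two z1 z2 zA zB hAB hi)
    push_cast at h2
    rw [← hf.dg, ← hg.dg] at h2
    rw [h1]
    linear_combination (-1 / 2 : ℂ) * h2

end Cfsg.Agent.H23
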