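import Mathlib
import Cfsg.Agent.H23.SgnExt
import Cfsg.Agent.S0205

/-!
# Dade's extension theorem for extraspecial `2`-groups
-/

set_option autoImplicit false

namespace Cfsg.Agent.H23

open Cfsg Subgroup
open scoped ComplexConjugate commutatorElement Pointwise

variable {Γ : Type*} [Group Γ] [Finite Γ]

/-- The hypotheses of the extension theorem. -/
structure DH (z : Γ) (A K P : Subgroup Γ) : Prop where
  z1 : z ≠ 1
  z2 : z * z = 1
  zA : z ∈ A
  cA : A ≤ centralizer {z}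
  cK : K ≤ centralizer {z}
  cP : P ≤ centralizer {z}
  ab : ∀ a ∈ A, ∀ b ∈ A, ⁅a, b⁆ ∈ zpowers z
  nd : A ⊓ centralizer (A : Set Γ) ≤ zpowers z
  pA : IsPGroup 2 A
  pP : IsPGroup 2 P
  oK : Odd (Nat.card K)
  KA : K ≤ normalizer (A : Set Γ)
  PA : P ≤ normalizer (A : Set Γ)
  PK : P ≤ normalizer (K : Set Γ)
  AP : A ⊓ P = ⊥
  fix : A ⊓ centralizer (K : Set Γ) ≤ zpowers z

/-- `B` is a nondegenerate central factor of `A`. -/
structure Split (z : Γ) (A B : Subgroup Γ) : Prop where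
  le : B ≤ A
  mul : ∀ a ∈ A, ∃ b ∈ B, ∃ c ∈ centralizer (B : Set Γ), a = b * c
  nd : B ⊓ centralizer (B : Set Γ) ≤ zpowers z

omit [Finite Γ] in
theorem split_bot (z : Γ) (A : Subgroup Γ) : Split z A ⊥ :=
  ⟨bot_le, fun a _ => ⟨1, one_mem _, a, by simp [mem_centralizer_iff], (one_mul a).symm⟩,
    inf_le_left.trans bot_le⟩

omit [Finite Γ] in
theorem centralizer_sup' (B C : Subgroup Γ) :
    centralizer ((B ⊔ C : Subgroup Γ) : Set Γ) = centralizer (B : Set Γ) ⊓ centralizer (C : Set Γ) :=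
  le_antisymm (le_inf (centralizer_le (SetLike.coe_subset_coe.2 le_sup_left))
    (centralizer_le (SetLike.coe_subset_coe.2 le_sup_right)))
    (le_centralizer_iff.1 (sup_le (le_centralizer_iff.1 inf_le_left)
      (le_centralizer_iff.1 inf_le_right)))

omit [Finite Γ] in
theorem Split.sup {z : Γ} {A B C : Subgroup Γ} (h : Split z A B) (h' : Split z A C)
    (hc : B ≤ centralizer (C : Set Γ)) : Split z A (B ⊔ C) := by
  have hc' := le_centralizer_iff.1 hc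
  refine ⟨sup_le h.le h'.le, fun a ha => ?_, fun r hr => ?_⟩
  · obtain ⟨b, hb, c, hc1, rfl⟩ := h.mul a ha
    obtain ⟨b', hb', d, hd, rfl⟩ := h'.mul c ((mul_mem_cancel_left (h.le hb)).1 ha)
    refine ⟨b * b', mul_mem (mem_sup_left hb) (mem_sup_right hb'), d, ?_, (mul_assoc _ _ _).symm⟩
    rw [centralizer_sup']
    exact ⟨(mul_mem_cancel_left (hc' hb')).1 hc1, hd⟩
  · obtain ⟨h1, h2⟩ := mem_inf.1 hr
    rw [centralizer_sup', mem_inf] at h2
    obtain ⟨b, hb, c, hc1, rfl⟩ :=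
      (H4.mem_sup_iff_of_le_normalizer (hc'.trans (centralizer_le_normalizer _))).1 h1
    exact mul_mem (h.nd ⟨hb, (mul_mem_cancel_right (hc' hc1)).1 h2.1⟩)
      (h'.nd ⟨hc1, (mul_mem_cancel_left (hc hb)).1 h2.2⟩)

omit [Finite Γ] in
theorem split_iSup {z : Γ} {A : Subgroup Γ} {ι : Type*} (f : ι → Subgroup Γ) {S : Set ι}
    (hS : S.Finite) (h : ∀ i ∈ S, Split z A (f i))
    (hc : ∀ i ∈ S, ∀ j ∈ S, f i = f j ∨ f i ≤ centralizer (f j : Set Γ)) :
    Split z A (⨆ i ∈ S, f i) := by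
  induction S, hS using Set.Finite.induction_on with
  | empty => simpa using split_bot z A
  | @insert i S _ _ ih =>
    have h1 := ih (fun j hj => h j (Or.inr hj)) fun j hj k hk => hc j (Or.inr hj) k (Or.inr hk)
    rw [iSup_insert]
    by_cases h2 : ∃ j ∈ S, f i = f j
    · obtain ⟨j, hj, e⟩ := h2
      rwa [sup_eq_right.2 (e ▸ le_iSup₂ (f := fun j (_ : j ∈ S) => f j) j hj)]
    · refine (h i (Or.inl rfl)).sup h1 (le_centralizer_iff.1 (iSup₂_le fun j hj => ?_))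
      exact le_centralizer_iff.1
        ((hc i (Or.inl rfl) j (Or.inr hj)).resolve_left fun e => h2 ⟨j, hj, e⟩)

omit [Finite Γ] in
theorem pmod_bot' {p : ℕ} {P : Subgroup Γ} (hP : IsPGroup p P) :
    ∀ x ∈ P, ∃ k, x ^ p ^ k ∈ (⊥ : Subgroup Γ) := fun x hx =>
  (hP ⟨x, hx⟩).imp fun _ hk => by simpa using congrArg Subtype.val hk

omit [Finite Γ] in
theorem conj_smul_cent {A L : Subgroup Γ} {x : Γ} (hx : x ∈ normalizer (A : Set Γ)) :
    MulAut.conj x • (A ⊓ centralizer (L : Set Γ)) =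
      A ⊓ centralizer ((MulAut.conj x • L : Subgroup Γ) : Set Γ) := by
  ext a
  rw [H4.mem_conj_smul_iff, mem_inf, mem_inf, mem_normalizer_iff''.1 hx a]
  refine and_congr_right fun _ => ⟨fun h y hy => ?_, fun h y hy => ?_⟩
  · have := h _ (H4.mem_conj_smul_iff.1 hy)
    calc y * a = x * (x⁻¹ * y * x * (x⁻¹ * a * x)) * x⁻¹ := by group
      _ = _ := by rw [this]; group
  · have := h _ (H4.conj_mem_conj_smul (g := x) hy)
    calc y * (x⁻¹ * a * x) = x⁻¹ * (x * y * x⁻¹ * a) * x := by group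
      _ = _ := by rw [this]; group

theorem mem_normalizer_iSup_conj {B : Subgroup Γ} {S : Set Γ} {y : Γ}
    (h : ∀ x ∈ S, MulAut.conj (y * x) • B ≤ ⨆ x ∈ S, MulAut.conj x • B) :
    y ∈ normalizer ((⨆ x ∈ S, MulAut.conj x • B : Subgroup Γ) : Set Γ) := by
  refine mem_normalizer_fintype fun n hn => ?_
  have : (⨆ x ∈ S, MulAut.conj x • B) ≤ MulAut.conj y⁻¹ • (⨆ x ∈ S, MulAut.conj x • B) :=
    iSup₂_le fun x hx a ha => H4.mem_conj_smul_iff.2 (h x hx (H4.mem_conj_smul_iff.2 (by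
      simpa [mul_assoc] using H4.mem_conj_smul_iff.1 ha)))
  simpa using H4.mem_conj_smul_iff.1 (this hn)

theorem exists_index_two {P R : Subgroup Γ} (hP : IsPGroup 2 P) (h : R < P) :
    ∃ (M : Subgroup Γ) (t : Γ), R ≤ M ∧ M < P ∧ P ≤ normalizer (M : Set Γ) ∧ t ∈ P ∧ t ∉ M ∧
      t * t ∈ M ∧ M ⊔ zpowers t = P ∧ ∀ x ∈ P, x ∈ M ∨ t⁻¹ * x ∈ M := by
  classical
  haveI := Fact.mk Nat.prime_two
  obtain ⟨M, ⟨h1, h2⟩, hM⟩ := exists_maximal_of_wellFoundedGT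
    (fun M : Subgroup Γ => R ≤ M ∧ M < P) ⟨R, le_rfl, h⟩
  have h3 : ∀ L, M < L → L ≤ P → L = P := fun L h4 h5 => by
    by_contra h6
    exact h4.not_ge (hM ⟨h1.trans h4.le, lt_of_le_of_ne h5 h6⟩ h4.le)
  have hn : P ≤ normalizer (M : Set Γ) :=
    inf_eq_left.1 (h3 _ (H4.lt_inf_normalizer_of_isNilpotent hP.isNilpotent h2) inf_le_left)
  obtain ⟨u, hu, hu'⟩ := SetLike.exists_of_lt h2
  have h4 : ∃ k, u ^ 2 ^ k ∈ M := (pmod_bot' hP u hu).imp fun _ hk => bot_le (a := M) hk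
  have h5 := Nat.find_spec h4
  obtain ⟨j, hj⟩ := Nat.exists_eq_succ_of_ne_zero (n := Nat.find h4) fun h0 => hu' (by
    simpa [h0] using h5)
  have h6 := Nat.find_min h4 (m := j) (by omega)
  have h7 : u ^ 2 ^ j * u ^ 2 ^ j ∈ M := by rwa [hj, pow_succ, pow_mul, pow_two] at h5
  have h8 := pow_mem hu (2 ^ j)
  generalize u ^ 2 ^ j = t at h6 h7 h8
  have h9 : M ⊔ zpowers t = P := h3 _ (lt_of_le_not_ge le_sup_left fun h0 =>
    h6 (h0 (mem_sup_zpowers M t))) (sup_le h2.le (zpowers_le_of_mem h8))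
  refine ⟨M, t, h1, h2, hn, h8, h6, h7, h9, fun x hx => ?_⟩
  obtain ⟨_, ⟨n, rfl⟩, m, hm, rfl⟩ := (H4.mem_sup_iff_of_le_normalizer'
    (zpowers_le_of_mem (hn h8))).1 (h9.ge hx)
  obtain ⟨k, rfl | rfl⟩ := Int.even_or_odd' n
  · exact Or.inl (mul_mem (by simpa only [zpow_mul, zpow_two] using zpow_mem h7 k) hm)
  · refine Or.inr ?_
    have := mul_mem (zpow_mem h7 k) hm
    rw [← zpow_two, ← zpow_mul] at this
    convert this using 1
    simp only [add_comm (2 * k), zpow_add, zpow_one]; group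

namespace DH

variable {z : Γ} {A K P : Subgroup Γ}

omit [Finite Γ] in
theorem ND (h : DH z A K P) : ND (⟨z, h.zA⟩ : A) where
  z1 e := h.z1 (congrArg Subtype.val e)
  z2 := Subtype.ext h.z2
  zc := mem_center_iff.2 fun g => Subtype.ext (mem_centralizer_singleton_iff.1 (h.cA g.2))
  ab a b := by
    obtain ⟨n, hn⟩ := h.ab a a.2 b b.2
    exact ⟨n, Subtype.ext hn⟩
  nd a ha := by
    obtain ⟨n, hn⟩ := h.nd (mem_inf.2 ⟨a.2, fun b hb =>
      congrArg Subtype.val (mem_center_iff.1 ha ⟨b, hb⟩)⟩)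
    exact ⟨n, Subtype.ext hn⟩

theorem cop (h : DH z A K P) {L B : Subgroup Γ} (hL : L ≤ K) (hB : IsPGroup 2 B) :
    (Nat.card L).Coprime (Nat.card B) :=
  haveI := Fact.mk Nat.prime_two
  H4.coprime_card_of_isPGroup (Nat.coprime_two_right.2 (h.oK.of_dvd_nat (card_dvd_of_le hL))) hB

theorem solv {B : Subgroup Γ} (hB : IsPGroup 2 B) : Group.IsSolvable B :=
  haveI := Fact.mk Nat.prime_two
  H4.isSolvable_of_isPGroup hB

omit [Finite Γ] in
theorem zle (h : DH z A K P) : zpowers z ≤ A := zpowers_le_of_mem h.zA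

omit [Finite Γ] in
theorem comm_le' (ab : ∀ a ∈ A, ∀ b ∈ A, ⁅a, b⁆ ∈ zpowers z) (hK : K ≤ centralizer {z}) :
    ⁅A, K⁆ ≤ centralizer ((A ⊓ centralizer (K : Set Γ) : Subgroup Γ) : Set Γ) := by
  rw [← commutator_eq_bot_iff_le_centralizer]
  refine commutator_commutator_eq_bot_of_rotate ?_ ?_
  · rw [commutator_eq_bot_iff_le_centralizer.2 (le_centralizer_iff.1 inf_le_right),
      commutator_bot_left]
  · rw [commutator_eq_bot_iff_le_centralizer]
    refine le_trans (commutator_le.2 fun a ha b hb => ab a (mem_inf.1 ha).1 b hb) ?_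
    exact le_centralizer_iff.1 (le_centralizer_zpowers hK)

omit [Finite Γ] in
theorem comm_le (h : DH z A K P) {L : Subgroup Γ} (hL : L ≤ K) :
    ⁅A, L⁆ ≤ centralizer ((A ⊓ centralizer (L : Set Γ) : Subgroup Γ) : Set Γ) :=
  comm_le' h.ab (hL.trans h.cK)

theorem split_cent (h : DH z A K P) {L : Subgroup Γ} (hL : L ≤ K) :
    Split z A (A ⊓ centralizer (L : Set Γ)) := by
  have h1 : ∀ a ∈ A, ∃ n ∈ ⁅A, L⁆, ∃ c ∈ A ⊓ centralizer (L : Set Γ), n * c = a := fun a ha =>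
    H4.exists_commutator_mul_centralizer (hL.trans h.KA) (h.cop hL h.pA) (Or.inr (solv h.pA)) ha
  refine ⟨inf_le_left, fun a ha => ?_, fun r hr => h.nd (mem_inf.2 ⟨hr.1.1, fun a ha => ?_⟩)⟩
  · obtain ⟨n, hn, c, hc, rfl⟩ := h1 a ha
    exact ⟨c, hc, n, h.comm_le hL hn, (h.comm_le hL hn c hc).symm⟩
  · obtain ⟨n, hn, c, hc, rfl⟩ := h1 a ha
    rw [mul_assoc, hr.2 c hc, ← mul_assoc, ← h.comm_le hL hn r hr.1, mul_assoc]

omit [Finite Γ] in
theorem sub (h : DH z A K P) {B L Q : Subgroup Γ} (hB : B ≤ A) (zB : z ∈ B)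
    (nd : B ⊓ centralizer (B : Set Γ) ≤ zpowers z) (hL : L ≤ K) (hQ : Q ≤ P)
    (LB : L ≤ normalizer (B : Set Γ)) (QB : Q ≤ normalizer (B : Set Γ))
    (QL : Q ≤ normalizer (L : Set Γ)) (fix : B ⊓ centralizer (L : Set Γ) ≤ zpowers z) :
    DH z B L Q where
  z1 := h.z1
  z2 := h.z2
  zA := zB
  cA := hB.trans h.cA
  cK := hL.trans h.cK
  cP := hQ.trans h.cP
  ab a ha b hb := h.ab a (hB ha) b (hB hb)
  nd := nd
  pA := h.pA.to_le hB
  pP := h.pP.to_le hQ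
  oK := h.oK.of_dvd_nat (card_dvd_of_le hL)
  KA := LB
  PA := QB
  PK := QL
  AP := le_bot_iff.1 ((inf_le_inf hB hQ).trans h.AP.le)
  fix := fix

theorem se_of_eq (h : DH z A K P) (e : A ≤ zpowers z) : ∃ η : ↥(A ⊔ P) → ℂ, SE z A η := by
  have hz : z ∉ P := fun h0 => h.z1 (mem_bot.1 (h.AP.le ⟨h.zA, h0⟩))
  obtain rfl := le_antisymm e h.zle
  obtain ⟨ξ, hξ⟩ := exists_sgn h.z2 hz h.cP
  have h1 : ξ.1 1 = 1 := by simp [hξ]
  refine ⟨ξ.1, H11.irr_isCharacter ξ, fun t ht => by rw [h1, hξ, ht, if_neg hz], ?_⟩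
  rw [h1, Nat.card_zpowers, orderOf_eq_prime (by rw [pow_two, h.z2]) h.z1]
  norm_num

theorem se_of_split (h : DH z A K P) {B : Subgroup Γ} (hs : Split z A B) (zB : z ∈ B)
    (KB : K ≤ normalizer (B : Set Γ)) (PB : P ≤ normalizer (B : Set Γ)) (h1 : ¬ B ≤ zpowers z)
    (h2 : B ≠ A) (ih : ∀ B < A, DH z B K P → ∃ η : ↥(B ⊔ P) → ℂ, SE z B η) :
    ∃ η : ↥(A ⊔ P) → ℂ, SE z A η := by
  let D := A ⊓ centralizer (B : Set Γ)
  have zD : z ∈ D := ⟨h.zA, fun b hb => mem_centralizer_singleton_iff.1 (h.cA (hs.le hb))⟩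
  have e : B ⊔ D = A := le_antisymm (sup_le hs.le inf_le_left) fun a ha => by
    obtain ⟨b, hb, c, hc, rfl⟩ := hs.mul a ha
    exact mul_mem (mem_sup_left hb)
      (mem_sup_right (mem_inf.2 ⟨(mul_mem_cancel_left (hs.le hb)).1 ha, hc⟩))
  have KD := H4.le_normalizer_inf h.KA (H4.le_normalizer_centralizer KB)
  have PD := H4.le_normalizer_inf h.PA (H4.le_normalizer_centralizer PB)
  obtain ⟨f, hf⟩ := ih B (lt_of_le_of_ne hs.le h2)
    (h.sub hs.le zB hs.nd le_rfl le_rfl KB PB h.PK ((inf_le_inf_right _ hs.le).trans h.fix))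
  obtain ⟨g, hg⟩ := ih D (lt_of_le_of_ne inf_le_left fun e' => h1
      (le_trans (le_inf le_rfl (hs.le.trans (e'.ge.trans inf_le_right))) hs.nd))
    (h.sub inf_le_left zD (fun r hr => h.nd (mem_inf.2 ⟨hr.1.1, by
      rw [← e, centralizer_sup']; exact ⟨hr.1.2, hr.2⟩⟩)) le_rfl le_rfl KD PD h.PK
      ((inf_le_inf_right _ inf_le_left).trans h.fix))
  obtain ⟨η, hη, -⟩ := SE.tensor h.z1 h.z2 zB zD PB PD (le_centralizer_iff.1 inf_le_right)
    ((inf_le_inf_left _ inf_le_right).trans hs.nd) (by rw [e]; exact h.AP) hf hg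
  revert η
  rw [e]
  exact fun η hη => ⟨η, hη⟩

theorem se_of_swap (h : DH z A K P) {B M : Subgroup Γ} {t : Γ} (hM : M ≤ P)
    (PM : P ≤ normalizer (M : Set Γ)) (ht : t ∈ P) (ht2 : t * t ∈ M) (hP : M ⊔ zpowers t = P)
    (hB : DH z B K M) (e : B ⊔ MulAut.conj t • B = A)
    (hc : B ≤ centralizer ((MulAut.conj t • B : Subgroup Γ) : Set Γ))
    {f : ↥(B ⊔ M) → ℂ} (hf : SE z B f) : ∃ η : ↥(A ⊔ P) → ℂ, SE z A η := by
  obtain ⟨D, hD⟩ : ∃ D, D = MulAut.conj t • B := ⟨_, rfl⟩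
  have hm : ∀ {x}, x ∈ D ↔ t⁻¹ * x * t ∈ B := hD ▸ H4.mem_conj_smul_iff
  rw [← hD] at e hc
  have tz : t⁻¹ * z * t = z := by
    rw [mul_assoc, ← mem_centralizer_singleton_iff.1 (h.cP ht), inv_mul_cancel_left]
  have MD : M ≤ normalizer (D : Set Γ) := fun m hm' => mem_normalizer_iff.2 fun x => by
    rw [hm, hm, mem_normalizer_iff.1 (hB.PA (H4.inv_conj_mem_of_mem_normalizer (PM ht) hm'))]
    congr! 1; group
  let φ : ↥(D ⊔ M) →* ↥(B ⊔ M) :=
    ((MulAut.conj t⁻¹).toMonoidHom.comp (D ⊔ M).subtype).codRestrict _ (by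
      rintro ⟨v, hv⟩
      obtain ⟨d, hd, m, hm', rfl⟩ := (H4.mem_sup_iff_of_le_normalizer MD).1 hv
      have := mul_mem (mem_sup_left (T := M) (hm.1 hd))
        (mem_sup_right (H4.inv_conj_mem_of_mem_normalizer (PM ht) hm'))
      convert this using 1
      simp [mul_assoc])
  have hφ : ∀ v, (φ v : Γ) = t⁻¹ * v * t := fun v => by simp [φ]
  have hg : SE z D fun v => f (φ v) := ⟨H11.isCharacter_comp hf.ch φ,
    fun v hv => by rw [map_one]; exact hf.sg _ (by rw [hφ, hv, tz]),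
    by rw [map_one, hf.dg, hD, H4.card_conj_smul]⟩
  obtain ⟨η, hη, e'⟩ := SE.tensor h.z1 h.z2 hB.zA (hm.2 (tz.symm ▸ hB.zA)) hB.PA MD hc
    ((inf_le_inf_left _ (le_centralizer_iff.1 hc)).trans hB.nd)
    (by rw [e]; exact le_bot_iff.1 ((inf_le_inf_left _ hM).trans h.AP.le)) hf hg
  have hinv : InvEl (B ⊔ D ⊔ M) t η := fun x y hxy => by
    obtain ⟨a, ha, b, hb, m, hm', hx⟩ := exists_eq_mul_mul hB.PA MD hc x.2
    have h1 : t * a * t⁻¹ ∈ D := hm.2 (by simpa [mul_assoc] using ha)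
    have h2 : t * b * t⁻¹ ∈ B := by
      have := H4.conj_mem_of_mem_normalizer (hB.PA ht2) (hm.1 hb)
      convert this using 1; group
    have h3 := H4.conj_mem_of_mem_normalizer (PM ht) hm'
    rw [e' a ha b hb m hm' x ⟨_, mul_mem (mem_sup_left ha) (mem_sup_right hm')⟩
      ⟨_, mul_mem (mem_sup_left hb) (mem_sup_right hm')⟩ hx rfl rfl,
      e' _ h2 _ h1 _ h3 y ⟨_, mul_mem (mem_sup_left h2) (mem_sup_right h3)⟩
      ⟨_, mul_mem (mem_sup_left h1) (mem_sup_right h3)⟩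
        (by rw [hxy, hx, ← hc h2 _ h1]; group) rfl rfl, mul_comm]
    congr 1
    · exact congrArg f (Subtype.ext (by rw [hφ]; group))
    · exact invEl_of_mem (H12.isClassFunction_of_isCharacter hf.ch) (mem_sup_right ht2) _ _
        (by rw [hφ]; group)
  revert η
  rw [e]
  intro η hη _ hinv
  exact hη.ext le_sup_left h.zA h.ND (mem_normalizer_sup (h.PA ht) (PM ht)) hinv
    (by rw [sup_assoc, hP])

theorem eq_one_of_norm {D : Type*} [Group D] [Finite D] {φ : D → ℂ} (hφ : IsCharacter D φ) {m : ℕ}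
    {x : D} (h : ‖(m : ℂ) * φ x‖ = 1) : m = 1 := by
  have h0 : m ≠ 0 := by rintro rfl; simp at h
  have h1 : φ x * φ x⁻¹ = ((1 : ℕ) : ℂ) / (m ^ 2 : ℕ) := by
    rw [H12.IsCharacter_inv hφ, Complex.mul_conj', eq_div_iff (by simpa using h0)]
    rw [norm_mul, Complex.norm_natCast] at h
    have := congrArg (fun r : ℝ => (r : ℂ) ^ 2) h
    push_cast at this ⊢
    linear_combination this
  have h2 := H12.dvd_of_isIntegral_div (pow_ne_zero 2 h0)
    (h1 ▸ (H12.IsCharacter_isIntegral hφ x).mul (H12.IsCharacter_isIntegral hφ x⁻¹))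
  exact Nat.dvd_one.1 ((dvd_pow_self m two_ne_zero).trans h2)

omit [Finite Γ] in
theorem sup_pgroup (h : DH z A K P) : IsPGroup 2 ↥(A ⊔ P) :=
  h.pA.to_sup_of_normal_left' h.pP h.PA

/-- The Glauberman correspondent of the sign character. -/
theorem se_of_cent (h : DH z A K P) {q : ℕ} (hq : q.Prime) (hK : IsPGroup q K) (hK1 : K ≠ ⊥)
    (KP : K ≤ centralizer (P : Set Γ)) {s : Γ} (hs : s ∈ K)
    (hfix : A ⊓ centralizer {s} ≤ zpowers z) :
    ∃ χ : IrrCharacter ↥(A ⊔ P), SE z A χ.1 ∧ ∀ x ∈ normalizer (A : Set Γ),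
      x ∈ normalizer (P : Set Γ) → x ∈ normalizer (K : Set Γ) → x ∈ centralizer {z} →
        InvEl (A ⊔ P) x χ.1 := by
  classical
  haveI := Fact.mk hq
  haveI := Fact.mk Nat.prime_two
  haveI : ∀ H : Subgroup Γ, Fintype H := fun H => Fintype.ofFinite H
  have hz : z ∉ P := fun h0 => h.z1 (mem_bot.1 (h.AP.le ⟨h.zA, h0⟩))
  obtain ⟨ξ, hξ⟩ := exists_sgn h.z2 hz h.cP
  have hC : zpowers z ⊔ P ≤ A ⊔ P := sup_le_sup_right h.zle P
  have KN : K ≤ normalizer ((A ⊔ P : Subgroup Γ) : Set Γ) :=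
    H4.le_normalizer_sup h.KA (KP.trans (centralizer_le_normalizer _))
  have CK : zpowers z ⊔ P ≤ centralizer (K : Set Γ) :=
    sup_le (le_centralizer_iff.1 (le_centralizer_zpowers h.cK)) (le_centralizer_iff.1 KP)
  have KC := (le_centralizer_iff.1 CK).trans (centralizer_le_normalizer _)
  have nb : ∀ H : Subgroup Γ, H ≤ normalizer ((⊥ : Subgroup Γ) : Set Γ) := fun _ => le_normalizer'
  have hcop : (Nat.card K).Coprime ((⊥ : Subgroup Γ).relIndex (A ⊔ P)) := by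
    rw [relIndex_bot_left]; exact h.cop le_rfl h.sup_pgroup
  have hcop' : ¬ q ∣ (⊥ : Subgroup Γ).relIndex (A ⊔ P) := fun h0 => hq.one_lt.ne'
    (Nat.eq_one_of_dvd_coprimes hcop (hK.card_eq_or_dvd.resolve_left (by rwa [card_eq_one])) h0)
  have h1 : ∀ g ∈ A ⊔ P, s * g * s⁻¹ * g⁻¹ ∈ (⊥ : Subgroup Γ) → g ∈ zpowers z ⊔ P := by
    intro g hg e
    obtain ⟨a, ha, x, hx, rfl⟩ := (H4.mem_sup_iff_of_le_normalizer h.PA).1 hg
    refine mul_mem (mem_sup_left (hfix (mem_inf.2 ⟨ha, mem_centralizer_singleton_iff.2 ?_⟩)))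
      (mem_sup_right hx)
    rw [mem_bot, mul_inv_eq_one, mul_inv_eq_iff_eq_mul, mul_assoc a, KP hs x hx, ← mul_assoc,
      ← mul_assoc, mul_left_inj] at e
    exact e.symm
  have h2 : ∀ g ∈ zpowers z ⊔ P, ∀ x ∈ K, x * g * x⁻¹ = g := fun g hg x hx => by
    rw [CK hg x hx, mul_inv_cancel_right]
  have H := isCorr_of_isPGroup hq hK (nb K) KN bot_le (nb _) hcop'
    (fun g => ⟨fun hg => ⟨hC hg, fun x hx => by simp [h2 g hg x hx]⟩,
      fun hg => h1 g hg.1 (hg.2 s hs)⟩) hC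
  have hξK : InvBy _ K ξ.1 := fun x hx => invEl_of_centralizes _ fun g hg => h2 g hg x hx
  obtain ⟨χ, hχ, hm⟩ := H.exL ξ hξK
  have hχz : χ.1 ⟨z, mem_sup_left h.zA⟩ = -χ.1 1 :=
    (sign_iff_of_mult hC (mem_sup_left (mem_zpowers z)) h.z2 (sup_le h.cA h.cP)
      (ne_zero_of_not_dvd hm)).2 (by simp [hξ, hz])
  refine ⟨χ, ⟨H11.irr_isCharacter χ, fun t ht => ?_, ?_⟩, fun x xA xP xK xz => ?_⟩
  · rw [← hχz]; exact congrArg _ (Subtype.ext ht)
  · have S := isSetup_internal (bot_le : ⊥ ≤ A ⊔ P) (nb _) (KN hs) (nb _ hs)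
      (m := Nat.card K) (H4.pow_card_eq_one_of_mem hs) hcop
      (fun g => ⟨fun hg => ⟨hC hg, by simp [h2 g hg s hs]⟩, fun hg => h1 g hg.1 hg.2⟩) hC
    obtain ⟨χ', hχ'⟩ := exists_ext_sup_zpowers (KN hs) χ (hχ s hs)
    obtain ⟨ω, hω⟩ := exists_ext_sup_zpowers (KC hs) ξ (hξK s hs)
    obtain ⟨k, hk⟩ := hK ⟨s, hs⟩
    have i1 : IsIrrCharacter _ fun g => χ'.1 (inclusion le_sup_left g) := hχ' ▸ χ.2
    have i2 : IsIrrCharacter _ fun g => ω.1 (inclusion le_sup_left g) := hω ▸ ξ.2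
    have e0 := (S.mult hq (k := k) (Subtype.ext (by simpa using congrArg Subtype.val hk))
      (H11.irr_isCharacter χ') i1 (H11.irr_isCharacter ω) i2 (m := mult hC χ ξ) (by
        rw [hω, ← mult_spec hC, ← hχ']; rfl)).1.2 hm
    have e1 := (S.eta_eq_zero_or (H11.irr_isCharacter χ') i1 (H11.irr_isCharacter ω)
      i2).resolve_left e0
    have e2 := congrArg norm
      (S.apply_eq (H11.irr_isCharacter χ') i1 (H11.irr_isCharacter ω) i2 e0 1)
    obtain ⟨lam, hlam⟩ := H11.exists_monoidHom_of_apply_one_eq_one (H11.irr_isCharacter ω)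
      ((congrFun hω 1).trans (by simp [hξ]))
    rw [norm_mul, e1, hlam, H11.norm_monoidHom_apply, map_one, one_mul, one_mul] at e2
    have hR : A ⊔ zpowers s ≤ A ⊔ P ⊔ zpowers s := sup_le_sup_right le_sup_left _
    have RA : A ⊔ zpowers s ≤ normalizer (A : Set Γ) := sup_zpowers_le_normalizer (h.KA hs)
    have Ps : P ≤ centralizer (zpowers s : Set Γ) :=
      le_centralizer_iff.1 ((zpowers_le_of_mem hs).trans KP)
    have PR : P ≤ normalizer ((A ⊔ zpowers s : Subgroup Γ) : Set Γ) :=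
      H4.le_normalizer_sup h.PA (Ps.trans (centralizer_le_normalizer _))
    have TR : A ⊔ P ⊔ zpowers s ≤ normalizer ((A ⊔ zpowers s : Subgroup Γ) : Set Γ) :=
      sup_le (sup_le (le_sup_left.trans le_normalizer) PR) (le_sup_right.trans le_normalizer)
    obtain ⟨φ, hφ⟩ := exists_under hR χ'
    obtain ⟨θ, hθ⟩ := exists_under (le_sup_left : A ≤ A ⊔ zpowers s) φ
    have hθz : θ.1 ⟨z, h.zA⟩ = -θ.1 1 :=
      (sign_iff_of_mult (le_sup_left.trans hR) h.zA h.z2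
        (sup_le (sup_le h.cA h.cP) (zpowers_le_of_mem (h.cK hs)))
        (mult_trans_ne_zero _ hR hφ hθ)).1 (by
          have := hχz; rw [← hχ'] at this; exact this)
    have hθi : ∀ y (hy : y ∈ normalizer (A : Set Γ)), y ∈ centralizer {z} → InvEl A y θ.1 :=
      fun y hy yz => (cj_eq_self_iff ⟨y, hy⟩ θ).1 (Subtype.ext (h.ND.eq_of_irr (cj A ⟨y, hy⟩ θ).2
        (by rw [cj_apply_one, ← hθz]
            exact cj_apply_of_eq _ θ (by
              change z = y * z * y⁻¹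
              rw [mem_centralizer_singleton_iff.1 yz, mul_inv_cancel_right])) θ.2 hθz))
    have hφi : InvBy _ (A ⊔ P ⊔ zpowers s) φ.1 := by
      have i3 := invBy_self (H11.isClassFunction_of_irr φ.2)
      refine ((i3.mono le_sup_left).sup (le_sup_left.trans le_normalizer) PR fun y hy => ?_).sup
        (le_sup_left.trans TR) (le_sup_right.trans le_normalizer) (i3.mono le_sup_right)
      refine invEl_over_of_trivial le_sup_left RA (h.PA hy) (fun g hg => ?_) (m := Nat.card P)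
        (by rw [H4.pow_card_eq_one_of_mem hy]; exact one_mem _) ?_ hθ
        (hθi y (h.PA hy) (h.cP hy))
      · obtain ⟨a, ha, x, hx, rfl⟩ := (H4.mem_sup_iff_of_le_normalizer
          (zpowers_le_of_mem (h.KA hs))).1 hg
        have := mul_mem (H4.conj_mem_of_mem_normalizer (h.PA hy) ha) (inv_mem ha)
        convert this using 1
        rw [mul_assoc y, mul_assoc a, Ps (inv_mem hy) x hx]; group
      · rw [relIndex_sup_of_le_normalizer (zpowers_le_of_mem (h.KA hs))]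
        exact (h.cop (zpowers_le_of_mem hs) h.pP).symm.coprime_dvd_right (relIndex_dvd_card _ _)
    have e3 := res_eq_mult_smul hR TR hφ hφi
    have e4 : mult hR χ' φ = 1 := eq_one_of_norm (H11.irr_isCharacter φ)
      (x := ⟨s, mem_sup_zpowers A s⟩) (by rw [← e3]; exact e2)
    obtain ⟨ψ, hψ⟩ := extends_sup_zpowers (h.KA hs) (hθi s (h.KA hs) (h.cK hs))
    obtain ⟨mu, -, hmu⟩ := exists_linear_of_over le_sup_left RA
      (comm_mem_of_mem_sup_zpowers (h.KA hs))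
      (by rw [mult_eq_one_of_res_eq le_sup_left fun n => hψ _ n rfl]; exact one_ne_zero) hθ
    have e5 : χ.1 1 = θ.1 1 := by
      rw [← hχ', ← hψ 1 1 rfl]
      refine (e3 1).trans ?_
      rw [e4, hmu]; simp
    rw [e5]
    exact (h.ND.irr_iff (H11.irr_isCharacter θ) hθz).1 θ.2
  · refine (H.invEl_iff KN KC hχ hξK hm (mem_normalizer_sup xA xP) (mem_normalizer_sup
      (centralizer_le_normalizer _ (le_centralizer_zpowers le_rfl xz)) xP) xK).2 fun g g' e => ?_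
    rw [hξ, hξ, e, ← mem_normalizer_iff.1 xP]

/-- The case where `K / C_K(A)` acts fixed point freely. -/
theorem se_of_fpf (h : DH z A K P) (hA : ¬ A ≤ zpowers z)
    (hab : ⁅K, K⁆ ≤ centralizer (A : Set Γ))
    (hmin : ∀ L < K, P ≤ normalizer (L : Set Γ) → ¬ A ⊓ centralizer (L : Set Γ) ≤ zpowers z)
    (hf : ∀ s ∈ K, s ∉ centralizer (A : Set Γ) → A ⊓ centralizer {s} ≤ zpowers z) :
    ∃ η : ↥(A ⊔ P) → ℂ, SE z A η := by
  haveI := Fact.mk Nat.prime_two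
  obtain ⟨C, hC⟩ : ∃ C, C = K ⊓ centralizer (A : Set Γ) := ⟨_, rfl⟩
  have CK : C ≤ K := hC ▸ inf_le_left
  have hK : ¬ K ≤ C := fun h0 => hA (le_trans (le_inf le_rfl (le_centralizer_iff.1
    (h0.trans (hC ▸ inf_le_right)))) h.fix)
  have KC : K ≤ normalizer (C : Set Γ) :=
    hC ▸ H4.le_normalizer_inf le_normalizer (H4.le_normalizer_centralizer h.KA)
  have PC : P ≤ normalizer (C : Set Γ) :=
    hC ▸ H4.le_normalizer_inf h.PK (H4.le_normalizer_centralizer h.PA)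
  have h1 : ∀ L ≤ K, P ≤ normalizer (L : Set Γ) → L ≤ C ∨ L = K := fun L hL PL => by
    by_contra hcon
    push Not at hcon
    obtain ⟨s, hs, hs'⟩ := SetLike.not_le_iff_exists.1 hcon.1
    refine hmin L (lt_of_le_of_ne hL hcon.2) PL (le_trans (inf_le_inf_left _ ?_)
      (hf s (hL hs) fun h0 => hs' (hC ▸ ⟨hL hs, h0⟩)))
    exact centralizer_le (Set.singleton_subset_iff.2 hs)
  obtain ⟨q, hq, hK'⟩ : ∃ q : ℕ, q.Prime ∧ IsPGroup q K := by
    by_contra hcon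
    refine hK (H4.le_of_forall_sylow_le fun q hq => ?_)
    obtain ⟨Q, hQ⟩ := H4.exists_invariant_sylow h.PK (h.cop le_rfl h.pP).symm
      (Or.inl (solv h.pP)) q
    exact ⟨Q, (h1 _ (map_subtype_le _) hQ).resolve_right fun e =>
      hcon ⟨q, hq.out, e ▸ Q.isPGroup'.map _⟩⟩
  -- `K / C` is cyclic
  obtain ⟨W, ⟨hW1, hW2, hW3⟩, hW⟩ := exists_minimal_of_wellFoundedLT
    (fun W : Subgroup Γ => zpowers z < W ∧ W ≤ A ∧ K ≤ normalizer (W : Set Γ))
    ⟨A, lt_of_le_not_ge h.zle hA, le_rfl, h.KA⟩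
  have nz : ∀ {H : Subgroup Γ}, H ≤ centralizer {z} → H ≤ normalizer (zpowers z : Set Γ) :=
    fun hH => (le_centralizer_zpowers hH).trans (centralizer_le_normalizer _)
  obtain ⟨s, hs, hs'⟩ := exists_generator_of_simple Nat.prime_two hW1.le (nz (hW2.trans h.cA))
    (pmod_mono (pmod_bot' h.pA) bot_le hW2) (nz h.cK) hW3 (fun a ha b hb x hx => by
      rw [← commutatorElement_def, commutatorElement_eq_one_iff_mul_comm.2
        (hab (commutator_mem_commutator ha hb) x (hW2 hx))]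
      exact one_mem _) fun V h2 h3 h4 => (eq_or_lt_of_le h2).imp Eq.symm fun h5 =>
      le_antisymm h3 (hW ⟨h5, h3.trans hW2, h4⟩ h3)
  have h2 : ∀ a ∈ K, ∃ n : ℤ, a * (s ^ n)⁻¹ ∈ C := fun a ha => by
    obtain ⟨n, hn⟩ := hs' a ha
    have h3 := mul_mem ha (inv_mem (zpow_mem hs n))
    refine ⟨n, hC ▸ ⟨h3, ?_⟩⟩
    by_contra h4
    have h5 := zpowers_le_of_mem h3
    have h6 : ⁅W, zpowers (a * (s ^ n)⁻¹)⁆ ≤ zpowers z := by
      rw [commutator_comm, commutator_le]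
      intro y hy w hw
      exact ((zpowers_le_of_mem (H := fixMod (zpowers z) W) ⟨nz h.cK h3, fun g hg => by
        simpa [commutatorElement_def, mul_assoc] using inv_mem (hn g hg)⟩) hy).2 w hw
    refine hW1.not_ge fun w hw => ?_
    obtain ⟨u, hu, c, hc, rfl⟩ := H4.exists_mul_centralizer_of_commutator_le hW1.le
      (nz (h5.trans h.cK)) (h.cop h5 (h.pA.to_le h.zle)) (Or.inr (solv (h.pA.to_le h.zle))) h6 hw
    exact mul_mem hu (hf _ h3 h4 ⟨hW2 hc.1, centralizer_le (by simp) hc.2⟩)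
  have hsC : s ∉ C := fun h0 => hK fun a ha => by
    obtain ⟨n, hn⟩ := h2 a ha
    exact (mul_mem_cancel_right (inv_mem (zpow_mem h0 n))).1 hn
  haveI : (C.subgroupOf K).Normal := (normal_subgroupOf_iff_le_normalizer CK).2 KC
  haveI : IsCyclic (K ⧸ C.subgroupOf K) := ⟨⟨((⟨s, hs⟩ : K) : K ⧸ C.subgroupOf K), fun x => by
    obtain ⟨a, rfl⟩ := QuotientGroup.mk_surjective x
    obtain ⟨n, hn⟩ := h2 a a.2
    refine ⟨n, ?_⟩
    simp only
    rw [← QuotientGroup.mk_zpow, eq_comm, ← mul_inv_eq_one, ← QuotientGroup.mk_inv,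
      ← QuotientGroup.mk_mul, QuotientGroup.eq_one_iff]
    exact hn⟩⟩
  obtain ⟨t, ht, ht'⟩ := exists_generator_of_simple hq CK KC
    (pmod_mono (pmod_bot' hK') bot_le le_rfl) PC h.PK (fun a ha b hb =>
      (H4.mem_ker_sectionAct h.PK PC (⟨a, ha⟩ * ⟨b, hb⟩ * ⟨a, ha⟩⁻¹ * ⟨b, hb⟩⁻¹)).1 (by
        rw [MonoidHom.mem_ker, map_mul, map_mul, map_mul, map_inv, map_inv, mul_inv_eq_one,
          mul_inv_eq_iff_eq_mul]
        apply (IsCyclic.mulAutMulEquiv _).injective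
        rw [map_mul, map_mul, mul_comm]))
    fun V h2 h3 h4 => (h1 V h3 h4).imp_left fun h5 => le_antisymm h5 h2
  obtain ⟨Q, hQ⟩ : ∃ Q, Q = centMod P C K := ⟨_, rfl⟩
  have hQm : ∀ {g}, g ∈ Q ↔ g ∈ P ∧ ∀ x ∈ K, ⁅x, g⁆ ∈ C := hQ ▸ mem_centMod PC
  have QP : Q ≤ P := fun g hg => (hQm.1 hg).1
  have PQ : P ≤ normalizer (Q : Set Γ) := fun y hy =>
    hQ ▸ mem_normalizer_centMod (le_normalizer hy) (PC hy) (h.PK hy)
  have e : Q ⊔ zpowers t = P := le_antisymm (sup_le QP (zpowers_le_of_mem ht)) fun a ha => by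
    obtain ⟨n, hn⟩ := ht' a ha
    have := mul_mem (mem_sup_left (T := zpowers t)
      (hQm.2 ⟨mul_mem ha (inv_mem (zpow_mem ht n)), hn⟩)) (mem_sup_right (zpow_mem_zpowers t n))
    rwa [inv_mul_cancel_right] at this
  have KQ : K ≤ centralizer (Q : Set Γ) := by
    refine inf_eq_left.1 ((h1 _ inf_le_left
      (H4.le_normalizer_inf h.PK (H4.le_normalizer_centralizer PQ))).resolve_left fun h0 => hK ?_)
    intro k hk
    obtain ⟨u, hu, c, hc, rfl⟩ := H4.exists_mul_centralizer_of_commutator_le CK (QP.trans PC)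
      (h.cop CK (h.pP.to_le QP)).symm (Or.inl (solv (h.pP.to_le QP)))
      (commutator_le.2 fun x hx g hg => (hQm.1 hg).2 x hx) hk
    exact mul_mem hu (h0 hc)
  obtain ⟨χ, hχ, hinv⟩ := (h.sub le_rfl h.zA h.nd le_rfl QP h.KA (QP.trans h.PA) (QP.trans h.PK)
    h.fix).se_of_cent hq hK' (fun h0 => hK (h0.le.trans bot_le)) KQ hs
    (hf s hs fun h0 => hsC (hC ▸ ⟨hs, h0⟩))
  exact hχ.ext le_sup_left h.zA h.ND (mem_normalizer_sup (h.PA ht) (PQ ht))
    (hinv t (h.PA ht) (PQ ht) (h.PK ht) (h.cP ht)) (by rw [sup_assoc, e])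

theorem exists_se (n : ℕ) : ∀ {A K P : Subgroup Γ}, DH z A K P →
    Nat.card A + Nat.card K + Nat.card P = n → ∃ η : ↥(A ⊔ P) → ℂ, SE z A η := by
  induction n using Nat.strong_induction_on with
  | _ n ih =>
  intro A K P h hn
  by_cases hA : A ≤ zpowers z
  · exact h.se_of_eq hA
  by_cases hs : ∃ B, Split z A B ∧ z ∈ B ∧ K ≤ normalizer (B : Set Γ) ∧
      P ≤ normalizer (B : Set Γ) ∧ ¬ B ≤ zpowers z ∧ B ≠ A
  · obtain ⟨B, h1, h2, h3, h4, h5, h6⟩ := hs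
    exact h.se_of_split h1 h2 h3 h4 h5 h6 fun B hB hB' =>
      ih _ (by have := card_lt_of_lt hB; omega) hB' rfl
  push Not at hs
  by_cases hmin : ∃ L < K, P ≤ normalizer (L : Set Γ) ∧ A ⊓ centralizer (L : Set Γ) ≤ zpowers z
  · obtain ⟨L, h1, h2, h3⟩ := hmin
    exact ih _ (by have := card_lt_of_lt h1; omega)
      (h.sub le_rfl h.zA h.nd h1.le le_rfl (h1.le.trans h.KA) h.PA h2 h3) rfl
  push Not at hmin
  have zE : ∀ L ≤ K, z ∈ A ⊓ centralizer (L : Set Γ) := fun L hL =>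
    ⟨h.zA, fun x hx => mem_centralizer_singleton_iff.1 (h.cK (hL hx))⟩
  have h1 : ∀ L < K, K ≤ normalizer (L : Set Γ) → P ≤ normalizer (L : Set Γ) →
      L ≤ centralizer (A : Set Γ) := fun L hL KL PL =>
    le_centralizer_iff.1 (inf_eq_left.1 (hs _ (h.split_cent hL.le) (zE L hL.le)
      (H4.le_normalizer_inf h.KA (H4.le_normalizer_centralizer KL))
      (H4.le_normalizer_inf h.PA (H4.le_normalizer_centralizer PL)) (hmin L hL PL)))
  have hab : ⁅K, K⁆ ≤ centralizer (A : Set Γ) := by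
    haveI := S0205.result h.oK
    have h2 : K ≠ ⊥ := fun h0 => hA (le_trans (le_inf le_rfl fun a _ => by simp [h0, mem_centralizer_iff]) h.fix)
    refine h1 _ (lt_of_le_of_ne (commutator_le_self K) fun e => h2 ?_)
      (H4.le_normalizer_commutator le_normalizer le_normalizer)
      (H4.le_normalizer_commutator h.PK h.PK)
    obtain ⟨m, hm⟩ := solvMod_of_isSolvable ⊥ this
    have : ∀ m, dser K m = K := fun m => by
      induction m with
      | zero => exact dser_zero K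
      | succ m ihm => rw [dser_succ, ihm, e]
    exact le_bot_iff.1 ((this m).ge.trans hm)
  let 𝓜 : Subgroup Γ → Prop := fun L => K ⊓ centralizer (A : Set Γ) ≤ L ∧ L ≤ K ∧
    ¬ A ⊓ centralizer (L : Set Γ) ≤ zpowers z
  have KL : ∀ L, 𝓜 L → K ≤ normalizer (L : Set Γ) := fun L hL x hx =>
    mem_normalizer_of_commutator_mem le_rfl fun c hc => hL.1 (mem_inf.2
      ⟨commutator_le_self K (commutator_mem_commutator hx (hL.2.1 hc)),
        hab (commutator_mem_commutator hx (hL.2.1 hc))⟩)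
  have PM : ∀ L, 𝓜 L → ∀ x ∈ P, 𝓜 (MulAut.conj x • L) := fun L hL x hx => by
    refine ⟨fun c hc => H4.mem_conj_smul_iff.2 (hL.1 (H4.inv_conj_mem_of_mem_normalizer
      (H4.le_normalizer_inf h.PK (H4.le_normalizer_centralizer h.PA) hx) hc)), fun y hy =>
      (mem_normalizer_iff''.1 (h.PK hx) y).2 (hL.2.1 (H4.mem_conj_smul_iff.1 hy)),
      fun h0 => hL.2.2 fun a ha => ?_⟩
    rw [← conj_smul_cent (h.PA hx)] at h0
    exact (mem_normalizer_iff.1 ((le_centralizer_zpowers h.cP).trans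
      (centralizer_le_normalizer _) hx) a).2 (h0 (H4.conj_mem_conj_smul ha))
  have PM' : ∀ L, Maximal 𝓜 L → ∀ x ∈ P, Maximal 𝓜 (MulAut.conj x • L) := fun L hL x hx =>
    ⟨PM L hL.1 x hx, fun L' hL' h2 y hy => H4.mem_conj_smul_iff.2
      (hL.2 (PM L' hL' x⁻¹ (inv_mem hx)) (fun a ha => H4.mem_conj_smul_iff.2 (by
        simpa using h2 (H4.conj_mem_conj_smul ha))) (H4.mem_conj_smul_iff.2 (by
          simpa [mul_assoc] using hy)))⟩
  have hc : ∀ L L', Maximal 𝓜 L → Maximal 𝓜 L' → L ≠ L' → A ⊓ centralizer (L : Set Γ) ≤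
      centralizer ((A ⊓ centralizer (L' : Set Γ) : Subgroup Γ) : Set Γ) := by
    intro L L' hL hL' hne
    have h2 : A ⊓ centralizer ((L ⊔ L' : Subgroup Γ) : Set Γ) ≤ zpowers z := by
      by_contra h3
      have h4 : 𝓜 (L ⊔ L') := ⟨hL.1.1.trans le_sup_left, sup_le hL.1.2.1 hL'.1.2.1, h3⟩
      exact hne (le_antisymm (le_sup_left.trans (hL'.2 h4 le_sup_right))
        (le_sup_right.trans (hL.2 h4 le_sup_left)))
    refine le_centralizer_iff.1 fun b hb => ?_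
    obtain ⟨u, hu, c, hc, rfl⟩ := H4.exists_commutator_mul_centralizer
      (hL.1.2.1.trans (H4.le_normalizer_inf h.KA (H4.le_normalizer_centralizer (KL _ hL'.1))))
      (h.cop hL.1.2.1 (h.pA.to_le inf_le_left)) (Or.inr (solv (h.pA.to_le inf_le_left))) hb
    refine mul_mem (h.comm_le hL.1.2.1 (commutator_mono inf_le_left le_rfl hu))
      (le_centralizer_iff.1 (le_centralizer_zpowers (inf_le_left.trans h.cA)) (h2 ?_))
    rw [centralizer_sup']
    exact ⟨hc.1.1, hc.2, hc.1.2⟩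
  obtain ⟨K₁, hK₁⟩ := exists_maximal_of_wellFoundedGT 𝓜 ⟨_, le_rfl, inf_le_left, fun h0 =>
    hA (le_trans (le_inf le_rfl (le_centralizer_iff.1 inf_le_right)) h0)⟩
  by_cases hP : P ≤ normalizer (K₁ : Set Γ)
  · have h2 : K₁ ≤ centralizer (A : Set Γ) := h1 _ (lt_of_le_of_ne hK₁.1.2.1 fun e =>
      hK₁.1.2.2 (e ▸ h.fix)) (KL _ hK₁.1) hP
    refine h.se_of_fpf hA hab hmin fun s hs hs' => ?_
    by_contra h3
    refine hs' (h2 (hK₁.2 (y := K₁ ⊔ zpowers s) ⟨hK₁.1.1.trans le_sup_left,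
      sup_le hK₁.1.2.1 (zpowers_le_of_mem hs), fun h0 => h3 (le_trans ?_ h0)⟩ le_sup_left
      (mem_sup_zpowers K₁ s)))
    rw [centralizer_sup']
    exact le_inf inf_le_left (le_inf (inf_le_left.trans (le_centralizer_iff.1 h2))
      (le_centralizer_zpowers inf_le_right))
  obtain ⟨M, t, h2, h3, h4, ht, ht', ht2, hM, h5⟩ := exists_index_two h.pP
    (inf_lt_left.2 hP : P ⊓ normalizer (K₁ : Set Γ) < P)
  obtain ⟨E, hE⟩ : ∃ E, E = A ⊓ centralizer (K₁ : Set Γ) := ⟨_, rfl⟩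
  have hEx : ∀ x ∈ P, MulAut.conj x • E =
      A ⊓ centralizer ((MulAut.conj x • K₁ : Subgroup Γ) : Set Γ) := fun x hx =>
    hE ▸ conj_smul_cent (h.PA hx)
  have hF : ∀ Q ≤ P, Split z A (⨆ x ∈ (Q : Set Γ), MulAut.conj x • E) ∧
      z ∈ (⨆ x ∈ (Q : Set Γ), MulAut.conj x • E) ∧
      K ≤ normalizer ((⨆ x ∈ (Q : Set Γ), MulAut.conj x • E : Subgroup Γ) : Set Γ) ∧
      Q ≤ normalizer ((⨆ x ∈ (Q : Set Γ), MulAut.conj x • E : Subgroup Γ) : Set Γ) ∧
      ¬ (⨆ x ∈ (Q : Set Γ), MulAut.conj x • E) ≤ zpowers z := fun Q hQ => by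
    have h6 : E ≤ ⨆ x ∈ (Q : Set Γ), MulAut.conj x • E :=
      le_iSup₂_of_le 1 (one_mem Q) (by simp)
    refine ⟨split_iSup _ (Set.toFinite _) (fun x hx => ?_) fun x hx y hy => ?_,
      h6 (hE ▸ zE _ hK₁.1.2.1), fun k hk => mem_normalizer_iSup_conj fun x hx => ?_,
      fun y hy => mem_normalizer_iSup_conj fun x hx =>
        le_iSup₂_of_le (y * x) (mul_mem hy hx) le_rfl, fun h0 => hK₁.1.2.2 (hE ▸ h6.trans h0)⟩
    · rw [hEx x (hQ hx)]
      exact h.split_cent (PM _ hK₁.1 x (hQ hx)).2.1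
    · rw [hEx x (hQ hx), hEx y (hQ hy)]
      exact (eq_or_ne _ _).imp (fun e => by rw [e])
        (hc _ _ (PM' _ hK₁ x (hQ hx)) (PM' _ hK₁ y (hQ hy)))
    · refine le_iSup₂_of_le x hx (le_of_eq ?_)
      rw [← H4.conj_smul_conj_smul, ← H4.mem_normalizer_iff_conj_smul, hEx x (hQ hx)]
      exact H4.le_normalizer_inf h.KA
        (H4.le_normalizer_centralizer (KL _ (PM _ hK₁.1 x (hQ hx)))) hk
  obtain ⟨a1, a2, a3, a4, a5⟩ := hF P le_rfl
  have hFP := hs _ a1 a2 a3 a4 a5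
  obtain ⟨b1, b2, b3, b4, -⟩ := hF M h3.le
  obtain ⟨B, hB⟩ : ∃ B, B = ⨆ x ∈ (M : Set Γ), MulAut.conj x • E := ⟨_, rfl⟩
  rw [← hB] at b1 b2 b3 b4
  have hB' := h.sub b1.le b2 b1.nd le_rfl h3.le b3 b4 (h3.le.trans h.PK)
    ((inf_le_inf_right _ b1.le).trans h.fix)
  obtain ⟨f, hf⟩ := ih _ (by
    have := card_lt_of_lt h3; have := card_le_of_le b1.le; omega) hB' rfl
  have h7 : ∀ m ∈ M, MulAut.conj m • E ≤ B := fun m hm => hB ▸ le_iSup₂_of_le m hm le_rfl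
  refine h.se_of_swap h3.le h4 ht ht2 hM hB' (le_antisymm (sup_le b1.le fun y hy =>
    (mem_normalizer_iff''.1 (h.PA ht) y).2 (b1.le (H4.mem_conj_smul_iff.1 hy)))
    (hFP.ge.trans (iSup₂_le fun x hx => ?_))) ?_ hf
  · rcases h5 x hx with h8 | h8
    · exact (h7 x h8).trans le_sup_left
    · refine le_trans (fun y hy => H4.mem_conj_smul_iff.2 (h7 _ h8
        (H4.mem_conj_smul_iff.2 ?_))) le_sup_right
      simpa [mul_assoc] using H4.mem_conj_smul_iff.1 hy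
  · have h8 : MulAut.conj t • B ≤ ⨆ x ∈ (M : Set Γ), MulAut.conj (t * x) • E := by
      rw [pointwise_smul_subset_iff, hB]
      refine iSup₂_le fun x hx y hy => ?_
      rw [← map_inv, H4.mem_conj_smul_iff]
      refine le_iSup₂ (f := fun x (_ : x ∈ (M : Set Γ)) => MulAut.conj (t * x) • E) x hx
        (H4.mem_conj_smul_iff.2 ?_)
      simpa [mul_assoc] using H4.mem_conj_smul_iff.1 hy
    refine le_trans (hB.le.trans (iSup₂_le fun x hx => le_centralizer_iff.1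
      (iSup₂_le fun y hy => ?_))) (centralizer_le (SetLike.coe_subset_coe.2 h8))
    have h9 := mul_mem ht (h3.le hy)
    rw [hEx x (h3.le hx), hEx _ h9]
    refine hc _ _ (PM' _ hK₁ _ h9) (PM' _ hK₁ x (h3.le hx)) fun e => ht' ?_
    have : x⁻¹ * (t * y) ∈ M := h2 (mem_inf.2 ⟨mul_mem (inv_mem (h3.le hx)) h9, by
      rw [H4.mem_normalizer_iff_conj_smul, ← H4.conj_smul_conj_smul, e,
        H4.conj_smul_conj_smul]; simp⟩)
    rwa [mul_mem_cancel_left (inv_mem hx), mul_mem_cancel_right hy] at this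

end DH

end Cfsg.Agent.H23
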