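import Mathlib
import Cfsg.Agent.H99.E72Defs
import Cfsg.Agent.S0243
import Cfsg.Agent.S0249
import Cfsg.Agent.S1162
import Cfsg.Agent.S1163
import Cfsg.Agent.S2126
import Cfsg.Agent.S2601

/-!
# Project E72, piece NUM: centres, orders and outer automorphism groups of `L₃(4)` and `Sz(8)`
-/

set_option autoImplicit false

namespace Cfsg.Agent.H23.E72Num

open Cfsg Cfsg.Agent.H99.E72 Subgroup

universe u

theorem center_bot {G : Type*} [Group G] [Finite G] [IsSimpleGroup G]
    (h : ¬ (Nat.card G).Prime) : center G = ⊥ := by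
  rcases (inferInstance : (center G).Normal).eq_bot_or_eq_top with h1 | h1
  · exact h1
  · exfalso
    letI : CommGroup G := { (inferInstance : Group G) with
      mul_comm := fun a b => by
        have : b ∈ center G := h1 ▸ mem_top b
        exact mem_center_iff.1 this a }
    exact h (IsSimpleGroup.prime_card (α := G))

theorem card_l34 (F : Type u) [Field F] [Fintype F] (hF : Fintype.card F = 4) :
    Nat.card (Matrix.ProjectiveSpecialLinearGroup (Fin 3) F) = 20160 := by
  have h := Cfsg.Agent.S0243.result hF 3 (by norm_num)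
  simp only [Fin.prod_univ_three, Fin.val_zero, Fin.val_one, Fin.val_two] at h
  norm_num at h
  omega

theorem num : NumStmt.{u} := by
  refine ⟨fun F _ _ hF => ?_, fun F _ _ hF => ?_⟩
  · have hc := card_l34 F hF
    haveI : IsSimpleGroup (Matrix.ProjectiveSpecialLinearGroup (Fin 3) F) :=
      Cfsg.Agent.S0249.result 3 le_rfl
    refine ⟨center_bot (by rw [hc]; norm_num), hc, ?_⟩
    haveI : Fact (Nat.Prime 2) := ⟨Nat.prime_two⟩
    obtain ⟨φ, hs, -, hk⟩ := Cfsg.Agent.S2601.result (F := F) (p := 2) (f := 2) (n := 3)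
      (by norm_num) (by rw [hF]; norm_num) le_rfl
    have h1 := Subgroup.card_mul_index φ.ker
    rw [Subgroup.index_ker, MonoidHom.range_eq_top.2 hs, Subgroup.card_top, hk] at h1
    rw [← h1]
    simp
  · have hF' : Fintype.card F = 2 ^ (2 * 1 + 1) := by rw [hF]; norm_num
    have hc : Nat.card (Lie.Sz F 4) = 29120 := (Cfsg.Agent.S1163.result (m := 1) le_rfl hF').1
    haveI : IsSimpleGroup (Lie.Sz F 4) := Cfsg.Agent.S1162.result (m := 1) le_rfl hF'
    exact ⟨center_bot (by rw [hc]; norm_num), hc, Cfsg.Agent.S2126.result (m := 1) le_rfl hF'⟩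

end Cfsg.Agent.H23.E72Num
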