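import Mathlib
import Cfsg.Agent.H23.OW
import Cfsg.Agent.H24.PSolv

/-!
# The relative McKay count for `p`-solvable groups
-/

namespace Cfsg.Agent.H23

open Cfsg Subgroup

section Grp

variable {Γ : Type*} [Group Γ]

theorem sup_inf_normalizer {K P C : Subgroup Γ} (hC : C = K ⊓ normalizer (P : Set Γ))
    (hPK : P ≤ normalizer (K : Set Γ)) {x : Γ} (hx : x ∈ K ⊔ P)
    (hx' : x ∈ normalizer (P : Set Γ)) : x ∈ C ⊔ P := by
  obtain ⟨k, hk, y, hy, rfl⟩ := (H4.mem_sup_iff_of_le_normalizer hPK).1 hx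
  exact mul_mem (mem_sup_left (hC ▸ ⟨hk, (mul_mem_cancel_right (le_normalizer hy)).1 hx'⟩))
    (mem_sup_right hy)

theorem relIndex_eq_of_complement {C R B A : Subgroup Γ} (hCR : C ≤ R) (hCB : C ≤ B) (hBA : B ≤ A)
    (hA : A ≤ normalizer (R : Set Γ)) (h : R ⊓ B ≤ C)
    (hf : ∀ t ∈ A, ∃ r ∈ R, ∃ b ∈ B, t = r * b) : C.relIndex B = R.relIndex A := by
  rw [← H4.relIndex_eq_of_mul hBA (C := R) fun t ht => ?_, ← inf_relIndex_right R B,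
    le_antisymm h (le_inf hCR hCB)]
  obtain ⟨r, hr, b, hb, rfl⟩ := hf t ht
  exact ⟨b, hb, b⁻¹ * r * b, H4.inv_conj_mem_of_mem_normalizer (hA (hBA hb)) hr, by group⟩

theorem exists_lin_extend {K R R₀ : Subgroup Γ} (h : K ≤ R) (hn : R ≤ normalizer (K : Set Γ))
    (h₀ : R₀ ≤ R) (hf : ∀ a ∈ R, ∃ k ∈ K, ∃ b ∈ R₀, a = k * b) (lam₀ : R₀ →* ℂˣ)
    (hl : ∀ x : R₀, (x : Γ) ∈ K → lam₀ x = 1) :
    ∃ lam : R →* ℂˣ, (∀ x : R, (x : Γ) ∈ K → lam x = 1) ∧ lam.comp (inclusion h₀) = lam₀ := by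
  haveI : (K.subgroupOf R).Normal := (normal_subgroupOf_iff_le_normalizer h).2 hn
  let π := (QuotientGroup.mk' (K.subgroupOf R)).comp (inclusion h₀)
  have hπ : Function.Surjective π := fun q => by
    obtain ⟨b, rfl⟩ := QuotientGroup.mk_surjective q
    obtain ⟨k, hk, b₀, hb₀, e⟩ := hf b b.2
    refine ⟨⟨b₀, hb₀⟩, QuotientGroup.eq.2 ?_⟩
    change b₀⁻¹ * b ∈ K
    rw [e, ← mul_assoc]
    exact H4.inv_conj_mem_of_mem_normalizer (hn (h₀ hb₀)) hk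
  let g := π.liftOfSurjective hπ ⟨lam₀, fun x hx => hl x
    ((QuotientGroup.eq_one_iff (N := K.subgroupOf R) (inclusion h₀ x)).1 hx)⟩
  refine ⟨g.comp (QuotientGroup.mk' _), fun x hx => ?_, ?_⟩
  · rw [MonoidHom.comp_apply, show QuotientGroup.mk' (K.subgroupOf R) x = 1 from
      (QuotientGroup.eq_one_iff _).2 hx, map_one]
  · exact MonoidHom.ext fun x => π.liftOfRightInverse_comp_apply _ (Function.rightInverse_surjInv hπ) _ x

theorem exists_normal_step [Finite Γ] {p : ℕ} (hp : p.Prime) {L G : Subgroup Γ} (h : L < G)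
    (hn : G ≤ normalizer (L : Set Γ)) (hs : IsPSolvable p G) :
    ∃ K : Subgroup Γ, L < K ∧ K ≤ G ∧ G ≤ normalizer (K : Set Γ) ∧
      ((∀ x ∈ K, ∃ k, x ^ p ^ k ∈ L) ∨ ¬ p ∣ L.relIndex K) := by
  haveI : (L.subgroupOf G).Normal := (normal_subgroupOf_iff_le_normalizer h.le).2 hn
  obtain ⟨y, hy, hy'⟩ := SetLike.exists_of_lt h
  haveI : Nontrivial (G ⧸ L.subgroupOf G) :=
    ⟨⟨(⟨y, hy⟩ : G), 1, fun e => hy' ((QuotientGroup.eq_one_iff (N := L.subgroupOf G) _).1 e)⟩⟩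
  obtain ⟨M, hM, hM0, hc⟩ := H24.exists_normal_ne_bot_of_isPSolvable
    (H24.isPSolvable_quotient hp hs (L.subgroupOf G))
  have hle : L ≤ (M.comap (QuotientGroup.mk' _)).map G.subtype := fun c hc =>
    ⟨⟨c, h.le hc⟩, by
      change QuotientGroup.mk' _ _ ∈ M
      rw [show QuotientGroup.mk' (L.subgroupOf G) ⟨c, h.le hc⟩ = 1 from
        (QuotientGroup.eq_one_iff _).2 hc]
      exact one_mem _, rfl⟩
  refine ⟨(M.comap (QuotientGroup.mk' _)).map G.subtype, lt_of_le_of_ne hle fun e => hM0 ?_,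
    map_subtype_le _, le_normalizer_of_conj_mem ?_, ?_⟩
  · refine eq_bot_iff.2 fun q hq => ?_
    obtain ⟨x, rfl⟩ := QuotientGroup.mk_surjective q
    exact (QuotientGroup.eq_one_iff _).2 (e.ge ⟨x, hq, rfl⟩)
  · rintro s hs _ ⟨x, hx, rfl⟩
    exact ⟨⟨s, hs⟩ * x * ⟨s, hs⟩⁻¹, (hM.comap _).conj_mem _ hx _, rfl⟩
  · rcases hc with ⟨m, hm⟩ | hc
    · left
      rintro _ ⟨x, hx, rfl⟩
      refine ⟨m, (QuotientGroup.eq_one_iff (N := L.subgroupOf G) (x ^ p ^ m)).1 ?_⟩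
      have := congrArg Subtype.val (pow_card_eq_one' (G := M) (x := ⟨_, hx⟩))
      rw [hm] at this
      exact this
    · right
      rw [← relIndex_subgroupOf (map_subtype_le _),
        show ((M.comap (QuotientGroup.mk' (L.subgroupOf G))).map G.subtype).subgroupOf G = _ from
          comap_map_eq_self_of_injective G.subtype_injective _]
      nth_rewrite 1 [← QuotientGroup.ker_mk' (L.subgroupOf G)]
      rw [relIndex_ker,
        map_comap_eq_self_of_surjective (QuotientGroup.mk'_surjective _)]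
      exact (Nat.Prime.coprime_iff_not_dvd hp).1 hc.symm

end Grp

variable {Γ : Type*} [Group Γ] [Finite Γ] {p : ℕ}

theorem ow_ext (hp : p.Prime) {L K P A C : Subgroup Γ} (hLK : L ≤ K) (hLP : L ≤ P)
    (hKL : K ≤ normalizer (L : Set Γ)) (hAL : A ≤ normalizer (L : Set Γ))
    (hAK : A ≤ normalizer (K : Set Γ)) (hAP : A ≤ normalizer (P : Set Γ))
    (hC : C = K ⊓ normalizer (P : Set Γ)) (hRA : C ⊔ P ≤ A) (hP : ∀ x ∈ P, ∃ k, x ^ p ^ k ∈ L)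
    (hcop : ¬ p ∣ L.relIndex K) (hcop' : ¬ p ∣ (C ⊔ P).relIndex A)
    (hab : ∀ a ∈ A, ∀ b ∈ A, a * b * a⁻¹ * b⁻¹ ∈ C ⊔ P) (h : C ≤ K) {θ : IrrCharacter K}
    {ξ : IrrCharacter C} (hθ : InvBy K A θ.1) (hξ : InvBy C P ξ.1) (hm : ¬ p ∣ mult h θ ξ)
    {μ : IrrCharacter ↥(K ⊔ P)} {μ₀ : IrrCharacter ↥(C ⊔ P)}
    (e : ∀ k : K, μ.1 ⟨k, mem_sup_left k.2⟩ = θ.1 k)
    (e₀ : ∀ k : C, μ₀.1 ⟨k, mem_sup_left k.2⟩ = ξ.1 k) (hμ : InvBy _ A μ.1)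
    (hμ₀ : InvBy _ A μ₀.1) : Extends μ.1 (K ⊔ P ⊔ A) ↔ Extends μ₀.1 A := by
  have hPA : P ≤ A := le_sup_right.trans hRA
  have hLC : L ≤ C := hC ▸ le_inf hLK (hLP.trans le_normalizer)
  have hAC : A ≤ normalizer (C : Set Γ) := fun x hx =>
    hC ▸ mem_normalizer_inf (hAK hx) (mem_normalizer_normalizer (hAP hx))
  have hAR₀ : A ≤ normalizer ((C ⊔ P : Subgroup Γ) : Set Γ) := fun x hx =>
    mem_normalizer_sup (hAC hx) (hAP hx)
  have hAR : A ≤ normalizer ((K ⊔ P : Subgroup Γ) : Set Γ) := fun x hx =>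
    mem_normalizer_sup (hAK hx) (hAP hx)
  obtain ⟨a, ha⟩ := exists_relIndex_eq_pow hp le_sup_left (hRA.trans hAC)
    (pmod_sup (hPA.trans hAC) (pmod_mono hP hLC le_rfl))
  obtain ⟨B, hCB, hBA, hB, hf⟩ := exists_complement_mod le_sup_left hRA hAC hAR₀
    (ha ▸ Nat.Coprime.pow_left a ((Nat.Prime.coprime_iff_not_dvd hp).2 hcop'))
  rw [extends_iff_of_factor hRA hBA le_sup_left hCB hB hf hAR₀ hμ₀ e₀,
    extends_iff_of_factor (B := K ⊔ B) le_sup_left (sup_le_sup le_sup_left hBA) le_sup_left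
      le_sup_left (fun x hx => ?_) (fun x hx => ?_) (sup_le le_normalizer hAR)
      (InvBy.sup le_normalizer hAR (invBy_self (H11.isClassFunction_of_irr μ.2)) hμ) e]
  · refine okuyama_wajima hp _ rfl hLK hLP hKL (hPA.trans hAL) (hBA.trans hAL) (hPA.trans hAK)
      (hBA.trans hAK) (hBA.trans hAP) hC hCB hP ?_ (fun a ha b hb => h (hB <| mem_inf.2 ⟨hab a (hBA ha) b
      (hBA hb), mul_mem (mul_mem (mul_mem ha hb) (inv_mem ha)) (inv_mem hb)⟩)) h (hθ.mono hPA)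
      (hθ.mono hBA) hξ hm ((extends_iff le_sup_left).2 ⟨μ, e⟩)
    rw [← relIndex_mul_relIndex L K _ hLK le_sup_left, relIndex_sup_of_le_normalizer
      (hBA.trans hAK), hp.dvd_mul, not_or, ← inf_relIndex_right K B,
      show K ⊓ B = C from le_antisymm (hC ▸ inf_le_inf_left K (hBA.trans hAP)) (le_inf h hCB),
      relIndex_eq_of_complement le_sup_left hCB hBA hAR₀ hB hf]
    exact ⟨hcop, hcop'⟩
  · obtain ⟨k, hk, b, hb, rfl⟩ := (H4.mem_sup_iff_of_le_normalizer (hBA.trans hAK)).1 hx.2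
    exact mul_mem hk (h (hB ⟨sup_inf_normalizer hC (hPA.trans hAK)
      ((mul_mem_cancel_left (mem_sup_left hk)).1 hx.1) (hAP (hBA hb)), hb⟩))
  · obtain ⟨m, hm, y, hy, rfl⟩ := (H4.mem_sup_iff_of_le_normalizer hAR).1 hx
    obtain ⟨r, hr, b, hb, rfl⟩ := hf y hy
    exact ⟨m * r, mul_mem hm (sup_le_sup_right h P hr), b, mem_sup_right hb, by group⟩

theorem invEl_mulLin_iff {K R : Subgroup Γ} (h : K ≤ R) (hn : R ≤ normalizer (K : Set Γ))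
    {θ : IrrCharacter K} {μ : IrrCharacter R} (e : ∀ k : K, μ.1 ⟨k, h k.2⟩ = θ.1 k) {x : Γ}
    (hxR : x ∈ normalizer (R : Set Γ)) (hxK : x ∈ normalizer (K : Set Γ)) (hμ : InvEl R x μ.1)
    {lam : R →* ℂˣ} (hl : ∀ y : R, (y : Γ) ∈ K → lam y = 1) :
    InvEl R x (mulLin lam μ).1 ↔ InvEl R x fun y => (lam y : ℂ) := by
  refine ⟨fun hi g g' hg => ?_, fun hi g g' hg => by
    rw [mulLin_apply, mulLin_apply, hμ g g' hg]; exact congrArg _ (hi g g' hg)⟩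
  have := mulLin_inj_of_ext h hn e (lam := lam.comp (cjAut R ⟨x, hxR⟩).toMonoidHom) (lam' := lam)
    (fun y hy => hl _ (H4.conj_mem_of_mem_normalizer hxK hy)) hl (Subtype.ext (funext fun y => by
      rw [← hi y (cjAut R ⟨x, hxR⟩ y) rfl, mulLin_apply, mulLin_apply,
        hμ y (cjAut R ⟨x, hxR⟩ y) rfl]; rfl))
  rw [show g' = cjAut R ⟨x, hxR⟩ g from Subtype.ext hg]
  exact congrArg Units.val (DFunLike.congr_fun this g)

theorem exists_ext_equiv {K R C R₀ S : Subgroup Γ} (h : K ≤ R) (hn : R ≤ normalizer (K : Set Γ))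
    (h' : C ≤ R₀) (h₀ : R₀ ≤ R) (hC : ∀ x ∈ R₀, x ∈ C ↔ x ∈ K)
    (hf : ∀ a ∈ R, ∃ k ∈ K, ∃ b ∈ R₀, a = k * b) (hSK : S ≤ normalizer (K : Set Γ))
    (hSR : S ≤ normalizer (R : Set Γ)) (hSC : S ≤ normalizer (C : Set Γ))
    (hSR₀ : S ≤ normalizer (R₀ : Set Γ)) {θ : IrrCharacter K} {ξ : IrrCharacter C}
    {μ : IrrCharacter R} {μ₀ : IrrCharacter R₀} (e : ∀ k : K, μ.1 ⟨k, h k.2⟩ = θ.1 k)
    (e₀ : ∀ k : C, μ₀.1 ⟨k, h' k.2⟩ = ξ.1 k) (hμ : InvBy R S μ.1) (hμ₀ : InvBy R₀ S μ₀.1) :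
    ∃ f : {ν : IrrCharacter R // ∀ k : K, ν.1 ⟨k, h k.2⟩ = θ.1 k} ≃
        {ν : IrrCharacter R₀ // ∀ k : C, ν.1 ⟨k, h' k.2⟩ = ξ.1 k},
      ∀ ν, ∀ x ∈ S, InvEl R x ν.1.1 ↔ InvEl R₀ x (f ν).1.1 := by
  have hn' : R₀ ≤ normalizer (C : Set Γ) := le_normalizer_of_conj_mem fun s hs g hg =>
    (hC _ (mul_mem (mul_mem hs (h' hg)) (inv_mem hs))).2
      (H4.conj_mem_of_mem_normalizer (hn (h₀ hs)) ((hC _ (h' hg)).1 hg))
  choose lam hl hlam using fun ν : {ν : IrrCharacter R // ∀ k : K, ν.1 ⟨k, h k.2⟩ = θ.1 k} =>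
    exists_linear_of_ext h hn e ν.2
  have hl₀ : ∀ ν (y : R₀), (y : Γ) ∈ C → (lam ν).comp (inclusion h₀) y = 1 := fun ν y hy =>
    hl ν _ ((hC _ y.2).1 hy)
  let g : {ν : IrrCharacter R // ∀ k : K, ν.1 ⟨k, h k.2⟩ = θ.1 k} →
      {ν : IrrCharacter R₀ // ∀ k : C, ν.1 ⟨k, h' k.2⟩ = ξ.1 k} := fun ν =>
    ⟨mulLin ((lam ν).comp (inclusion h₀)) μ₀, fun k => by
      rw [mulLin_apply, e₀, hl₀ ν _ k.2, Units.val_one, mul_one]⟩
  have hval : ∀ ν k (hk : k ∈ K) b (hb : b ∈ R₀) (y : R), (y : Γ) = k * b →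
      lam ν y = lam ν (inclusion h₀ ⟨b, hb⟩) := fun ν k hk b hb y e => by
    rw [show y = ⟨k, h hk⟩ * inclusion h₀ ⟨b, hb⟩ from Subtype.ext e, map_mul, hl ν _ hk, one_mul]
  refine ⟨Equiv.ofBijective g ⟨fun a b hab => Subtype.ext ?_, fun ν₀ => ?_⟩, fun ν x hx => ?_⟩
  · have h1 := mulLin_inj_of_ext h' hn' e₀ (hl₀ a) (hl₀ b) (congrArg Subtype.val hab)
    rw [hlam a, hlam b]
    congr 1
    ext y
    obtain ⟨k, hk, c, hc, e⟩ := hf y y.2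
    rw [hval a k hk c hc y e, hval b k hk c hc y e]
    exact congrArg Units.val (DFunLike.congr_fun h1 _)
  · obtain ⟨l₀, a, b⟩ := exists_linear_of_ext h' hn' e₀ ν₀.2
    obtain ⟨l, c, d⟩ := exists_lin_extend h hn h₀ hf l₀ fun y hy => a y ((hC _ y.2).2 hy)
    let ν : {ν : IrrCharacter R // ∀ k : K, ν.1 ⟨k, h k.2⟩ = θ.1 k} := ⟨mulLin l μ, fun k => by
      rw [mulLin_apply, e, c _ k.2, Units.val_one, mul_one]⟩
    refine ⟨ν, Subtype.ext ?_⟩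
    rw [b, ← d, mulLin_inj_of_ext h hn e c (hl ν) (hlam ν)]
  · rw [hlam ν, invEl_mulLin_iff h hn e (hSR hx) (hSK hx) (hμ x hx) (hl ν)]
    refine Iff.trans ?_ (invEl_mulLin_iff h' hn' e₀ (hSR₀ hx) (hSC hx) (hμ₀ x hx) (hl₀ ν)).symm
    refine ⟨fun hi => InvEl.res h₀ hi, fun hi y y' hy => ?_⟩
    obtain ⟨k, hk, c, hc, e⟩ := hf y y.2
    beta_reduce
    rw [hval ν k hk c hc y e, hval ν _ (H4.conj_mem_of_mem_normalizer (hSK hx) hk) _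
      (H4.conj_mem_of_mem_normalizer (hSR₀ hx) hc) y' (by rw [hy, e]; group)]
    exact hi ⟨c, hc⟩ ⟨_, _⟩ rfl

theorem weight_ext (hp : p.Prime) {K R T H : Subgroup Γ} (h₁ : K ≤ R) (h₂ : R ≤ T) (hH : H ≤ T)
    (hK : T ≤ normalizer (K : Set Γ)) (hR : T ≤ normalizer (R : Set Γ))
    (hP : ∀ x ∈ R, ∃ k, x ^ p ^ k ∈ K) (hcop : ¬ p ∣ R.relIndex T)
    (hf : ∀ t ∈ T, ∃ r ∈ R, ∃ b ∈ H, t = r * b) {θ : IrrCharacter K} (hθ : InvBy K T θ.1)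
    (hd : ¬ p ∣ charDegree θ.1)
    [Fintype {ν : IrrCharacter R // ∀ k : K, ν.1 ⟨k, h₁ k.2⟩ = θ.1 k}] :
    Nat.card H * Nat.card {χ : IrrCharacter T // ¬ p ∣ charDegree χ.1 ∧
      mult (h₁.trans h₂) χ θ ≠ 0} =
      ∑ ν : {ν : IrrCharacter R // ∀ k : K, ν.1 ⟨k, h₁ k.2⟩ = θ.1 k},
        Nat.card ((invStab R ν.1.1).subgroupOf H) *
          Nat.card {χ : IrrCharacter T // mult h₂ χ ν.1 ≠ 0} := by
  rw [card_mul_eq_sum_weight h₂ hH (hH.trans hR) (fun ν => ∀ k : K, ν.1 ⟨k, h₁ k.2⟩ = θ.1 k)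
    (fun χ => ¬ p ∣ charDegree χ.1 ∧ mult (h₁.trans h₂) χ θ ≠ 0)
    (fun x ν e => cj_ext h₁ _ (hK (hH x.2)) (hθ _ (hH x.2)) e) (fun χ hχ => ?_)
    (fun χ ν ν' _ _ _ a b => ?_)]
  · refine Finset.sum_congr rfl fun ν _ => congrArg _ (Nat.card_congr
      (Equiv.subtypeEquivRight fun χ => and_iff_right_of_imp fun a => ⟨?_, mult_trans_ne_zero h₁ h₂
        a ((mult_eq_one_of_res_eq h₁ ν.2).trans_ne one_ne_zero)⟩))
    obtain ⟨e, he, hd'⟩ := exists_deg_eq_mul_dvd h₂ hR a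
    rw [hd', H24.deg_congr (ψ := θ.1) (ν.2 1), hp.dvd_mul, not_or]
    exact ⟨fun h => hcop (h.trans he), hd⟩
  · obtain ⟨ν, a, b⟩ := exists_between h₁ h₂ hχ.2
    refine ⟨ν, (res_eq_iff_mult_eq_one h₁ (h₂.trans hK) (hθ.mono h₂)).2
      (mult_eq_one_of_not_dvd hp h₁ (h₂.trans hK) hP (hθ.mono h₂) fun h => hχ.1 ?_), a⟩
    refine h.trans (Dvd.dvd.trans ?_ (deg_dvd_of_mult_ne_zero h₂ hR a))
    exact Dvd.intro _ (deg_eq_mult_mul h₁ (h₂.trans hK) b (hθ.mono h₂)).symm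
  · obtain ⟨g, rfl⟩ := exists_cj_eq_of_mult_ne_zero h₂ hR a b
    obtain ⟨r, hr, x, hx, e⟩ := hf g g.2
    refine ⟨⟨x, hx⟩, ?_⟩
    rw [show (⟨g, hR g.2⟩ : normalizer (R : Set Γ)) = ⟨r, le_normalizer hr⟩ * ⟨x, hR (hH hx)⟩ from
      Subtype.ext e, cj_mul, cj_of_mem ⟨r, le_normalizer hr⟩ hr]

omit [Finite Γ] in
theorem invStab_subgroupOf_eq {K C H : Subgroup Γ} (hK : H ≤ normalizer (K : Set Γ))
    (hC : H ≤ normalizer (C : Set Γ)) {θ : K → ℂ} {ξ : C → ℂ}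
    (h : ∀ x ∈ H, InvEl K x θ ↔ InvEl C x ξ) :
    (invStab K θ).subgroupOf H = (invStab C ξ).subgroupOf H := Subgroup.ext fun x => by
  rw [mem_subgroupOf, mem_subgroupOf, mem_invStab, mem_invStab, and_iff_right (hK x.2),
    and_iff_right (hC x.2), h x x.2]

theorem invStab_inf_sup_le {K R H : Subgroup Γ} (h : K ≤ R) (hH : H ≤ normalizer (K : Set Γ))
    (θ : IrrCharacter R) : invStab R θ.1 ⊓ (K ⊔ H) ≤ K ⊔ (invStab R θ.1 ⊓ H) := fun x hx => by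
  obtain ⟨k, hk, y, hy, rfl⟩ := (H4.mem_sup_iff_of_le_normalizer hH).1 hx.2
  exact mul_mem (mem_sup_left hk) (mem_sup_right ⟨(mul_mem_cancel_left
    (le_invStab (H11.isClassFunction_of_irr θ.2) (h hk))).1 hx.1, hy⟩)

/-- The count over Glauberman correspondents, invariant case. -/
theorem mckay_core (hp : p.Prime) {L K P T C : Subgroup Γ} (hLK : L ≤ K) (hLP : L ≤ P)
    (hKL : K ≤ normalizer (L : Set Γ)) (hTL : T ≤ normalizer (L : Set Γ))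
    (hTK : T ≤ normalizer (K : Set Γ)) (hTP : T ≤ normalizer (P : Set Γ))
    (hC : C = K ⊓ normalizer (P : Set Γ)) (hCT : C ≤ T) (hPT : P ≤ T)
    (hP : ∀ x ∈ P, ∃ k, x ^ p ^ k ∈ L) (hcop : ¬ p ∣ L.relIndex K) (hcop' : ¬ p ∣ P.relIndex T)
    (h : C ≤ K) {θ : IrrCharacter K} {ξ : IrrCharacter C} (hθ : InvBy K T θ.1)
    (hξ : InvBy C T ξ.1) (hm : ¬ p ∣ mult h θ ξ) (hd : ¬ p ∣ charDegree θ.1)
    (hd' : ¬ p ∣ charDegree ξ.1) :
    Nat.card {χ : IrrCharacter ↥(K ⊔ T) // ¬ p ∣ charDegree χ.1 ∧ mult le_sup_left χ θ ≠ 0} =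
      Nat.card {χ : IrrCharacter T // ¬ p ∣ charDegree χ.1 ∧ mult hCT χ ξ ≠ 0} := by
  have hLC : L ≤ C := hC ▸ le_inf hLK (hLP.trans le_normalizer)
  have hTC : T ≤ normalizer (C : Set Γ) := fun x hx =>
    hC ▸ mem_normalizer_inf (hTK hx) (mem_normalizer_normalizer (hTP hx))
  have hTR₀ : T ≤ normalizer ((C ⊔ P : Subgroup Γ) : Set Γ) := fun x hx =>
    mem_normalizer_sup (hTC hx) (hTP hx)
  have hTR : T ≤ normalizer ((K ⊔ P : Subgroup Γ) : Set Γ) := fun x hx =>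
    mem_normalizer_sup (hTK hx) (hTP hx)
  have hR₀T : C ⊔ P ≤ T := sup_le hCT hPT
  have hRT : K ⊔ P ≤ K ⊔ T := sup_le_sup_left hPT K
  have hR₀R : C ⊔ P ≤ K ⊔ P := sup_le_sup_right h P
  have hBR : K ⊔ T ≤ normalizer ((K ⊔ P : Subgroup Γ) : Set Γ) :=
    sup_le (le_sup_left.trans le_normalizer) hTR
  have hBK : K ⊔ T ≤ normalizer (K : Set Γ) := sup_le le_normalizer hTK
  have hpR := pmod_sup (hPT.trans hTK) (pmod_mono hP hLK le_rfl)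
  have hpR₀ := pmod_sup (hPT.trans hTC) (pmod_mono hP hLC le_rfl)
  have hc₀ : ¬ p ∣ (C ⊔ P).relIndex T := not_dvd_relIndex hcop' le_sup_right hR₀T le_rfl
  have hRR : ∀ x ∈ T, x ∈ C ⊔ P ↔ x ∈ K ⊔ P := fun x hx =>
    ⟨fun a => hR₀R a, fun a => sup_inf_normalizer hC (hPT.trans hTK) a (hTP hx)⟩
  have hc : ¬ p ∣ (K ⊔ P).relIndex (K ⊔ T) := by
    rw [show K ⊔ T = K ⊔ P ⊔ T by rw [sup_assoc, sup_eq_right.2 hPT],
      relIndex_sup_of_le_normalizer hTR, ← inf_relIndex_right]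
    exact not_dvd_relIndex hcop' (le_inf le_sup_right hPT) inf_le_right le_rfl
  haveI := Fintype.ofFinite {ν : IrrCharacter ↥(K ⊔ P) // ∀ k : K,
    ν.1 ⟨k, (le_sup_left : K ≤ K ⊔ P) k.2⟩ = θ.1 k}
  haveI := Fintype.ofFinite {ν : IrrCharacter ↥(C ⊔ P) // ∀ k : C,
    ν.1 ⟨k, (le_sup_left : C ≤ C ⊔ P) k.2⟩ = ξ.1 k}
  have w1 := weight_ext hp le_sup_left hRT le_sup_right hBK hBR hpR hc (fun t ht => by
    obtain ⟨k, hk, b, hb, e⟩ := factor_of_sup hTK le_rfl t ht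
    exact ⟨k, mem_sup_left hk, b, hb, e⟩) (InvBy.sup le_normalizer hTK
      (invBy_self (H11.isClassFunction_of_irr θ.2)) hθ) hd
  have w2 := weight_ext hp le_sup_left hR₀T le_rfl hTC hTR₀ hpR₀ hc₀
    (fun t ht => ⟨1, one_mem _, t, ht, (one_mul t).symm⟩) hξ hd'
  refine Nat.eq_of_mul_eq_mul_left (Nat.card_pos (α := T)) (w1.trans (Eq.trans ?_ w2.symm))
  have hKP : K ⊓ P ≤ C := (inf_le_of_pmod hp hP hKL hcop).trans hLC
  have hiff := extends_iff_of_not_dvd hp h (hPT.trans hTK) (hPT.trans hTC)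
    (pmod_mono hP hLC le_rfl) hKP (hθ.mono hPT) (hξ.mono hPT) hm
  by_cases hext : Extends θ.1 (K ⊔ P)
  swap
  · rw [Finset.sum_eq_zero fun ν _ => absurd ((extends_iff le_sup_left).2 ⟨ν.1, ν.2⟩) hext,
      Finset.sum_eq_zero fun ν _ => absurd (hiff.2 ((extends_iff le_sup_left).2 ⟨ν.1, ν.2⟩)) hext]
  obtain ⟨a, ha⟩ := exists_relIndex_eq_pow hp le_sup_left (hR₀T.trans hTC) hpR₀
  obtain ⟨B, hCB, hBT, hB, hf⟩ := exists_complement_mod le_sup_left hR₀T hTC hTR₀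
    (ha ▸ Nat.Coprime.pow_left a ((Nat.Prime.coprime_iff_not_dvd hp).2 hc₀))
  have hcB : ¬ p ∣ C.relIndex B := by
    rwa [relIndex_eq_of_complement le_sup_left hCB hBT hTR₀ hB hf]
  have hpow : ∀ s ∈ B, s ^ C.relIndex B ∈ C := fun s hs => pow_relIndex_mem' (hBT.trans hTC) hs
  obtain ⟨μ, e, hμ⟩ := exists_inv_extension hp le_sup_left (hRT.trans hBK) hpR (hBT.trans hTK)
    (hBT.trans hTR) (fun s hs => h (hpow s hs)) hcB (hθ.mono hBT) hext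
  obtain ⟨μ₀, e₀, hμ₀⟩ := exists_inv_extension hp le_sup_left (hR₀T.trans hTC) hpR₀
    (hBT.trans hTC) (hBT.trans hTR₀) hpow hcB (hξ.mono hBT) (hiff.1 hext)
  have hinv : ∀ {R : Subgroup Γ} (ν : IrrCharacter R), C ⊔ P ≤ R → T ≤ normalizer (R : Set Γ) →
      InvBy R B ν.1 → InvBy R T ν.1 := fun ν a b c t ht => by
    obtain ⟨r, hr, y, hy, rfl⟩ := hf t ht
    exact InvEl.mul (b (hBT hy)) (invEl_of_mem (H11.isClassFunction_of_irr ν.2) (a hr)) (c y hy)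
  obtain ⟨f, hf'⟩ := exists_ext_equiv le_sup_left (hRT.trans hBK) le_sup_left hR₀R
    (fun x hx => ⟨fun a => h a, fun a => hC ▸ ⟨a, hTP (hR₀T hx)⟩⟩)
    (factor_of_sup (hPT.trans hTK) le_sup_right) hTK hTR hTC hTR₀ e e₀ (hinv μ hR₀R hTR hμ)
    (hinv μ₀ le_rfl hTR₀ hμ₀)
  refine Fintype.sum_equiv f _ _ fun ν => ?_
  rw [invStab_subgroupOf_eq hTR hTR₀ (hf' ν)]
  congr 1
  obtain ⟨S, hS⟩ : ∃ S, S = invStab (K ⊔ P) ν.1.1 ⊓ T := ⟨_, rfl⟩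
  have hST : S ≤ T := hS ▸ inf_le_right
  have hR₀S : C ⊔ P ≤ S :=
    hS ▸ le_inf (hR₀R.trans (le_invStab (H11.isClassFunction_of_irr ν.1.2))) hR₀T
  have hνS : InvBy _ S ν.1.1 := invBy_of_le_invStab (hS ▸ inf_le_left)
  have hν₀S : InvBy _ S (f ν).1.1 := fun x hx => (hf' ν x (hST hx)).1 (hνS x hx)
  obtain ⟨g₁, -⟩ := exists_clifford_equiv (T := K ⊔ P ⊔ S) le_sup_left
    (sup_le hRT (hST.trans le_sup_right)) hBR (θ := ν.1)
    ((invStab_inf_sup_le le_sup_left hTK ν.1).trans (hS ▸ sup_le_sup_right le_sup_left _))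
  obtain ⟨g₂, -⟩ := exists_clifford_equiv hR₀S hST hTR₀ (θ := (f ν).1)
    fun x hx => hS ▸ ⟨⟨hTR hx.2, (hf' ν x hx.2).2 hx.1.2⟩, hx.2⟩
  rw [← Nat.card_congr g₁, ← Nat.card_congr g₂]
  refine card_over_eq_of_extends le_sup_left (sup_le le_normalizer (hST.trans hTR)) hR₀S
    le_sup_right (fun x hx => hRR x (hST hx)) (factor_of_sup (hST.trans hTR) le_rfl)
    (InvBy.sup le_normalizer (hST.trans hTR) (invBy_self (H11.isClassFunction_of_irr ν.1.2)) hνS)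
    hν₀S fun A h1 h2 h3 => ?_
  have hAT := h2.trans hST
  exact ow_ext hp hLK hLP hKL (hAT.trans hTL) (hAT.trans hTK) (hAT.trans hTP) hC h1 hP hcop
    (not_dvd_relIndex hcop' le_sup_right h1 hAT) h3 h (hθ.mono hAT) (hξ.mono hPT) hm ν.2 (f ν).2
    (hνS.mono h2) (hν₀S.mono h2)

omit [Finite Γ] in
theorem le_map_conj {L P : Subgroup Γ} (h : L ≤ P) {g : Γ} (hg : g ∈ normalizer (L : Set Γ)) :
    L ≤ P.map (MulAut.conj g).toMonoidHom := fun z hz =>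
  ⟨g⁻¹ * z * g, h (H4.inv_conj_mem_of_mem_normalizer hg hz), by simp [mul_assoc]⟩

omit [Finite Γ] in
theorem pmod_map_conj {L P : Subgroup Γ} (hP : ∀ x ∈ P, ∃ k, x ^ p ^ k ∈ L) {g : Γ}
    (hg : g ∈ normalizer (L : Set Γ)) :
    ∀ x ∈ P.map (MulAut.conj g).toMonoidHom, ∃ k, x ^ p ^ k ∈ L := by
  rintro _ ⟨x, hx, rfl⟩
  obtain ⟨k, hk⟩ := hP x hx
  exact ⟨k, by rw [← map_pow]; exact H4.conj_mem_of_mem_normalizer hg hk⟩

/-- The Frattini argument modulo `L`. -/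
theorem exists_mul_mem_normalizer (hp : p.Prime) {L P T : Subgroup Γ} (hLP : L ≤ P)
    (hT : T ≤ normalizer (L : Set Γ)) (hP : ∀ x ∈ P, ∃ k, x ^ p ^ k ∈ L)
    (hcop : ¬ p ∣ P.relIndex T) {g : Γ} (hg : g ∈ normalizer (L : Set Γ))
    (hgP : ∀ x ∈ P, g * x * g⁻¹ ∈ T) : ∃ t ∈ T, t * g ∈ normalizer (P : Set Γ) := by
  obtain ⟨t, ht, h⟩ := exists_conj_mem_of_not_dvd hp (R := P.map (MulAut.conj g).toMonoidHom)
    (by rintro _ ⟨x, hx, rfl⟩; exact hgP x hx) hLP (le_map_conj hLP hg) hT (pmod_map_conj hP hg)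
    hcop
  refine ⟨t, ht, mem_normalizer_of_conj_mem fun x hx => ?_⟩
  simpa [mul_assoc] using h _ ⟨x, hx, rfl⟩

theorem over_of_under {L K G : Subgroup Γ} (h₁ : L ≤ K) (h₂ : K ≤ G)
    (hn : G ≤ normalizer (L : Set Γ)) {ν : IrrCharacter L} (hν : InvBy L G ν.1)
    {χ : IrrCharacter G} {θ : IrrCharacter K} (a : mult (h₁.trans h₂) χ ν ≠ 0)
    (b : mult h₂ χ θ ≠ 0) : mult h₁ θ ν ≠ 0 := by
  obtain ⟨ν', c⟩ := exists_under h₁ θ
  rwa [eq_of_under_of_inv _ hn a (mult_trans_ne_zero h₁ h₂ b c) hν] at c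

theorem weight_inv (hp : p.Prime) {L K P G N : Subgroup Γ} (h₁ : L ≤ K) (h₂ : K ≤ G) (hLP : L ≤ P)
    (hPG : P ≤ G) (hL : G ≤ normalizer (L : Set Γ)) (hK : G ≤ normalizer (K : Set Γ))
    (hP : ∀ x ∈ P, ∃ k, x ^ p ^ k ∈ L) (hcop : ¬ p ∣ P.relIndex G)
    (hN : N = G ⊓ normalizer (P : Set Γ)) {ν : IrrCharacter L} (hν : InvBy L G ν.1)
    [Fintype {θ : IrrCharacter K // InvBy K P θ.1 ∧ mult h₁ θ ν ≠ 0}] :
    Nat.card N * Nat.card {χ : IrrCharacter G // ¬ p ∣ charDegree χ.1 ∧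
      mult (h₁.trans h₂) χ ν ≠ 0} =
      ∑ θ : {θ : IrrCharacter K // InvBy K P θ.1 ∧ mult h₁ θ ν ≠ 0},
        Nat.card ((invStab K θ.1.1).subgroupOf N) *
          Nat.card {χ : IrrCharacter G // ¬ p ∣ charDegree χ.1 ∧ mult h₂ χ θ.1 ≠ 0} := by
  have hNG : N ≤ G := hN ▸ inf_le_left
  have hNP : N ≤ normalizer (P : Set Γ) := hN ▸ inf_le_right
  rw [card_mul_eq_sum_weight h₂ hNG (hNG.trans hK) (fun θ => InvBy K P θ.1 ∧ mult h₁ θ ν ≠ 0)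
    (fun χ => ¬ p ∣ charDegree χ.1 ∧ mult (h₁.trans h₂) χ ν ≠ 0)
    (fun x θ e => ⟨invBy_cj _ (hNP x.2) (hPG.trans hK) e.1, by
      rw [mult_cj_left h₁ _ (hL (hNG x.2)) _ (hν _ (hNG x.2))]; exact e.2⟩) (fun χ hχ => ?_)
    (fun χ θ θ' _ c d a b => ?_)]
  · refine Finset.sum_congr rfl fun θ _ => congrArg _ (Nat.card_congr
      (Equiv.subtypeEquivRight fun χ => ⟨fun a => ⟨a.1.1, a.2⟩, fun a =>
        ⟨⟨a.1, mult_trans_ne_zero h₁ h₂ a.2 θ.2.2⟩, a.2⟩⟩))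
  · obtain ⟨θ, a⟩ := exists_under h₂ χ
    obtain ⟨t, ht, h⟩ := exists_conj_mem_of_not_dvd hp (Q := invStab K θ.1) hPG
      (h₁.trans (le_invStab (H11.isClassFunction_of_irr θ.2))) hLP hL hP fun hd => hχ.1 (by
        rw [deg_eq_clifford h₂ hK a]; exact (hd.mul_left _).mul_right _)
    have b := (mult_cj_of_mem h₂ (inv_mem ht) (inv_mem (hK ht)) χ θ).trans_ne a
    exact ⟨_, ⟨fun x hx => invEl_cj _ (hK (hPG hx)) (by simpa using (h x hx).2),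
      over_of_under h₁ h₂ hL hν hχ.2 b⟩, b⟩
  · obtain ⟨g, rfl⟩ := exists_cj_eq_of_mult_ne_zero h₂ hK a b
    have hPT : P ≤ invStab K θ.1 ⊓ G := le_inf ((le_invStab_iff (hPG.trans hK)).2 c.1) hPG
    obtain ⟨t, ht, h⟩ := exists_mul_mem_normalizer hp (T := invStab K θ.1 ⊓ G) hLP
      (inf_le_right.trans hL) hP (not_dvd_relIndex hcop le_rfl hPT inf_le_right)
      (inv_mem (hL g.2)) fun x hx => by
        have h1 : (g : Γ)⁻¹ * x * (g : Γ)⁻¹⁻¹ ∈ G :=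
          mul_mem (mul_mem (inv_mem g.2) (hPG hx)) (inv_mem (inv_mem g.2))
        refine ⟨⟨hK h1, ?_⟩, h1⟩
        have h2 : InvEl K x (cj K ⟨g, hK g.2⟩ θ).1 := d.1 x hx
        have := invEl_cj (⟨g, hK g.2⟩ : normalizer (K : Set Γ))⁻¹ (hK h1)
          (χ := cj K ⟨g, hK g.2⟩ θ) (by simpa [mul_assoc] using h2)
        rwa [cj_inv_cj] at this
    refine ⟨⟨(t * (g : Γ)⁻¹)⁻¹, hN ▸ mem_inf.2 ⟨inv_mem (mul_mem (mem_inf.1 ht).2 (inv_mem g.2)),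
      inv_mem h⟩⟩, ?_⟩
    rw [show (⟨(t * (g : Γ)⁻¹)⁻¹, _⟩ : normalizer (K : Set Γ)) =
      ⟨g, hK g.2⟩ * ⟨t⁻¹, inv_mem (hK ht.2)⟩ from Subtype.ext (by simp), cj_mul,
      (cj_eq_self_iff _ θ).2 ht.1.2.inv]

/-- The relative McKay count for `p`-solvable groups. -/
theorem mckay_rel (hp : p.Prime) (n : ℕ) : ∀ {L P G N : Subgroup Γ}, L.relIndex G = n →
    IsPSolvable p G → L ≤ P → P ≤ G → G ≤ normalizer (L : Set Γ) →
    (∀ x ∈ P, ∃ k, x ^ p ^ k ∈ L) → ¬ p ∣ P.relIndex G → N = G ⊓ normalizer (P : Set Γ) →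
    ∀ (h₁ : L ≤ G) (h₂ : L ≤ N) {ν : IrrCharacter L}, InvBy L P ν.1 →
    Nat.card {χ : IrrCharacter G // ¬ p ∣ charDegree χ.1 ∧ mult h₁ χ ν ≠ 0} =
      Nat.card {χ : IrrCharacter N // ¬ p ∣ charDegree χ.1 ∧ mult h₂ χ ν ≠ 0} := by
  induction n using Nat.strong_induction_on with
  | _ n ih =>
  intro L P G N hn hs hLP hPG hL hP hcop hN h₁ h₂ ν hν
  have hNG : N ≤ G := hN ▸ inf_le_left
  have hNP : N ≤ normalizer (P : Set Γ) := hN ▸ inf_le_right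
  have hPN : P ≤ N := hN ▸ le_inf hPG le_normalizer
  have hcN : ¬ p ∣ P.relIndex N := not_dvd_relIndex hcop le_rfl hPN hNG
  by_cases hd : p ∣ charDegree ν.1
  · rw [Nat.card_eq_zero.2 (Or.inl ⟨fun χ => χ.2.1
      (hd.trans (deg_dvd_of_mult_ne_zero h₁ hL χ.2.2))⟩), Nat.card_eq_zero.2 (Or.inl
      ⟨fun χ => χ.2.1 (hd.trans (deg_dvd_of_mult_ne_zero h₂ (hNG.trans hL) χ.2.2))⟩)]
  have hPT : P ≤ invStab L ν.1 ⊓ G := le_inf ((le_invStab_iff (hPG.trans hL)).2 hν) hPG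
  rcases (inf_le_right : invStab L ν.1 ⊓ G ≤ G).eq_or_lt with hT | hT
  swap
  · have hPT' : P ≤ invStab L ν.1 ⊓ G ⊓ normalizer (P : Set Γ) := le_inf hPT le_normalizer
    have hT' : invStab L ν.1 ⊓ G ⊓ normalizer (P : Set Γ) ≤ N :=
      hN ▸ inf_le_inf_right _ inf_le_right
    rw [card_clifford hp (hLP.trans hPT) hT.le hL le_rfl (not_dvd_relIndex hcop hPT hT.le le_rfl),
      card_clifford hp (hLP.trans hPT') hT' (hNG.trans hL) (by rw [hN, inf_assoc])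
        (not_dvd_relIndex hcop hPT' hT' hNG)]
    exact ih _ (hn ▸ relIndex_lt_of_lt (hLP.trans hPT) hT) rfl
      (H24.isPSolvable_of_injective hp (inclusion hT.le) (inclusion_injective _) hs) hLP hPT
      (hT.le.trans hL) hP (not_dvd_relIndex hcop le_rfl hPT hT.le) rfl _ _ hν
  have hνG : InvBy L G ν.1 := invBy_of_le_invStab (inf_eq_right.1 hT)
  rcases h₁.eq_or_lt with rfl | hlt
  · obtain rfl : N = L := le_antisymm hNG h₂
    rfl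
  obtain ⟨K, hLK, hKG, hK, hc⟩ := exists_normal_step hp hlt hL hs
  have IH : ∀ {M : Subgroup Γ}, M = G ⊓ normalizer ((K ⊔ P : Subgroup Γ) : Set Γ) →
      ∀ (h : K ≤ M) {θ : IrrCharacter K}, InvBy K P θ.1 →
      Nat.card {χ : IrrCharacter G // ¬ p ∣ charDegree χ.1 ∧ mult hKG χ θ ≠ 0} =
        Nat.card {χ : IrrCharacter M // ¬ p ∣ charDegree χ.1 ∧ mult h χ θ ≠ 0} :=
    fun hM h θ hθ => ih _ (hn ▸ (by
      rw [← relIndex_mul_relIndex L K G hLK.le hKG]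
      exact lt_mul_of_one_lt_left (relIndex_pos' _ _) (lt_of_le_of_ne (relIndex_pos' _ _)
        fun e => hLK.not_ge (relIndex_eq_one.1 e.symm)))) rfl hs le_sup_left (sup_le hKG hPG) hK
      (pmod_sup (hPG.trans hK) (pmod_mono hP hLK.le le_rfl))
      (not_dvd_relIndex hcop le_sup_right (sup_le hKG hPG) le_rfl) hM hKG h
      (InvBy.sup le_normalizer (hPG.trans hK) (invBy_self (H11.isClassFunction_of_irr θ.2)) hθ)
  haveI := Fintype.ofFinite {θ : IrrCharacter K // InvBy K P θ.1 ∧ mult hLK.le θ ν ≠ 0}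
  have w1 := weight_inv hp hLK.le hKG hLP hPG hL hK hP hcop hN hνG
  have hNN : N = N ⊓ normalizer (P : Set Γ) := (inf_eq_left.2 hNP).symm
  refine Nat.eq_of_mul_eq_mul_left (Nat.card_pos (α := N)) (w1.trans ?_)
  rcases hc with hc | hc
  · have hKP : K ≤ P := fun k hk => by
      obtain ⟨t, ht, h⟩ := exists_conj_mem_of_not_dvd hp hKG hLP hLK.le hL hc hcop
      simpa [mul_assoc] using h _ (H4.inv_conj_mem_of_mem_normalizer (hK ht) hk)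
    rw [weight_inv hp hLK.le (hKP.trans hPN) hLP hPN (hNG.trans hL) (hNG.trans hK) hP hcN hNN
      (hνG.mono hNG)]
    exact Finset.sum_congr rfl fun θ _ => congrArg _
      (IH (by rw [sup_eq_right.2 hKP, hN]) _ θ.2.1)
  obtain ⟨C, hC⟩ : ∃ C, C = K ⊓ normalizer (P : Set Γ) := ⟨_, rfl⟩
  have h : C ≤ K := hC ▸ inf_le_left
  have hCN : C ≤ N := hC ▸ hN ▸ inf_le_inf_right _ hKG
  have hLC : L ≤ C := hC ▸ le_inf hLK.le (hLP.trans le_normalizer)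
  have hNC : N ≤ normalizer (C : Set Γ) := fun x hx =>
    hC ▸ mem_normalizer_inf (hK (hNG hx)) (mem_normalizer_normalizer (hNP hx))
  haveI := Fintype.ofFinite {θ : IrrCharacter C // InvBy C P θ.1 ∧ mult hLC θ ν ≠ 0}
  rw [weight_inv hp hLC hCN hLP hPN (hNG.trans hL) hNC hP hcN hNN (hνG.mono hNG)]
  have H := isCorr_rel hp hLP hP (hPG.trans hL) (hPG.trans hK) hLK.le (hKG.trans hL) hc hC h
  obtain ⟨f, hf⟩ := H.exists_equiv (X := fun θ => InvBy K P θ.1 ∧ mult hLK.le θ ν ≠ 0)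
    (Y := fun θ => InvBy C P θ.1 ∧ mult hLC θ ν ≠ 0) (fun _ a => a.1) (fun _ a => a.1)
    fun θ ξ a b c => by
      rw [and_iff_right a, and_iff_right b]
      exact ⟨fun d => over_of_under hLC h (hKG.trans hL) (hνG.mono hKG) d (ne_zero_of_not_dvd c),
        fun d => mult_trans_ne_zero hLC h (ne_zero_of_not_dvd c) d⟩
  refine Fintype.sum_equiv f _ _ fun θ => ?_
  have hinv : ∀ x ∈ N, InvEl K x θ.1.1 ↔ InvEl C x (f θ).1.1 := fun x hx =>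
    H.invEl_iff (hPG.trans hK) (hPN.trans hNC) θ.2.1 (f θ).2.1 (hf θ) (hK (hNG hx)) (hNC hx)
      (hNP hx)
  rw [invStab_subgroupOf_eq (hNG.trans hK) hNC hinv]
  congr 1
  have hM : K ⊔ N = G ⊓ normalizer ((K ⊔ P : Subgroup Γ) : Set Γ) := by
    refine le_antisymm (le_inf (sup_le hKG hNG) (sup_le (le_sup_left.trans le_normalizer)
      fun x hx => mem_normalizer_sup (hK (hNG hx)) (hNP hx))) fun g hg => ?_
    obtain ⟨t, ht, h⟩ := exists_mul_mem_normalizer hp (T := K ⊔ P) hLP ((sup_le hKG hPG).trans hL)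
      hP (not_dvd_relIndex hcop le_rfl le_sup_right (sup_le hKG hPG)) (hL hg.1)
      fun x hx => H4.conj_mem_of_mem_normalizer hg.2 (mem_sup_right hx)
    exact (mul_mem_cancel_left (sup_le_sup_left hPN K ht)).1
      (mem_sup_right (hN ▸ ⟨mul_mem (sup_le hKG hPG ht) hg.1, h⟩))
  obtain ⟨T, hT⟩ : ∃ T, T = invStab K θ.1.1 ⊓ N := ⟨_, rfl⟩
  have hTN : T ≤ N := hT ▸ inf_le_right
  have hPT : P ≤ T := hT ▸ le_inf ((le_invStab_iff (hPG.trans hK)).2 θ.2.1) hPN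
  have hCT : C ≤ T := hT ▸ le_inf (h.trans (le_invStab (H11.isClassFunction_of_irr θ.1.2))) hCN
  have hθT : InvBy K T θ.1.1 := invBy_of_le_invStab (hT ▸ inf_le_left)
  have hdeg : ∀ {B : Subgroup Γ} (a : L ≤ B) (_ : B ≤ K) (ξ : IrrCharacter B), mult a ξ ν ≠ 0 →
      ¬ p ∣ charDegree ξ.1 := fun a b ξ c => by
    obtain ⟨e, he, hd'⟩ := exists_deg_eq_mul_dvd a (b.trans (hKG.trans hL)) c
    rw [hd', hp.dvd_mul, not_or]
    exact ⟨fun h => not_dvd_relIndex hc le_rfl a b (h.trans he), hd⟩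
  rw [IH hM le_sup_left θ.2.1, card_clifford hp (T := K ⊔ T) le_sup_left (sup_le_sup_left hTN K)
    ((sup_le hKG hNG).trans hK) (hT ▸ invStab_inf_sup_le le_rfl (hNG.trans hK) θ.1)
    (not_dvd_relIndex hcop (hPT.trans le_sup_right) (sup_le_sup_left hTN K) (sup_le hKG hNG)),
    card_clifford hp hCT hTN hNC
      (fun x hx => hT ▸ ⟨⟨hK (hNG hx.2), (hinv x hx.2).2 hx.1.2⟩, hx.2⟩)
      (not_dvd_relIndex hcop hPT hTN hNG)]
  exact mckay_core hp hLK.le hLP (hKG.trans hL) (hTN.trans (hNG.trans hL))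
    (hTN.trans (hNG.trans hK)) (hTN.trans hNP) hC hCT hPT hP hc
    (not_dvd_relIndex hcop le_rfl hPT (hTN.trans hNG)) h hθT
    (fun x hx => (hinv x (hTN hx)).1 (hθT x hx)) (hf θ) (hdeg hLK.le le_rfl _ θ.2.2)
    (hdeg hLC h _ (f θ).2.2)

end Cfsg.Agent.H23
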