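import Mathlib
import Cfsg.Agent.H23.McKay
import Cfsg.Agent.H19.FS
import Cfsg.Agent.H11.PermChar
import Cfsg.Agent.H2.SchurZassenhaus

/-!
# Real characters of degree prime to `p` (Isaacs–Navarro)
-/

namespace Cfsg.Agent.H23

open Cfsg Subgroup
open scoped ComplexConjugate commutatorElement

/-- Real valued functions. -/
def IsReal {A : Type*} (f : A → ℂ) : Prop := ∀ g, (f g).im = 0

section Bar

variable {A : Type*} [Group A] [Finite A]

/-- The complex conjugate character. -/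
noncomputable def bar (χ : IrrCharacter A) : IrrCharacter A :=
  ⟨fun g => conj (χ.1 g), H11.isIrrCharacter_conj χ.2⟩

theorem bar_apply (χ : IrrCharacter A) (g : A) : (bar χ).1 g = conj (χ.1 g) := rfl

theorem bar_bar (χ : IrrCharacter A) : bar (bar χ) = χ :=
  Subtype.ext (funext fun _ => Complex.conj_conj _)

theorem bar_eq_iff {χ : IrrCharacter A} : bar χ = χ ↔ IsReal χ.1 := by
  rw [Subtype.ext_iff, funext_iff]
  exact forall_congr' fun g => Complex.conj_eq_iff_im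

/-- The principal character. -/
noncomputable def oneIrr (A : Type*) [Group A] : IrrCharacter A :=
  ⟨fun _ => 1, H11.isIrrCharacter_one⟩

end Bar

section Ambient

variable {Γ : Type*} [Group Γ] [Finite Γ] {p : ℕ}

theorem mult_bar {C G : Subgroup Γ} (h : C ≤ G) (χ : IrrCharacter G) (ξ : IrrCharacter C) :
    mult h (bar χ) (bar ξ) = mult h χ ξ := by
  haveI := Fintype.ofFinite C
  refine mult_eq_of_inner h ?_
  have := H11.classInner_conj_conj (fun c : C => χ.1 ⟨c, h c.2⟩) ξ.1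
  rw [← H11.conj_classInner _ ξ.1, mult_spec, map_natCast] at this
  exact this

theorem invEl_bar {H : Subgroup Γ} {x : Γ} {χ : IrrCharacter H} (h : InvEl H x χ.1) :
    InvEl H x (bar χ).1 := fun g g' e => congrArg conj (h g g' e)

theorem invBy_bar {H P : Subgroup Γ} {χ : IrrCharacter H} (h : InvBy H P χ.1) :
    InvBy H P (bar χ).1 := fun x hx => invEl_bar (h x hx)

theorem cj_bar {H : Subgroup Γ} (x : normalizer (H : Set Γ)) (χ : IrrCharacter H) :
    cj H x (bar χ) = bar (cj H x χ) := rfl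

omit [Finite Γ] in
theorem isReal_cj {H : Subgroup Γ} (x : normalizer (H : Set Γ)) {χ : IrrCharacter H}
    (h : IsReal χ.1) : IsReal (cj H x χ).1 := fun _ => h _

omit [Finite Γ] in
theorem cj_oneIrr {H : Subgroup Γ} (x : normalizer (H : Set Γ)) : cj H x (oneIrr H) = oneIrr H :=
  rfl

theorem IsCorr.real_iff {P C G : Subgroup Γ} {h : C ≤ G} (H : IsCorr p P h) {χ : IrrCharacter G}
    {ξ : IrrCharacter C} (hχ : InvBy G P χ.1) (hξ : InvBy C P ξ.1) (a : ¬ p ∣ mult h χ ξ) :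
    IsReal χ.1 ↔ IsReal ξ.1 := by
  rw [← bar_eq_iff, ← bar_eq_iff]
  exact ⟨fun e => H.uniqR _ _ _ hχ (invBy_bar hξ) hξ (by rwa [← e, mult_bar]) a,
    fun e => H.uniqL _ _ _ (invBy_bar hχ) hχ hξ (by rwa [← e, mult_bar]) a⟩

theorem existsUnique_real_over' {N G : Subgroup Γ} (h : N ≤ G) (hn : G ≤ normalizer (N : Set Γ))
    (hodd : Odd (N.relIndex G)) {θ : IrrCharacter N} (hθ : IsReal θ.1) :
    ∃! χ : IrrCharacter G, mult h χ θ ≠ 0 ∧ IsReal χ.1 := by
  haveI : (N.subgroupOf G).Normal := (normal_subgroupOf_iff_le_normalizer h).2 hn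
  haveI := Fintype.ofFinite G
  haveI := Fintype.ofFinite N
  haveI := Fintype.ofFinite (N.subgroupOf G)
  have := H19.existsUnique_real_over (N.subgroupOf G) hodd (H24.isIrr_subgroupOf h θ.2)
    fun n => hθ _
  simp only [H24.inner_subgroupOf h, ← mult_ne_zero_iff h] at this
  exact this

theorem mult_eq_one_of_real {N G : Subgroup Γ} (h : N ≤ G) (hn : G ≤ normalizer (N : Set Γ))
    (hodd : Odd (N.relIndex G)) {θ : IrrCharacter N} (hθ : IsReal θ.1) {χ : IrrCharacter G}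
    (hχ : IsReal χ.1) (h0 : mult h χ θ ≠ 0) : mult h χ θ = 1 := by
  haveI : (N.subgroupOf G).Normal := (normal_subgroupOf_iff_le_normalizer h).2 hn
  haveI := Fintype.ofFinite G
  haveI := Fintype.ofFinite N
  haveI := Fintype.ofFinite (N.subgroupOf G)
  have := (H19.fs_eq_of_real_over (N.subgroupOf G) hodd (H24.isIrr_subgroupOf h θ.2)
    (fun n => hθ _) χ.2 (by rw [H24.inner_subgroupOf h]; exact (mult_ne_zero_iff h).1 h0) hχ).2
  rw [H24.inner_subgroupOf h] at this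
  exact mult_eq_of_inner h (by rw [this, Nat.cast_one])

theorem real_of_under {N G : Subgroup Γ} (h : N ≤ G) (hn : G ≤ normalizer (N : Set Γ))
    (hodd : Odd (N.relIndex G)) {θ : IrrCharacter N} {χ : IrrCharacter G}
    (hχ : IsReal χ.1) (h0 : mult h χ θ ≠ 0) : IsReal θ.1 := by
  have h1 : mult h χ (bar θ) ≠ 0 := by rwa [← bar_eq_iff.2 hχ, mult_bar]
  obtain ⟨g, hg⟩ := exists_cj_eq_of_mult_ne_zero h hn h0 h1
  have h2 : (g : Γ) ^ 2 ∈ invStab N θ.1 := ⟨pow_mem (hn g.2) 2,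
    (cj_eq_self_iff ⟨_, pow_mem (hn g.2) 2⟩ θ).1 (by
      rw [show (⟨(g : Γ) ^ 2, _⟩ : normalizer (N : Set Γ)) = ⟨g, hn g.2⟩ * ⟨g, hn g.2⟩ from
        Subtype.ext (sq _), cj_mul, hg, cj_bar, hg, bar_bar])⟩
  have h3 := mem_of_pow_mem_of_coprime h2 (le_invStab (H11.isClassFunction_of_irr θ.2)
    (pow_relIndex_mem' hn g.2)) (Nat.coprime_two_left.2 hodd)
  rw [← bar_eq_iff, ← hg]
  exact (cj_eq_self_iff _ θ).2 h3.2

theorem exists_inv_under_of_not_dvd (hp : p.Prime) {L K P G : Subgroup Γ} (h₁ : L ≤ K) (h₂ : K ≤ G)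
    (hLP : L ≤ P) (hPG : P ≤ G) (hL : G ≤ normalizer (L : Set Γ))
    (hK : G ≤ normalizer (K : Set Γ)) (hP : ∀ x ∈ P, ∃ k, x ^ p ^ k ∈ L) {χ : IrrCharacter G}
    (hχ : ¬ p ∣ charDegree χ.1) : ∃ θ : IrrCharacter K, InvBy K P θ.1 ∧ mult h₂ χ θ ≠ 0 := by
  obtain ⟨θ, a⟩ := exists_under h₂ χ
  obtain ⟨t, ht, h⟩ := exists_conj_mem_of_not_dvd hp (Q := invStab K θ.1) hPG
    (h₁.trans (le_invStab (H11.isClassFunction_of_irr θ.2))) hLP hL hP fun hd => hχ (by
      rw [deg_eq_clifford h₂ hK a]; exact (hd.mul_left _).mul_right _)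
  exact ⟨_, fun x hx => invEl_cj _ (hK (hPG hx)) (by simpa using (h x hx).2),
    (mult_cj_of_mem h₂ (inv_mem ht) (inv_mem (hK ht)) χ θ).trans_ne a⟩

theorem exists_cj_eq_of_inv (hp : p.Prime) {L K P G : Subgroup Γ} (h₂ : K ≤ G)
    (hLP : L ≤ P) (hPG : P ≤ G) (hL : G ≤ normalizer (L : Set Γ))
    (hK : G ≤ normalizer (K : Set Γ)) (hP : ∀ x ∈ P, ∃ k, x ^ p ^ k ∈ L)
    (hcop : ¬ p ∣ P.relIndex G) {χ : IrrCharacter G} {θ θ' : IrrCharacter K}
    (c : InvBy K P θ.1) (d : InvBy K P θ'.1) (a : mult h₂ χ θ ≠ 0) (b : mult h₂ χ θ' ≠ 0) :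
    ∃ (x : Γ) (hx : x ∈ G), x ∈ normalizer (P : Set Γ) ∧ cj K ⟨x, hK hx⟩ θ = θ' := by
  obtain ⟨g, rfl⟩ := exists_cj_eq_of_mult_ne_zero h₂ hK a b
  have hPT : P ≤ invStab K θ.1 ⊓ G := le_inf ((le_invStab_iff (hPG.trans hK)).2 c) hPG
  obtain ⟨t, ht, h⟩ := exists_mul_mem_normalizer hp (T := invStab K θ.1 ⊓ G) hLP
    (inf_le_right.trans hL) hP (not_dvd_relIndex hcop le_rfl hPT inf_le_right)
    (inv_mem (hL g.2)) fun x hx => by
      have h1 : (g : Γ)⁻¹ * x * (g : Γ)⁻¹⁻¹ ∈ G :=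
        mul_mem (mul_mem (inv_mem g.2) (hPG hx)) (inv_mem (inv_mem g.2))
      refine ⟨⟨hK h1, ?_⟩, h1⟩
      have h2 : InvEl K x (cj K ⟨g, hK g.2⟩ θ).1 := d x hx
      have := invEl_cj (⟨g, hK g.2⟩ : normalizer (K : Set Γ))⁻¹ (hK h1)
        (χ := cj K ⟨g, hK g.2⟩ θ) (by simpa [mul_assoc] using h2)
      rwa [cj_inv_cj] at this
  refine ⟨(t * (g : Γ)⁻¹)⁻¹, inv_mem (mul_mem (mem_inf.1 ht).2 (inv_mem g.2)), inv_mem h, ?_⟩
  rw [show (⟨(t * (g : Γ)⁻¹)⁻¹, _⟩ : normalizer (K : Set Γ)) =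
    ⟨g, hK g.2⟩ * ⟨t⁻¹, inv_mem (hK ht.2)⟩ from Subtype.ext (by simp), cj_mul,
    (cj_eq_self_iff _ θ).2 ht.1.2.inv]

omit [Finite Γ] in
theorem pmod_bot {P : Subgroup Γ} (hP : IsPGroup p P) : ∀ x ∈ P, ∃ k, x ^ p ^ k ∈ (⊥ : Subgroup Γ) :=
  fun x hx => (hP ⟨x, hx⟩).imp fun _ hk => mem_bot.2 (congrArg Subtype.val hk)

/-- A real character over a character conjugate to its complex conjugate. -/
theorem exists_real_over {M B : Subgroup Γ} [hM : M.Normal] (h : M ⊓ B = ⊥) {θ : IrrCharacter M}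
    {s : Γ} (hs : cj M ⟨s, le_normalizer' (mem_top s)⟩ θ = bar θ)
    (hodd : ∀ n, n * Nat.card M = B.index * charDegree θ.1 → Odd n) :
    ∃ χ : IrrCharacter Γ, IsReal χ.1 ∧ mult le_top (topIrr χ) θ ≠ 0 := by
  classical
  haveI := Fintype.ofFinite Γ
  haveI := Fintype.ofFinite M
  haveI := Fintype.ofFinite B
  haveI := Fintype.ofFinite (IrrCharacter Γ)
  let f := indFun B (oneIrr B).1
  let a : IrrCharacter Γ → ℕ := fun χ => mult le_top (topIrr χ) (oneIrr B)
  let b : IrrCharacter Γ → ℕ := fun χ => mult le_top (topIrr χ) θ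
  have h2 : ∀ χ : IrrCharacter Γ, classInner f χ.1 = a χ := fun χ => by
    rw [← H11.conj_classInner, H14.classInner_indFun_right _ _ (H11.isClassFunction_of_irr χ.2),
      mult_topIrr, map_natCast]
  have h3 : classInner (fun m : M => f m) θ.1 = (∑ χ, a χ * b χ : ℕ) := by
    have e : (fun m : M => f m) = ∑ χ : IrrCharacter Γ, (a χ : ℂ) • fun m : M => χ.1 m := by
      funext k
      refine (H11.classFun_apply_eq_sum (H14.indFun_isClassFunction B (oneIrr B).1) (k : Γ)).trans ?_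
      simp only [← h2, Finset.sum_apply, Pi.smul_apply, smul_eq_mul, f]
    rw [e, H11.classInner_sum_left, Nat.cast_sum]
    refine Finset.sum_congr rfl fun χ _ => ?_
    rw [H11.classInner_smul_left, mult_topIrr, Nat.cast_mul]
  have h4 := H11.card_mul_classInner (fun m : M => f m) θ.1
  rw [Finset.sum_eq_single (1 : M) (fun m _ hm => by
    rw [show f m = 0 from H14.indFun_eq_zero_of_not_conj _ _ _ fun x hx => hm ?_, zero_mul]
    have : x * m * x⁻¹ = 1 := mem_bot.1 (h.le ⟨hM.conj_mem _ m.2 x, hx⟩)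
    exact Subtype.ext (by simpa using this)) (by simp), show f (1 : M) = _ from H14.indFun_one _ _,
    H24.irr_deg θ.2, map_natCast, show (oneIrr B).1 1 = 1 from rfl, mul_one, h3] at h4
  have h5 := hodd (∑ χ, a χ * b χ) (by rw [mul_comm]; exact_mod_cast h4)
  by_contra hcon
  push Not at hcon
  have ha : ∀ χ, a (bar χ) = a χ := fun χ => by
    have := mult_bar le_top (topIrr χ) (oneIrr B)
    rwa [show bar (oneIrr B) = oneIrr B from bar_eq_iff.2 fun _ => Complex.one_im] at this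
  have hb : ∀ χ, b (bar χ) = b χ := fun χ => by
    have := mult_bar le_top (topIrr χ) (bar θ)
    rw [bar_bar, ← hs, mult_cj_of_mem le_top (mem_top s)] at this
    exact this
  have := Finset.sum_involution (s := Finset.univ) (f := fun χ => ((a χ * b χ : ℕ) : ZMod 2))
    (fun χ _ => bar χ) (fun χ _ => by rw [ha, hb]; exact CharTwo.add_self_eq_zero _)
    (fun χ _ h0 e => h0 (by rw [show b χ = 0 from hcon χ (bar_eq_iff.1 e)]; simp))
    (fun _ _ => Finset.mem_univ _) (fun χ _ => bar_bar χ)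
  rw [← Nat.cast_sum, ZMod.natCast_eq_zero_iff_even] at this
  exact Nat.not_even_iff_odd.2 h5 this

theorem exists_cj_eq_bar {M : Subgroup Γ} {t : Γ} (ht : t ∈ normalizer (M : Set Γ)) {m : Γ}
    (hm : m ∈ M) (h1 : m ≠ 1) (e : t * m * t⁻¹ = m⁻¹) :
    ∃ θ : IrrCharacter M, θ ≠ oneIrr M ∧ cj M ⟨t, ht⟩ θ = bar θ := by
  let α := cjAut M (⟨t, ht⟩ : normalizer (M : Set Γ))⁻¹
  have h2 := H11.brauer_permutation_lemma' (α.toEquiv.trans (Equiv.inv M)) (fun a b => by
    refine (H11.isConj_inv_inv_iff _ _).trans ⟨fun h => ?_, fun h => α.toMonoidHom.map_isConj h⟩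
    simpa using α.symm.toMonoidHom.map_isConj h)
    fun χ hχ => H11.isIrrCharacter_comp_mulEquiv (H11.isIrrCharacter_comp_inv hχ) α
  by_contra hcon
  push Not at hcon
  haveI : Subsingleton {χ : IrrCharacter M // ∀ g, χ.1 ((α.toEquiv.trans (Equiv.inv M)) g) =
      χ.1 g} := by
    have : ∀ χ : {χ : IrrCharacter M // ∀ g, χ.1 ((α.toEquiv.trans (Equiv.inv M)) g) = χ.1 g},
        χ.1 = oneIrr M := fun χ => by
      by_contra h0
      refine hcon _ h0 (Subtype.ext (funext fun g => ?_))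
      rw [bar_apply, ← χ.2 g, H11.conj_apply (H11.irr_isCharacter _)]
      exact congrArg χ.1.1 (inv_inv _).symm
    exact ⟨fun a b => Subtype.ext ((this a).trans (this b).symm)⟩
  have h3 := Finite.card_le_one_iff_subsingleton.2 this
  haveI : Finite (ConjClasses M) := Quotient.finite _
  rw [h2, Finite.card_le_one_iff_subsingleton] at h3
  have key : ∀ x : M, (α x)⁻¹ = x → ∀ g, ConjClasses.mk g = ConjClasses.mk x →
      IsConj g ((α.toEquiv.trans (Equiv.inv M)) g) := fun x hx g hg => by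
    rw [ConjClasses.mk_eq_mk_iff_isConj] at hg
    refine hg.trans ?_
    rw [← hx]
    exact (H11.isConj_inv_inv_iff _ _).2 (α.toMonoidHom.map_isConj (hx.symm ▸ hg.symm))
  have h4 := congrArg Subtype.val (h3.elim ⟨_, key 1 (by simp)⟩ ⟨_, key ⟨m, hm⟩ (Subtype.ext (by
    change (t⁻¹ * m * t⁻¹⁻¹)⁻¹ = m
    calc (t⁻¹ * m * t⁻¹⁻¹)⁻¹ = t⁻¹ * m⁻¹ * t := by group
      _ = m := by rw [← e]; group))⟩)
  exact h1 (congrArg Subtype.val (isConj_one_right.1 (ConjClasses.mk_eq_mk_iff_isConj.1 h4)))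

omit [Finite Γ] in
theorem exists_inverted {M : Subgroup Γ} {t : Γ} (ht : t ∈ normalizer (M : Set Γ)) {k : ℕ}
    (hk : t ^ 2 ^ k = 1) (hc : t ∉ centralizer (M : Set Γ)) :
    ∃ j : ℕ, ∃ m ∈ M, m ≠ 1 ∧ t ^ j * m * (t ^ j)⁻¹ = m⁻¹ := by
  classical
  have hex : ∃ i, t ^ 2 ^ i ∈ centralizer (M : Set Γ) := ⟨k, hk ▸ one_mem _⟩
  obtain ⟨i, hi⟩ := Nat.exists_eq_succ_of_ne_zero (n := Nat.find hex) fun h0 => hc (by
    have := Nat.find_spec hex
    rwa [h0, pow_zero, pow_one] at this)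
  have h1 := Nat.find_spec hex
  have h2 := Nat.find_min hex (m := i) (by omega)
  rw [hi, pow_succ, pow_mul] at h1
  obtain ⟨x, hx, hne⟩ : ∃ x ∈ M, x * t ^ 2 ^ i ≠ t ^ 2 ^ i * x := by
    by_contra h; push Not at h; exact h2 h
  refine ⟨2 ^ i, x⁻¹ * (t ^ 2 ^ i * x * (t ^ 2 ^ i)⁻¹),
    mul_mem (inv_mem hx) (H4.conj_mem_of_mem_normalizer (pow_mem ht _) hx), fun e => hne ?_, ?_⟩
  · rw [inv_mul_eq_one, eq_mul_inv_iff_mul_eq] at e
    exact e
  · have h3 : x * (t ^ 2 ^ i) ^ 2 = (t ^ 2 ^ i) ^ 2 * x := h1 x hx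
    generalize t ^ 2 ^ i = u at h3
    calc u * (x⁻¹ * (u * x * u⁻¹)) * u⁻¹ = u * x⁻¹ * u⁻¹ * (u ^ 2 * x) * u⁻¹ * u⁻¹ := by group
      _ = (x⁻¹ * (u * x * u⁻¹))⁻¹ := by rw [← h3]; group

end Ambient

section Gen

variable {G : Type*} [Group G]

/-- The subgroup generated by the `p`-elements. -/
def pGen (p : ℕ) (G : Type*) [Group G] : Subgroup G := closure {g : G | ∃ k : ℕ, orderOf g = p ^ k}

instance pGen_normal (p : ℕ) : (pGen p G).Normal := ⟨fun n hn g => by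
  refine closure_induction (p := fun n _ => g * n * g⁻¹ ∈ pGen p G) ?_ ?_ ?_ ?_ hn
  · rintro x ⟨k, hk⟩
    exact subset_closure ⟨k, by rw [← hk]; exact (MulAut.conj g).orderOf_eq x⟩
  · simp
  · intro x y _ _ hx hy
    simpa [mul_assoc] using mul_mem hx hy
  · intro x _ hx
    simpa [mul_assoc] using inv_mem hx⟩

theorem le_pGen {p : ℕ} [Fact p.Prime] {P : Subgroup G} (hP : IsPGroup p P) : P ≤ pGen p G :=
  fun x hx => by
    obtain ⟨k, hk⟩ := IsPGroup.iff_orderOf.1 hP ⟨x, hx⟩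
    exact subset_closure ⟨k, by rw [← hk]; exact orderOf_mk x hx ▸ rfl⟩

theorem not_dvd_index_pGen [Finite G] (p : ℕ) [Fact p.Prime] : ¬ p ∣ (pGen p G).index := by
  obtain ⟨P⟩ : Nonempty (Sylow p G) := inferInstance
  exact fun h => P.not_dvd_index (h.trans (index_dvd_of_le (le_pGen P.2)))

theorem odd_index_pGen [Finite G] : Odd (pGen 2 G).index :=
  Nat.not_even_iff_odd.1 fun h => not_dvd_index_pGen 2 h.two_dvd

theorem map_pGen_le {H : Type*} [Group H] {p : ℕ} (hp : p.Prime) (f : G →* H) :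
    (pGen p G).map f ≤ pGen p H := by
  rw [pGen, MonoidHom.map_closure, closure_le]
  rintro _ ⟨x, ⟨k, hk⟩, rfl⟩
  obtain ⟨i, -, hi⟩ := (Nat.dvd_prime_pow hp).1 (hk ▸ orderOf_map_dvd f x)
  exact subset_closure ⟨i, hi⟩

theorem pGen_le_map_subtype {p : ℕ} {U : Subgroup G} (h : pGen p G ≤ U) :
    pGen p G ≤ (pGen p U).map U.subtype := by
  refine (closure_le _).2 fun x hx => ⟨⟨x, h (subset_closure hx)⟩, subset_closure ?_, rfl⟩
  obtain ⟨k, hk⟩ := hx
  exact ⟨k, by rw [← hk, orderOf_mk]⟩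

theorem real_deg_of_odd_index [Finite G] {p : ℕ} (U : Subgroup G) [U.Normal] (hU : Odd U.index)
    (hreal : ∀ χ : IrrCharacter G, IsReal χ.1 → ¬ p ∣ charDegree χ.1) :
    ∀ θ : IrrCharacter U, IsReal θ.1 → ¬ p ∣ charDegree θ.1 := fun θ hθ hd => by
  obtain ⟨χ, ⟨a, b⟩, -⟩ := existsUnique_real_over' le_top le_normalizer'
    (by rwa [relIndex_top_right]) hθ
  exact hreal (topIrr.symm χ) (fun g => b _)
    (hd.trans (deg_dvd_of_mult_ne_zero le_top le_normalizer' a))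

theorem real_deg_of_surjective {p : ℕ} {H : Type*} [Group H] (f : G →* H)
    (hf : Function.Surjective f)
    (hreal : ∀ χ : IrrCharacter G, IsReal χ.1 → ¬ p ∣ charDegree χ.1) :
    ∀ θ : IrrCharacter H, IsReal θ.1 → ¬ p ∣ charDegree θ.1 := fun θ hθ hd =>
  hreal ⟨_, H11.isIrrCharacter_comp_of_surjective θ.2 f hf⟩ (fun _ => hθ _)
    (hd.trans (H24.deg_congr (χ := θ.1) (ψ := fun h => θ.1 (f h))
      (congrArg θ.1 (map_one f).symm)).dvd)

/-- The main normality theorem. -/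
theorem normal_sylow_of_real (p : ℕ) [hp : Fact p.Prime] (G : Type*) [Group G] [Finite G] :
    ∀ (P : Sylow p G) (L : Subgroup G), L.Normal → Group.IsSolvable L → (P : Subgroup G) ≤ L →
      (∀ χ : IrrCharacter G, IsReal χ.1 → ¬ p ∣ charDegree χ.1) →
      (∀ g : G, ∃ k, g ^ p ^ k ∈ pGen 2 G) → (P : Subgroup G).Normal := by
  refine H1.card_induction (P := fun G _ _ => ∀ (P : Sylow p G) (L : Subgroup G), L.Normal →
    Group.IsSolvable L → (P : Subgroup G) ≤ L →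
      (∀ χ : IrrCharacter G, IsReal χ.1 → ¬ p ∣ charDegree χ.1) →
      (∀ g : G, ∃ k, g ^ p ^ k ∈ pGen 2 G) → (P : Subgroup G).Normal) (fun G _ _ ih => ?_) G
  intro P L hL hs hPL hreal hK
  by_cases hL0 : L = ⊥
  · rw [hL0, le_bot_iff] at hPL
    rw [hPL]; infer_instance
  obtain ⟨M, hM, hM0, hML, hmin⟩ := H2.exists_minimal_normal_le L hL0
  obtain ⟨hab, q, hq, hMq⟩ := H2.minimal_normal_solvable M hM0 (H2.isSolvable_of_le hML hs) hmin
  haveI := Fact.mk hq
  have hsurj := QuotientGroup.mk'_surjective M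
  have h1 := ih (G ⧸ M) (H2.card_quotient_lt_of_ne_bot hM0) (P.mapSurjective hsurj)
    (L.map (QuotientGroup.mk' M)) (hL.map _ hsurj) (H2.isSolvable_map _ hs) (map_mono hPL)
    (real_deg_of_surjective _ hsurj hreal) fun g => by
      obtain ⟨g, rfl⟩ := hsurj g
      obtain ⟨k, hk⟩ := hK g
      exact ⟨k, map_pGen_le Nat.prime_two _ ⟨_, hk, map_pow _ _ _⟩⟩
  haveI h2 : ((P : Subgroup G) ⊔ M).Normal := by
    have := h1.comap (QuotientGroup.mk' M)
    rwa [Sylow.coe_mapSurjective, comap_map_eq, QuotientGroup.ker_mk'] at this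
  have h3 : normalizer ((P : Subgroup G) : Set G) ⊔ M = ⊤ := by
    have := P.normalizer_sup_eq_top' (N := (P : Subgroup G) ⊔ M) le_sup_left
    exact eq_top_iff.2 (this.ge.trans
      (sup_le le_sup_left (sup_le (le_normalizer.trans le_sup_left) le_sup_right)))
  by_contra hn
  have hMN : ¬ M ≤ normalizer ((P : Subgroup G) : Set G) := fun h =>
    hn (normalizer_eq_top_iff.1 (by rwa [sup_eq_left.2 h] at h3))
  have hpq : q ≠ p := by
    rintro rfl
    exact hMN ((hMq.le_sylow_of_normal P).trans le_normalizer)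
  have hMP : Disjoint M (P : Subgroup G) := IsPGroup.disjoint_of_ne q p hpq _ _ hMq P.2
  have hC : M ⊓ centralizer ((P : Subgroup G) : Set G) = ⊥ := by
    refine (hmin _ (normalizer_eq_top_iff.1 (eq_top_iff.2 (h3.ge.trans (sup_le ?_ ?_))))
      inf_le_left).resolve_right fun e => hMN ?_
    · exact H4.le_normalizer_inf le_normalizer' (H4.le_normalizer_centralizer le_rfl)
    · refine le_normalizer_of_conj_mem fun s hs g hg => ?_
      rwa [show s * g = g * s from congrArg Subtype.val (hab.is_comm.comm ⟨s, hs⟩ ⟨g, hg.1⟩),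
        mul_inv_cancel_right]
    · exact (e.ge.trans inf_le_right).trans (centralizer_le_normalizer _)
  have hMH : M ⊓ normalizer ((P : Subgroup G) : Set G) = ⊥ := by
    refine eq_bot_iff.2 fun m hm => hC.le ⟨hm.1, fun x hx => ?_⟩
    have hx' : x ∈ (P : Subgroup G) := hx
    have : x * m * x⁻¹ * m⁻¹ = 1 := mem_bot.1 (hMP.le_bot (mem_inf.2 ⟨mul_mem (hM.conj_mem _ hm.1 x)
      (inv_mem (mem_inf.1 hm).1), by
        have := mul_mem hx' (H4.conj_mem_of_mem_normalizer hm.2 (inv_mem hx'))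
        rwa [← mul_assoc, ← mul_assoc] at this⟩))
    rwa [mul_inv_eq_one, mul_inv_eq_iff_eq_mul] at this
  have hidx : (normalizer ((P : Subgroup G) : Set G)).index = Nat.card M :=
    (isComplement'_of_disjoint_and_mul_eq_univ (disjoint_iff.2 hMH) (by
      rw [← normal_mul, sup_comm, h3, coe_top])).index_eq_card
  have hcop : (Nat.card (P : Subgroup G)).Coprime (Nat.card M) :=
    IsPGroup.coprime_card_of_ne p q hpq.symm _ _ P.2 hMq
  have key : ∀ t : G, ∀ m ∈ M, m ≠ 1 → t * m * t⁻¹ ≠ m⁻¹ := fun t m hm hm1 e => by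
    have habM : ∀ a b : M, a * b = b * a := hab.is_comm.comm
    obtain ⟨θ, hθ, hc⟩ := exists_cj_eq_bar (le_normalizer' (mem_top t)) hm hm1 e
    obtain ⟨χ, hχ, h0⟩ := exists_real_over hMH hc fun n hn => by
      rw [hidx, H24.deg_eq (n := 1) (by rw [H11.irr_apply_one_of_comm habM θ.2, Nat.cast_one]),
        mul_one, mul_eq_right₀ Nat.card_pos.ne'] at hn
      rw [hn]; exact odd_one
    obtain ⟨η, a, b⟩ := exists_inv_under_of_not_dvd hp.out (L := ⊥) (K := M)
      (P := (P : Subgroup G)) bot_le le_top bot_le le_top le_normalizer' le_normalizer'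
      (pmod_bot P.2) (χ := topIrr χ) (hreal χ hχ)
    obtain ⟨g, rfl⟩ := exists_cj_eq_of_mult_ne_zero le_top le_normalizer' b h0
    refine hθ ?_
    suffices η = oneIrr M by rw [this, cj_oneIrr]
    obtain ⟨lam, hl⟩ := H11.exists_monoidHom_of_apply_one_eq_one (H11.irr_isCharacter η)
      (H11.irr_apply_one_of_comm habM η.2)
    have h4 := H4.commutator_sup_centralizer (A := (P : Subgroup G)) (K := M) le_normalizer' hcop
      (Or.inr (H2.isSolvable_of_le hML hs))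
    rw [hC, sup_bot_eq] at h4
    have h5 : M ≤ lam.ker.map M.subtype := h4.ge.trans (commutator_le.2 fun y hy x hx =>
      ⟨⟨y, hy⟩ * ⟨_, hM.conj_mem _ hy x⟩⁻¹, by
        change lam _ = 1
        rw [map_mul, map_inv, mul_inv_eq_one]
        have := a x hx ⟨y, hy⟩ ⟨_, hM.conj_mem _ hy x⟩ rfl
        rw [hl] at this
        exact Units.ext this.symm, by simp [commutatorElement_def, mul_assoc]⟩)
    refine Subtype.ext (funext fun y => ?_)
    obtain ⟨z, hz, e⟩ := h5 y.2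
    rw [hl, ← show z = y from Subtype.ext e]
    exact congrArg Units.val hz
  have hq2 : q ≠ 2 := by
    rintro rfl
    obtain ⟨n, hn0, hn⟩ := hMq.nontrivial_iff_card.1 ((nontrivial_iff_ne_bot M).2 hM0)
    obtain ⟨m, hm⟩ := exists_prime_orderOf_dvd_card' (G := M) 2 (hn ▸ dvd_pow_self 2 hn0.ne')
    refine key 1 m m.2 (fun e => ?_) ?_
    · rw [show m = 1 from Subtype.ext e, orderOf_one] at hm; omega
    · have := congrArg Subtype.val (pow_orderOf_eq_one m)
      rw [hm, sq] at this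
      simpa using eq_inv_of_mul_eq_one_left this
  have hKC : pGen 2 G ≤ centralizer (M : Set G) := (closure_le _).2 fun t ⟨k, hk⟩ => by
    by_contra hc
    obtain ⟨j, m, hm, hm1, e⟩ := exists_inverted (le_normalizer' (mem_top t))
      (hk ▸ pow_orderOf_eq_one t) hc
    exact key _ m hm hm1 e
  have hMK : M ≤ pGen 2 G := fun m hm => by
    obtain ⟨k, hk⟩ := hK m
    obtain ⟨j, hj⟩ := pmod_bot hMq m hm
    exact mem_of_pow_mem_of_coprime hk (bot_le (a := pGen 2 G) hj)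
      (Nat.coprime_pow_primes _ _ hp.out hq hpq.symm)
  refine hMN (hMK.trans ((closure_le _).2 fun t ⟨k, hk⟩ => ?_))
  have ht : t ∈ pGen 2 G := subset_closure ⟨k, hk⟩
  obtain ⟨m, hm, x, hx, rfl⟩ := (H4.mem_sup_iff_of_le_normalizer le_normalizer').1
    ((sup_comm _ M ▸ h3).ge (mem_top t))
  have hc : Commute m x := hKC ((mul_mem_cancel_left (hMK hm)).1 ht) m hm
  have h4 : m ^ 2 ^ k * x ^ 2 ^ k = 1 := by rw [← hc.mul_pow, ← hk, pow_orderOf_eq_one]
  have h5 : m ^ 2 ^ k ∈ (⊥ : Subgroup G) := hMH.le (mem_inf.2 ⟨pow_mem hm _, by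
    rw [eq_inv_of_mul_eq_one_left h4]; exact inv_mem (pow_mem hx _)⟩)
  obtain ⟨j, hj⟩ := pmod_bot hMq m hm
  rw [mem_bot.1 (mem_of_pow_mem_of_coprime h5 hj
    (Nat.coprime_pow_primes _ _ Nat.prime_two hq hq2.symm)), one_mul]
  exact hx

theorem normal_sylow_of_real' [Finite G] (p : ℕ) [hp : Fact p.Prime]
    (hs : Group.IsSolvable (pGen p G))
    (hreal : ∀ χ : IrrCharacter G, IsReal χ.1 → ¬ p ∣ charDegree χ.1) (U : Subgroup G) [U.Normal]
    (hKU : pGen 2 G ≤ U) (h : ∀ g ∈ U, ∃ k, g ^ p ^ k ∈ pGen 2 G) (Q : Sylow p U) :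
    (Q : Subgroup U).Normal := by
  refine normal_sylow_of_real p U Q ((pGen p G).subgroupOf U) inferInstance
    (H2.isSolvable_subgroupOf _ hs) (fun x hx => ?_) (real_deg_of_odd_index U
      (odd_index_pGen.of_dvd_nat (index_dvd_of_le hKU)) hreal) fun g => ?_
  · exact map_pGen_le hp.out U.subtype ⟨x, le_pGen Q.2 hx, rfl⟩
  · obtain ⟨k, hk⟩ := h g g.2
    obtain ⟨y, hy, e⟩ := pGen_le_map_subtype hKU hk
    exact ⟨k, by rwa [← show y = g ^ p ^ k from Subtype.ext e]⟩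

end Gen

end Cfsg.Agent.H23
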