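import Mathlib
import Cfsg.Agent.H23.Real
import Cfsg.Agent.S0165

/-!
# Symplectic characters have even multiplicity in permutation characters
-/

set_option autoImplicit false

namespace Cfsg.Agent.H23

open Cfsg Subgroup Module Matrix
open scoped ComplexConjugate

theorem even_finrank_of_skew {V : Type*} [AddCommGroup V] [Module ℂ V] [FiniteDimensional ℂ V]
    (β : LinearMap.BilinForm ℂ V) (hs : ∀ x y, β x y = -β y x)
    (hn : ∀ x, (∀ y, β x y = 0) → x = 0) : Even (finrank ℂ V) := by
  let b := Module.finBasis ℂ V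
  have h1 : β.Nondegenerate := ⟨hn, fun x hx => hn x fun y => by rw [hs, hx, neg_zero]⟩
  rw [LinearMap.BilinForm.nondegenerate_iff_det_ne_zero b] at h1
  have h2 : (LinearMap.BilinForm.toMatrix b β)ᵀ = -LinearMap.BilinForm.toMatrix b β := by
    ext i j
    simp only [transpose_apply, Matrix.neg_apply, LinearMap.BilinForm.toMatrix_apply]
    exact hs _ _
  have h3 := congrArg Matrix.det h2
  rw [det_transpose, det_neg, Fintype.card_fin] at h3
  by_contra h
  rw [(Nat.not_even_iff_odd.1 h).neg_one_pow] at h3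
  exact h1 (by linear_combination (1 / 2 : ℂ) * h3)

theorem even_of_trace_idem {n : ℕ} {B E : Matrix (Fin n) (Fin n) ℂ} (hB : Bᵀ = -B)
    (hd : B.det ≠ 0) (hE : E * E = E) (hEB : E * B = B * Eᵀ) {m : ℕ} (hm : E.trace = m) :
    Even m := by
  let f : (Fin n → ℂ) →ₗ[ℂ] (Fin n → ℂ) := Matrix.toLin' Eᵀ
  have hf : IsIdempotentElem f := by
    change f * f = f
    rw [Module.End.mul_eq_comp, ← Matrix.toLin'_mul, ← transpose_mul, hE]
  have h1 := (LinearMap.IsIdempotentElem.isProj_range f hf).trace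
  rw [Matrix.trace_toLin'_eq, trace_transpose, hm] at h1
  rw [show m = finrank ℂ (LinearMap.range f) by exact_mod_cast h1]
  let β := Matrix.toBilin' B
  have h2 : ∀ x y, β (f x) y = β x (f y) := fun x y => by
    simp only [β, f, Matrix.toBilin'_apply', Matrix.toLin'_apply]
    rw [Matrix.mulVec_transpose, ← Matrix.dotProduct_mulVec, mulVec_mulVec, mulVec_mulVec, hEB]
  refine even_finrank_of_skew (β.restrict _) (fun x y => ?_) fun x hx => ?_
  · simp only [LinearMap.BilinForm.restrict_apply, LinearMap.domRestrict_apply, β,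
      Matrix.toBilin'_apply']
    rw [Matrix.dotProduct_mulVec, ← Matrix.mulVec_transpose, hB, neg_mulVec, neg_dotProduct,
      dotProduct_comm]
  · obtain ⟨_, x, rfl⟩ := x
    refine Subtype.ext (((LinearMap.BilinForm.nondegenerate_toBilin'_iff_det_ne_zero).2 hd).1 _
      fun y => ?_)
    have := hx ⟨f y, y, rfl⟩
    simp only [LinearMap.BilinForm.restrict_apply, LinearMap.domRestrict_apply] at this
    rw [← h2, ← Module.End.mul_apply, hf] at this
    exact this

variable {Γ : Type*} [Group Γ] [Finite Γ]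

theorem even_mult_of_fs_neg [Fintype Γ] {χ : IrrCharacter Γ} (h : H19.fs χ.1 = -1)
    (S : Subgroup Γ) : Even (mult le_top (topIrr χ) (oneIrr S)) := by
  classical
  haveI := Fintype.ofFinite S
  have hreal := H19.real_of_fs_ne_zero χ.2 (by rw [h]; simp)
  have hm := mult_topIrr χ (oneIrr S)
  obtain ⟨_, n, ρ, hρ, rfl⟩ := χ
  obtain ⟨B, hB0, hB⟩ := H19.exists_invariant_form ρ hρ hreal
  have h1 := H19.transpose_eq_fs_smul ρ hρ B hB
  rw [h, neg_one_smul] at h1
  have hS : (Nat.card S : ℂ) ≠ 0 := H11.card_ne_zero S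
  let R := H19.repMat ρ
  refine even_of_trace_idem (E := (Nat.card S : ℂ)⁻¹ • ∑ s : S, R s) h1
    (H15.det_ne_zero_of_invariant ρ hρ B hB hB0) ?_ ?_ ?_
  · have : ∀ t : S, R t * ∑ s : S, R s = ∑ s : S, R s := fun t => by
      rw [Finset.mul_sum]
      exact Fintype.sum_equiv (Equiv.mulLeft t) _ _ fun s => by simp
    rw [smul_mul_smul_comm, Finset.sum_mul]
    simp only [this, Finset.sum_const, Finset.card_univ, ← Nat.card_eq_fintype_card,
      ← Nat.cast_smul_eq_nsmul ℂ, smul_smul]
    rw [inv_mul_cancel_right₀ hS]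
  · rw [transpose_smul, smul_mul_assoc, mul_smul_comm, transpose_sum, Finset.sum_mul,
      Finset.mul_sum]
    congr 1
    refine Fintype.sum_equiv (Equiv.inv S) _ _ fun s => ?_
    have e : R s * B * (R s)ᵀ = B := hB s
    calc R s * B = R s * B * ((R s)ᵀ * (R (s⁻¹ : S))ᵀ) := by
          rw [← transpose_mul, ← map_mul]; simp
      _ = _ := by rw [← mul_assoc, e]; rfl
  · rw [← hm, trace_smul, trace_sum, H11.classInner_def]
    simp [R, oneIrr, H19.repMat_apply, H15.character_eq_trace_toMatrix']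

theorem vanish_of_defect_zero' {A : Type*} [Group A] [Finite A] {p : ℕ} (hp : p.Prime)
    {φ : IrrCharacter A} (hdvd : p ^ (Nat.card A).factorization p ∣ charDegree φ.1) {g : A}
    (hg : p ∣ orderOf g) : φ.1 g = 0 := by
  have hd := H24.irr_deg φ.2
  obtain ⟨_, n, ρ, hρ, rfl⟩ := φ
  have h0 : Nat.card A ≠ 0 := Nat.card_pos.ne'
  refine S0165.result ρ p _ hp (Nat.ordProj_dvd _ p)
    (Nat.pow_succ_factorization_not_dvd h0 hp) ?_ g hg
  change ρ.character 1 = charDegree ρ.character at hd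
  rw [ρ.char_one] at hd
  have : Module.finrank ℂ (Fin n → ℂ) = charDegree ρ.character := by exact_mod_cast hd
  rwa [this]

/-- Real constituent with odd multiplicities. -/
theorem exists_real_odd {M B : Subgroup Γ} [hM : M.Normal] (hA : M ⊔ B = ⊤) {θ : IrrCharacter M}
    {s : Γ} (hs : cj M ⟨s, le_normalizer' (mem_top s)⟩ θ = bar θ)
    (hodd : Odd (mult (inf_le_left : M ⊓ B ≤ M) θ (oneIrr _))) :
    ∃ χ : IrrCharacter Γ, IsReal χ.1 ∧ Odd (mult le_top (topIrr χ) θ) ∧
      Odd (mult le_top (topIrr χ) (oneIrr B)) := by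
  classical
  haveI := Fintype.ofFinite (IrrCharacter (⊤ : Subgroup Γ))
  haveI := Fintype.ofFinite (IrrCharacter (M ⊓ B : Subgroup Γ))
  have h1 := mackey_mult (K := M ⊓ B) (A := ⊤) le_top le_top inf_le_left inf_le_right le_rfl
    (fun a _ => by
      have : a ∈ ((M ⊔ B : Subgroup Γ) : Set Γ) := by rw [hA]; trivial
      rw [normal_mul] at this
      obtain ⟨m, hm, b, hb, rfl⟩ := this
      exact ⟨m, hm, b, hb, rfl⟩) (oneIrr B) θ
  rw [show ∑ θ' : IrrCharacter (M ⊓ B : Subgroup Γ), mult inf_le_right (oneIrr B) θ' *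
      mult inf_le_left θ θ' = mult inf_le_left θ (oneIrr _) by
    simp only [mul_comm (mult inf_le_right (oneIrr B) _)]
    exact sum_mult_mul_of_res_eq inf_le_right inf_le_left θ fun _ => rfl] at h1
  rw [← h1] at hodd
  by_contra hcon
  push Not at hcon
  have ha : ∀ χ, mult (le_top : B ≤ ⊤) (bar χ) (oneIrr B) = mult le_top χ (oneIrr B) := fun χ => by
    have := mult_bar le_top χ (oneIrr B)
    rwa [show bar (oneIrr B) = oneIrr B from bar_eq_iff.2 fun _ => Complex.one_im] at this
  have hb : ∀ χ, mult (le_top : M ≤ ⊤) (bar χ) θ = mult le_top χ θ := fun χ => by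
    have := mult_bar le_top χ (bar θ)
    rw [bar_bar, ← hs, mult_cj_of_mem le_top (mem_top s)] at this
    exact this
  have := Finset.sum_involution (s := Finset.univ)
    (f := fun χ => ((mult (le_top : B ≤ ⊤) χ (oneIrr B) * mult (le_top : M ≤ ⊤) χ θ : ℕ) : ZMod 2))
    (fun χ _ => bar χ) (fun χ _ => by rw [ha, hb]; exact CharTwo.add_self_eq_zero _)
    (fun χ _ h0 e => h0 (by
      obtain ⟨χ, rfl⟩ := topIrr.surjective χ
      rw [ZMod.natCast_eq_zero_iff_even, ← Nat.not_odd_iff_even, Nat.odd_mul]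
      exact fun h => hcon χ (fun g => bar_eq_iff.1 e ⟨g, trivial⟩) h.2 h.1))
    (fun _ _ => Finset.mem_univ _) (fun χ _ => bar_bar χ)
  rw [← Nat.cast_sum, ZMod.natCast_eq_zero_iff_even] at this
  exact Nat.not_even_iff_odd.2 hodd this

end Cfsg.Agent.H23
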