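import Cfsg.Agent.H71.FSDefs
import Cfsg.Agent.H11.PermChar

/-! # The twisted Frobenius-Schur indicator -/

set_option autoImplicit false

namespace Cfsg.Agent.H23.FT

open Cfsg Subgroup Module Matrix H19 H71.FS2
open scoped ComplexConjugate

theorem even_of_idem {n : ℕ} {B E : Matrix (Fin n) (Fin n) ℂ} (hB : (E * B)ᵀ = -(E * B))
    (hd : B.det ≠ 0) (hE : E * E = E) (hEB : E * B = B * Eᵀ) {m : ℕ} (hm : E.trace = m) :
    Even m := by
  let f : (Fin n → ℂ) →ₗ[ℂ] (Fin n → ℂ) := Matrix.toLin' Eᵀ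
  have hf : IsIdempotentElem f := by
    change f * f = f
    rw [Module.End.mul_eq_comp, ← Matrix.toLin'_mul, ← transpose_mul, hE]
  have h1 := (LinearMap.IsIdempotentElem.isProj_range f hf).trace
  rw [Matrix.trace_toLin'_eq, trace_transpose, hm] at h1
  rw [show m = finrank ℂ (LinearMap.range f) by exact_mod_cast h1]
  let β := Matrix.toBilin' (E * B)
  have h2 : ∀ x y, β x (f y) = β x y := fun x y => by
    simp only [β, f, Matrix.toBilin'_apply', Matrix.toLin'_apply]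
    rw [mulVec_mulVec, mul_assoc, ← hEB, ← mul_assoc, hE]
  have h3 : ∀ x y, β x y = Matrix.toBilin' B (f x) y := fun x y => by
    simp only [β, f, Matrix.toBilin'_apply', Matrix.toLin'_apply]
    rw [Matrix.mulVec_transpose, ← Matrix.dotProduct_mulVec, mulVec_mulVec]
  refine even_finrank_of_skew (β.restrict _) (fun x y => ?_) fun x hx => ?_
  · simp only [LinearMap.BilinForm.restrict_apply, LinearMap.domRestrict_apply, β,
      Matrix.toBilin'_apply']
    rw [Matrix.dotProduct_mulVec, ← Matrix.mulVec_transpose, hB, neg_mulVec, neg_dotProduct,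
      dotProduct_comm]
  · obtain ⟨_, x, rfl⟩ := x
    refine Subtype.ext (((LinearMap.BilinForm.nondegenerate_toBilin'_iff_det_ne_zero).2 hd).1 _
      fun y => ?_)
    have := hx ⟨f y, y, rfl⟩
    simp only [LinearMap.BilinForm.restrict_apply, LinearMap.domRestrict_apply] at this
    rw [h2, h3, ← Module.End.mul_apply, hf] at this
    exact this

/-- An automorphism whose square is inner. -/
structure Tw (H : Type*) [Group H] where
  s : H ≃* H
  c : H
  ss : ∀ g, s (s g) = c⁻¹ * g * c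
  sc : s c = c

namespace Tw

variable {H L : Type*} [Group H] [Group L] (T : Tw H)

/-- the product -/
def prod (U : Tw L) : Tw (H × L) :=
  ⟨T.s.prodCongr U.s, (T.c, U.c), fun g => Prod.ext (T.ss g.1) (U.ss g.2), Prod.ext T.sc U.sc⟩

/-- self-conjugacy -/
def S (ψ : H → ℂ) : Prop := ∀ g, ψ (T.s g) = ψ g⁻¹

/-- the action on forms -/
noncomputable def rep {n : ℕ} (ρ : Representation ℂ H (Fin n → ℂ)) :
    Representation ℂ H (Matrix (Fin n) (Fin n) ℂ) where
  toFun g :=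
    { toFun := fun B => repMat ρ g * B * (repMat ρ (T.s g))ᵀ
      map_add' := fun B C => by simp [Matrix.mul_add, Matrix.add_mul]
      map_smul' := fun c B => by simp }
  map_one' := by ext1 B; simp
  map_mul' g h := by ext1 B; simp [Matrix.mul_assoc]

theorem rep_apply {n : ℕ} (ρ : Representation ℂ H (Fin n → ℂ)) (g : H)
    (B : Matrix (Fin n) (Fin n) ℂ) : T.rep ρ g B = repMat ρ g * B * (repMat ρ (T.s g))ᵀ := rfl

theorem tr {n : ℕ} (ρ : Representation ℂ H (Fin n → ℂ)) (g : H) :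
    ρ.character g = (repMat ρ g).trace := H15.character_eq_trace_toMatrix' ρ g

theorem mul_inv {n : ℕ} {ρ : Representation ℂ H (Fin n → ℂ)} {B : Matrix (Fin n) (Fin n) ℂ} {g : H}
    (h : T.rep ρ g B = B) : repMat ρ g * B = B * (repMat ρ (T.s g)⁻¹)ᵀ := by
  conv_rhs => rw [← h, rep_apply, mul_assoc, ← transpose_mul, ← map_mul, inv_mul_cancel, map_one,
    transpose_one, mul_one]

theorem det_ne {n : ℕ} {ρ : Representation ℂ H (Fin n → ℂ)} (hρ : ρ.IsIrreducible)
    {B : Matrix (Fin n) (Fin n) ℂ} (hB : ∀ g, T.rep ρ g B = B) (h0 : B ≠ 0) : B.det ≠ 0 := by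
  rcases ((H11.isIrreducible_iff ρ).1 hρ).2 (LinearMap.range (Matrix.toLin' B)) (by
    rintro g v ⟨w, rfl⟩
    refine ⟨Matrix.toLin' (repMat ρ (T.s g)⁻¹)ᵀ w, ?_⟩
    rw [← LinearMap.comp_apply, ← Matrix.toLin'_mul, ← T.mul_inv (hB g), Matrix.toLin'_mul]
    simp [repMat_apply]) with h | h
  · exact (h0 (by simpa [LinearMap.range_eq_bot] using h)).elim
  · exact ((Matrix.isUnit_iff_isUnit_det B).1 (Matrix.isUnit_toLin'_iff.1
      ((LinearMap.isUnit_iff_range_eq_top _).2 h))).ne_zero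

variable [Fintype H] [Fintype L]

/-- the indicator -/
noncomputable def E (ψ : H → ℂ) : ℂ := (Nat.card H : ℂ)⁻¹ * ∑ g, ψ (T.c * T.s g * g)

theorem E_prod (U : Tw L) (ψ : H → ℂ) (θ : L → ℂ) :
    (T.prod U).E (fun x => ψ x.1 * θ x.2) = T.E ψ * U.E θ := by
  rw [E, E, E, Nat.card_prod, Nat.cast_mul, _root_.mul_inv_rev, Fintype.sum_prod_type, mul_mul_mul_comm,
    Finset.sum_mul_sum, mul_comm (_ : ℂ)⁻¹]
  rfl

theorem E_conj (ψ : H → ℂ) : T.E (fun g => conj (ψ g)) = conj (T.E ψ) := by simp [E]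

theorem core {n : ℕ} {ρ : Representation ℂ H (Fin n → ℂ)} (hρ : ρ.IsIrreducible) :
    (¬ T.S ρ.character → T.E ρ.character = 0) ∧
    (T.S ρ.character → (T.E ρ.character = 1 ∨ T.E ρ.character = -1) ∧ ∃ B, B ≠ 0 ∧
      (∀ g, T.rep ρ g B = B) ∧ repMat ρ T.c * Bᵀ = T.E ρ.character • B) := by
  have hG : (Nat.card H : ℂ) ≠ 0 := H11.card_ne_zero H
  haveI : Invertible (Nat.card H : ℂ) := invertibleOfNonzero hG
  haveI : Invertible (Fintype.card H : ℂ) := by rw [Fintype.card_eq_nat_card]; assumption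
  have hχ : IsIrrCharacter H ρ.character := ⟨n, ρ, hρ, rfl⟩
  let σ := T.rep ρ
  let τ : Matrix (Fin n) (Fin n) ℂ →ₗ[ℂ] Matrix (Fin n) (Fin n) ℂ :=
    LinearMap.mulLeft ℂ (repMat ρ T.c) ∘ₗ (transposeLinearEquiv (Fin n) (Fin n) ℂ ℂ).toLinearMap
  have hτ : ∀ B, τ B = repMat ρ T.c * Bᵀ := fun B => rfl
  have hdim : (finrank ℂ σ.invariants : ℂ) =
      classInner (fun g => ρ.character (T.s g)) fun g => conj (ρ.character g) := by
    rw [← σ.card_inv_mul_sum_char_eq_finrank, H11.classInner_def]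
    refine congrArg _ (Finset.sum_congr rfl fun g _ => ?_)
    rw [Complex.conj_conj, Representation.character, H15.trace_matrix_end, tr, tr, Matrix.trace,
      Matrix.trace, mul_comm, Finset.sum_mul_sum]
    simp only [σ, rep_apply, H15.mul_single_mul_apply, transpose_apply, diag]
  have hP := σ.isProj_averageMap
  have hν : T.E ρ.character = LinearMap.trace ℂ _ (τ ∘ₗ σ.averageMap) := by
    have : τ ∘ₗ σ.averageMap = (Nat.card H : ℂ)⁻¹ • ∑ g : H, τ ∘ₗ σ g := by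
      ext1 B
      simp [Representation.averageMap, GroupAlgebra.average, _root_.map_sum]
    rw [this, map_smul, _root_.map_sum, E, smul_eq_mul]
    refine congrArg _ (Finset.sum_congr rfl fun g _ => ?_)
    rw [H15.trace_matrix_end, tr, map_mul, Matrix.trace]
    refine Finset.sum_congr rfl fun i _ => ?_
    rw [diag, Matrix.mul_apply]
    refine Finset.sum_congr rfl fun j _ => ?_
    rw [LinearMap.comp_apply, hτ, rep_apply, transpose_mul, transpose_mul, transpose_transpose,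
      transpose_single, ← mul_assoc, ← mul_assoc, ← map_mul, H15.mul_single_mul_apply,
      transpose_apply]
  have hI : ∀ B ∈ σ.invariants, τ B ∈ σ.invariants := fun B hB g => by
    have := congrArg transpose (hB (T.s g))
    rw [rep_apply, transpose_mul, transpose_mul, transpose_transpose, T.ss] at this
    rw [hτ, rep_apply]
    conv_rhs => rw [← this]
    simp only [← mul_assoc, ← map_mul, mul_inv_cancel, one_mul]
  have hS : T.S ρ.character ↔ (fun g => ρ.character (T.s g)) = fun g => conj (ρ.character g) := by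
    simp only [S, funext_iff, H12.character_inv]
  have i1 := H11.isIrrCharacter_comp_mulEquiv hχ T.s
  refine ⟨fun h => ?_, fun h => ?_⟩
  · rw [H11.classInner_irr_of_ne i1 (H11.isIrrCharacter_conj hχ) (mt hS.2 h), Nat.cast_eq_zero,
      Submodule.finrank_eq_zero] at hdim
    have : σ.averageMap = 0 := by
      ext1 B
      simpa [hdim] using hP.map_mem B
    rw [hν, this]; simp
  · rw [← hS.1 h, H11.classInner_irr_self i1, Nat.cast_eq_one] at hdim
    obtain ⟨⟨B, hB⟩, h0, hspan⟩ := finrank_eq_one_iff'.1 hdim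
    have h0' : B ≠ 0 := fun h => h0 (Subtype.ext h)
    obtain ⟨c, hc⟩ := hspan ⟨τ B, hI B hB⟩
    have hc' : c • B = τ B := congrArg Subtype.val hc
    have htr : τ ∘ₗ σ.averageMap = c • σ.averageMap := by
      ext1 X
      obtain ⟨d, hd⟩ := hspan ⟨σ.averageMap X, hP.map_mem X⟩
      have hd' : d • B = σ.averageMap X := congrArg Subtype.val hd
      rw [LinearMap.comp_apply, LinearMap.smul_apply, ← hd', map_smul, ← hc', smul_comm]
    rw [htr, map_smul, hP.trace, hdim, Nat.cast_one, smul_eq_mul, mul_one] at hν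
    rw [hν]
    refine ⟨mul_self_eq_one_iff.1 (smul_left_injective ℂ h0' ?_), B, h0', hB, hc'.symm⟩
    have := hB T.c
    rw [rep_apply, T.sc] at this
    change (c * c) • B = (1 : ℂ) • B
    rw [mul_smul, hc', ← map_smul, hc', hτ, hτ, transpose_mul, transpose_transpose, ← mul_assoc,
      this, one_smul]

variable {T}

theorem E_zero {ψ : H → ℂ} (h : IsIrrCharacter H ψ) (s : ¬ T.S ψ) : T.E ψ = 0 := by
  obtain ⟨n, ρ, hρ, rfl⟩ := h
  exact (T.core hρ).1 s

theorem E_pm {ψ : H → ℂ} (h : IsIrrCharacter H ψ) (s : T.S ψ) : T.E ψ = 1 ∨ T.E ψ = -1 := by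
  obtain ⟨n, ρ, hρ, rfl⟩ := h
  exact ((T.core hρ).2 s).1

theorem even {U : Tw L} (f : L →* H) (f1 : ∀ x, f (U.s x) = T.s (f x)) (f2 : f U.c = T.c)
    {ψ : H → ℂ} (h : IsIrrCharacter H ψ) (e : T.E ψ = -1) {m : ℕ}
    (hm : (Nat.card L : ℂ)⁻¹ * ∑ x, ψ (f x) = m) : Even m := by
  have s : T.S ψ := not_not.1 fun s => by simp [E_zero h s] at e
  obtain ⟨n, ρ, hρ, rfl⟩ := h
  obtain ⟨-, B, h0, hB, h1⟩ := (T.core hρ).2 s
  rw [e, neg_one_smul] at h1
  have hS : (Nat.card L : ℂ) ≠ 0 := H11.card_ne_zero L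
  let R := repMat ρ
  have k : ∀ t, R (f t) * ∑ x, R (f x) = ∑ x, R (f x) := fun t => by
    rw [Finset.mul_sum]
    exact Fintype.sum_equiv (Equiv.mulLeft t) _ _ fun s => by simp
  have c : (∑ x, R (f x)) * B = B * (∑ x, R (f x))ᵀ := by
    rw [transpose_sum, Finset.sum_mul, Finset.mul_sum]
    refine Fintype.sum_equiv (U.s.toEquiv.trans (Equiv.inv L)) _ _ fun x => ?_
    rw [T.mul_inv (hB (f x)), ← f1, ← map_inv]; rfl
  refine even_of_idem (E := (Nat.card L : ℂ)⁻¹ • ∑ x, R (f x)) ?_ (T.det_ne hρ hB h0) ?_ ?_ ?_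
  · have : Bᵀ = -(R (f U.c⁻¹) * B) := by
      rw [← mul_neg, ← h1, ← mul_assoc, ← map_mul, map_inv, f2, inv_mul_cancel, map_one, one_mul]
    rw [smul_mul_assoc, transpose_smul, transpose_mul, this, neg_mul, mul_assoc, ← c, ← mul_assoc,
      k, smul_neg]
  · rw [smul_mul_smul_comm, Finset.sum_mul]
    simp only [k, Finset.sum_const, Finset.card_univ, ← Nat.card_eq_fintype_card,
      ← Nat.cast_smul_eq_nsmul ℂ, smul_smul]
    rw [inv_mul_cancel_right₀ hS]
  · rw [transpose_smul, smul_mul_assoc, mul_smul_comm, c]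
  · rw [← hm, trace_smul, trace_sum]
    simp [R, tr]

theorem E_eq {U : Tw L} (f : L →* H) (f1 : ∀ x, f (U.s x) = T.s (f x)) (f2 : f U.c = T.c)
    {ψ : H → ℂ} {θ : L → ℂ} (h : IsIrrCharacter H ψ) (h' : IsIrrCharacter L θ) (s : T.S ψ)
    (s' : U.S θ) {m : ℕ} (hm : classInner (fun x => ψ (f x)) θ = m) (o : Odd m) :
    T.E ψ = U.E θ := by
  by_contra ne
  refine Nat.not_even_iff_odd.2 o (even (T := T.prod U) (U := U) (f.prod (MonoidHom.id L))
    (fun x => Prod.ext (f1 x) rfl) (Prod.ext f2 rfl)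
    (H11.isIrrCharacter_prod_mul h (H11.isIrrCharacter_conj h')) ?_ hm)
  rw [E_prod T U ψ fun g => conj (θ g), E_conj]
  rcases E_pm h s with a | a <;> rcases E_pm h' s' with b | b <;> simp_all

end Tw

universe u

variable {G : Type u} [Group G] [Finite G] {π : G →* ℤˣ} {K : Subgroup G} {γ : G}

/-- The twist given by an element. -/
noncomputable def tK (π : G →* ℤˣ) (hγ : γ ∈ K) : Tw (ev π K) where
  s := normalizerMonoidHom (ev π K) ⟨γ, le_normalizer_ev π K hγ⟩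
  c := ⟨γ⁻¹ * γ⁻¹, mul_mem_ev (inv_mem hγ) (inv_mem hγ) rfl⟩
  ss g := Subtype.ext (by
    change γ * (γ * g * γ⁻¹) * γ⁻¹ = (γ⁻¹ * γ⁻¹)⁻¹ * g * (γ⁻¹ * γ⁻¹); simp [mul_assoc])
  sc := Subtype.ext (by change γ * (γ⁻¹ * γ⁻¹) * γ⁻¹ = γ⁻¹ * γ⁻¹; group)

theorem eps_eq [Fintype (ev π K)] (hγ : γ ∈ K) (ho : π γ = -1) (ψ : ev π K → ℂ) :
    eps π K ψ = (tK π hγ).E ψ := by
  let e : ev π K ≃ {δ : G // δ ∈ K ∧ π δ = -1} :=
    ⟨fun g => ⟨γ⁻¹ * g, mul_mem (inv_mem hγ) g.2.1, by simp [ho, (mem_ev.1 g.2).2]⟩,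
      fun δ => ⟨γ * δ, mul_mem_ev hγ δ.2.1 (ho.trans δ.2.2.symm)⟩, fun g => by simp, fun δ => by simp⟩
  rw [eps, ← finsum_comp_equiv e, finsum_eq_sum_of_fintype, Tw.E]
  refine congrArg _ (Finset.sum_congr rfl fun g _ => congrArg ψ (Subtype.ext ?_))
  change γ⁻¹ * g * (γ⁻¹ * g) = γ⁻¹ * γ⁻¹ * (γ * g * γ⁻¹) * g
  group

theorem sc_iff (hγ : γ ∈ K) (ho : π γ = -1) (ψ : IrrCharacter (ev π K)) :
    SC π K ψ.1 ↔ (tK π hγ).S ψ.1 := by
  refine ⟨fun h g => h γ hγ ho g _ rfl, fun h => (sc_iff_tw hγ ho ψ).2 (Subtype.ext (funext fun g => ?_))⟩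
  obtain ⟨g, rfl⟩ := (tK π hγ).s.surjective g
  rw [tw_apply hγ ψ (g := g) rfl, h]

theorem c1 : C1.{u} := fun π K ψ => by
  by_cases h : HasOdd π K
  · obtain ⟨γ, hγ, ho⟩ := id h
    haveI := Fintype.ofFinite (ev π K)
    rw [eps_eq hγ ho, sc_iff hγ ho]
    by_cases s : (tK π hγ).S ψ.1
    · rcases Tw.E_pm ψ.2 s with e | e <;> simp [e, h, s]
    · simp [Tw.E_zero ψ.2 s, s]
  · simp [eps_of_not_hasOdd h, h]

theorem c2 : C2.{u} := fun π L K h ψ θ ⟨γ, hγ, ho⟩ s s' o => by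
  haveI := Fintype.ofFinite (ev π K)
  haveI := Fintype.ofFinite (ev π L)
  rw [eps_eq (h hγ) ho, eps_eq hγ ho]
  exact Tw.E_eq (inclusion (ev_mono h)) (fun _ => rfl) rfl ψ.2 θ.2 ((sc_iff _ ho ψ).1 s)
    ((sc_iff _ ho θ).1 s') (mult_spec (ev_mono h) ψ θ) o

theorem c3 : C3.{u} := fun π K χ φ ψ s s' e => by
  by_cases h : HasOdd π K
  · obtain ⟨γ, hγ, ho⟩ := h
    haveI := Fintype.ofFinite (ev π K)
    rw [sc_iff hγ ho] at s s'
    rw [eps_eq hγ ho, eps_eq hγ ho, eps_eq hγ ho, ← Tw.E_prod]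
    refine (Tw.E_eq ((MonoidHom.id _).prod (MonoidHom.id _)) (fun _ => rfl) rfl
      (H11.isIrrCharacter_prod_mul χ.2 φ.2) ψ.2 (fun g => congrArg₂ _ (s g.1) (s' g.2))
      (fun g => by rw [e, e, s, s']) (m := 1) ?_ odd_one).symm
    rw [Nat.cast_one, ← H11.classInner_irr_self ψ.2]
    exact congrArg (classInner · ψ.1) (funext fun g => (e g).symm)
  · simp [eps_of_not_hasOdd h]

theorem c123 : C1.{u} ∧ C2.{u} ∧ C3.{u} := ⟨c1, c2, c3⟩

end Cfsg.Agent.H23.FT
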