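import Mathlib
import Cfsg.Agent.H76.K0Defs

/-! The arithmetic piece: a lattice missing a ball. -/

set_option autoImplicit false

namespace Cfsg.Agent.H23.K0Ar

open Cfsg Cfsg.Agent.H76.K0

theorem dbl {p : ℕ} [NeZero p] (hodd : p % 2 = 1) (x : ZMod p) :
    ((x + x).val : ℤ) * (p - (x + x).val) = 2 * ((x.val : ℤ) * (p - x.val)) - 2 * x.valMinAbs ^ 2 := by
  have hv := ZMod.val_lt x
  rw [ZMod.valMinAbs_def_pos, ZMod.val_add]
  split_ifs with h
  · rw [Nat.mod_eq_of_lt (by omega)]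
    push_cast
    ring
  · have : (x.val + x.val) % p = x.val + x.val - p := by
      rw [Nat.mod_eq_sub_mod (by omega), Nat.mod_eq_of_lt (by omega)]
    rw [this, Nat.cast_sub (by omega)]
    push_cast
    ring

theorem two {p : ℕ} [NeZero p] (y : ZMod p) :
    ∃ t : ℤ, (y + y).valMinAbs = 2 * y.valMinAbs + t * p := by
  have : (p : ℤ) ∣ (y + y).valMinAbs - 2 * y.valMinAbs := by
    rw [← ZMod.intCast_zmod_eq_zero_iff_dvd]
    push_cast
    ring
  obtain ⟨t, ht⟩ := this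
  exact ⟨t, by linarith⟩

theorem bound {p b b2 t : ℤ} (hp : 5 ≤ p) (h1 : b ^ 2 ≤ p - 2) (h2 : b2 ^ 2 ≤ 2 * p - 4)
    (e : b2 = 2 * b + t * p) (ht : t ≠ 0) : p ≤ 9 := by
  have h3 : 1 ≤ t ^ 2 := Int.add_one_le_of_lt (by positivity : (0 : ℤ) < t ^ 2)
  have h4 : (t * p) ^ 2 ≤ 3 * b2 ^ 2 + 6 * b ^ 2 := by
    have : t * p = b2 - 2 * b := by linarith
    rw [this]
    nlinarith [sq_nonneg (b2 + b)]
  have h5 : p ^ 2 ≤ (t * p) ^ 2 := by rw [mul_pow]; nlinarith [sq_nonneg p]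
  by_contra h
  nlinarith

theorem ar : ArStmt := by
  intro p hp h2 d e hd he h
  haveI : Fact p.Prime := ⟨hp⟩
  have hodd : p % 2 = 1 := Nat.odd_iff.1 (hp.odd_of_ne_two h2)
  have d0 : (d : ZMod p) ≠ 0 := by rwa [Ne, ZMod.intCast_zmod_eq_zero_iff_dvd]
  have e0 : (e : ZMod p) ≠ 0 := by rwa [Ne, ZMod.intCast_zmod_eq_zero_iff_dvd]
  have t0 : (2 : ZMod p) ≠ 0 := by
    intro h0
    have : ((2 : ℕ) : ZMod p) = 0 := by exact_mod_cast h0
    rw [ZMod.natCast_eq_zero_iff] at this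
    exact h2 ((Nat.prime_dvd_prime_iff_eq hp Nat.prime_two).1 this)
  let f : ZMod p → ℤ := fun x => (x.val : ℤ) * (p - x.val)
  let g : ZMod p → ℤ := fun x => x.valMinAbs ^ 2
  have le : ∀ x : ZMod p, 0 ≤ g (x * d) + g (x * e) - f x := by
    intro x
    have := h x.val (x * d).valMinAbs (x * e).valMinAbs
      (by rw [← ZMod.intCast_zmod_eq_zero_iff_dvd]; push_cast; simp)
      (by rw [← ZMod.intCast_zmod_eq_zero_iff_dvd]; push_cast; simp)
    simp only [f, g]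
    nlinarith
  have s1 : ∑ x, g (x * d) = ∑ x, g x := Equiv.sum_comp (Equiv.mulRight₀ (d : ZMod p) d0) g
  have s2 : ∑ x, g (x * e) = ∑ x, g x := Equiv.sum_comp (Equiv.mulRight₀ (e : ZMod p) e0) g
  have s3 : ∑ x, f (x * 2) = ∑ x, f x := Equiv.sum_comp (Equiv.mulRight₀ (2 : ZMod p) t0) f
  have s4 : ∑ x, f (x * 2) = 2 * ∑ x, f x - 2 * ∑ x, g x := by
    rw [Finset.mul_sum, Finset.mul_sum, ← Finset.sum_sub_distrib]
    refine Finset.sum_congr rfl fun x _ => ?_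
    rw [mul_two]
    exact dbl hodd x
  have s5 : ∑ x, (g (x * d) + g (x * e) - f x) = 0 := by
    rw [Finset.sum_sub_distrib, Finset.sum_add_distrib, s1, s2]
    linarith
  have eq := (Finset.sum_eq_zero_iff_of_nonneg fun x _ => le x).1 s5
  by_contra h3
  have h5 : 5 ≤ p := hp.five_le_of_ne_two_of_ne_three h2 h3
  have q1 := eq 1 (Finset.mem_univ _)
  have q2 := eq 2 (Finset.mem_univ _)
  have v2 : (2 : ZMod p).val = 2 := by
    have : ((2 : ℕ) : ZMod p).val = 2 := ZMod.val_cast_of_lt (by omega)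
    exact_mod_cast this
  simp only [f, g, one_mul, two_mul, ZMod.val_one, v2] at q1 q2
  obtain ⟨t, ht⟩ := two (d : ZMod p)
  obtain ⟨s, hs⟩ := two (e : ZMod p)
  have b0 : (d : ZMod p).valMinAbs ≠ 0 := by rwa [Ne, ZMod.valMinAbs_eq_zero]
  have c0 : (e : ZMod p).valMinAbs ≠ 0 := by rwa [Ne, ZMod.valMinAbs_eq_zero]
  generalize (d : ZMod p).valMinAbs = b at *
  generalize (e : ZMod p).valMinAbs = c at *
  generalize ((d : ZMod p) + d).valMinAbs = b2 at *
  generalize ((e : ZMod p) + e).valMinAbs = c2 at *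
  push_cast at q1 q2
  have hb : 1 ≤ b ^ 2 := Int.add_one_le_of_lt (by positivity : (0 : ℤ) < b ^ 2)
  have hc : 1 ≤ c ^ 2 := Int.add_one_le_of_lt (by positivity : (0 : ℤ) < c ^ 2)
  have h5' : (5 : ℤ) ≤ p := by exact_mod_cast h5
  have h9 : (p : ℤ) ≤ 9 := by
    by_cases t0 : t = 0
    · by_cases s0 : s = 0
      · rw [t0] at ht
        rw [s0] at hs
        rw [ht, hs] at q2
        nlinarith
      · exact bound h5' (by linarith) (by nlinarith [sq_nonneg b2]) hs s0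
    · exact bound h5' (by linarith) (by nlinarith [sq_nonneg c2]) ht t0
  have h9' : p ≤ 9 := by exact_mod_cast h9
  have hb1 : -3 < b ∧ b < 3 := by
    constructor <;> nlinarith
  have hc1 : -3 < c ∧ c < 3 := by
    constructor <;> nlinarith
  obtain ⟨hb1, hb2⟩ := hb1
  obtain ⟨hc1, hc2⟩ := hc1
  have h9n : p ≠ 9 := by rintro rfl; exact absurd hp (by norm_num)
  have hpc : (p : ℤ) = 5 ∨ (p : ℤ) = 7 := by omega
  rcases hpc with hpc | hpc <;> rw [hpc] at q1 <;> interval_cases b <;> interval_cases c <;>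
    omega

end Cfsg.Agent.H23.K0Ar
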