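import Cfsg.Agent.H78.G40B

/-! Project L40G, piece F3F: the involutions of `SL₃(9)` are conjugate. -/

set_option autoImplicit false

noncomputable section

namespace Cfsg.Agent.H23.L40F3f

open Matrix Module Cfsg.Agent.H46.L40 Cfsg.Agent.H28 Cfsg.Agent.H78.G40

section Gen
variable {F : Type} [Field F]

theorem exd (h2 : (2 : F) ≠ 0) {M : Matrix (Fin 3) (Fin 3) F} (hM : M * M = 1) :
    ∃ (P : Matrix (Fin 3) (Fin 3) F) (d : Fin 3 → F), P.det ≠ 0 ∧ (∀ i, d i = 1 ∨ d i = -1) ∧
      M * P = P * diagonal d := by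
  have hc : IsCompl (LinearMap.ker (toLin' (M - 1))) (LinearMap.ker (toLin' (M + 1))) := by
    refine ⟨Submodule.disjoint_def.2 fun x h h' => ?_, codisjoint_iff.2 (eq_top_iff.2 fun x _ => ?_)⟩
    · rw [LinearMap.mem_ker, toLin'_apply] at h h'
      rw [sub_mulVec, one_mulVec] at h
      rw [add_mulVec, one_mulVec] at h'
      exact (smul_eq_zero_iff_right h2).1 (by linear_combination (norm := module) h' - h)
    · refine Submodule.mem_sup.2 ⟨(2 : F)⁻¹ • (M + 1) *ᵥ x, Submodule.smul_mem _ _ ?_,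
        (2 : F)⁻¹ • (1 - M) *ᵥ x, Submodule.smul_mem _ _ ?_, ?_⟩
      · rw [LinearMap.mem_ker, toLin'_apply, mulVec_mulVec, show (M - 1) * (M + 1) = M * M - 1 by
          noncomm_ring, hM, sub_self, zero_mulVec]
      · rw [LinearMap.mem_ker, toLin'_apply, mulVec_mulVec, show (M + 1) * (1 - M) = 1 - M * M by
          noncomm_ring, hM, sub_self, zero_mulVec]
      · rw [← smul_add, ← add_mulVec, show M + 1 + (1 - M) = (2 : F) • 1 by module, smul_mulVec,
          one_mulVec, inv_smul_smul₀ h2]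
  let v := ((finBasis F _).prod (finBasis F _)).map (Submodule.prodEquivOfIsCompl _ _ hc)
  let e := v.indexEquiv (Pi.basisFun F (Fin 3))
  let w := v.reindex e
  have hv : ∀ i, ∃ c : F, (c = 1 ∨ c = -1) ∧ M *ᵥ v i = c • v i := by
    rintro (i | i)
    · have := (finBasis F (LinearMap.ker (toLin' (M - 1))) i).2
      rw [LinearMap.mem_ker, toLin'_apply, sub_mulVec, one_mulVec, sub_eq_zero] at this
      exact ⟨1, Or.inl rfl, by simpa [v] using this⟩
    · have := (finBasis F (LinearMap.ker (toLin' (M + 1))) i).2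
      rw [LinearMap.mem_ker, toLin'_apply, add_mulVec, one_mulVec, add_eq_zero_iff_eq_neg] at this
      exact ⟨-1, Or.inr rfl, by simpa [v] using this⟩
  choose c hc1 hc2 using hv
  refine ⟨(Pi.basisFun F (Fin 3)).toMatrix w, fun j => c (e.symm j), ?_, fun j => hc1 _, ?_⟩
  · exact (isUnit_det_of_right_inverse
      (Basis.toMatrix_mul_toMatrix_flip (Pi.basisFun F (Fin 3)) w)).ne_zero
  · ext i j
    have := congrFun (hc2 (e.symm j)) i
    rw [mul_diagonal, mul_apply]
    simp only [Basis.toMatrix_apply, Pi.basisFun_repr, w, Basis.reindex_apply]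
    rw [mul_comm]
    exact this

theorem conj_of {x z : SpecialLinearGroup (Fin 3) F} (hz : z.1 = diagonal ![-1, -1, 1])
    (C : Matrix (Fin 3) (Fin 3) F) (hC : C.det ≠ 0) (h : x.1 * C = C * diagonal ![-1, -1, 1]) :
    IsConj z x := by
  let D : SpecialLinearGroup (Fin 3) F := ⟨C * diagonal ![C.det⁻¹, 1, 1], by
    rw [det_mul, det_diagonal, Fin.prod_univ_three]; simp [hC]⟩
  refine isConj_iff.2 ⟨D, ?_⟩
  rw [mul_inv_eq_iff_eq_mul]
  apply Subtype.ext
  change C * diagonal ![C.det⁻¹, 1, 1] * z.1 = x.1 * (C * diagonal ![C.det⁻¹, 1, 1])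
  rw [← Matrix.mul_assoc x.1, h, hz, Matrix.mul_assoc, Matrix.mul_assoc, diagonal_mul_diagonal,
    diagonal_mul_diagonal]
  congr 2
  funext i
  exact mul_comm _ _

theorem invol_conj (h2 : (2 : F) ≠ 0) {x z : SpecialLinearGroup (Fin 3) F}
    (hz : z.1 = diagonal ![-1, -1, 1]) (hx : x * x = 1) (h1 : x ≠ 1) : IsConj z x := by
  obtain ⟨P, d, hP, hd, h⟩ := exd h2 (M := x.1) (congrArg Subtype.val hx)
  have hdet : d 0 * d 1 * d 2 = 1 := by
    have := congrArg det h
    rw [det_mul, det_mul, x.2, det_diagonal, Fin.prod_univ_three, one_mul] at this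
    exact (mul_left_cancel₀ hP (by rw [← this, mul_one])).symm
  have hn : (-1 : F) ≠ 1 := fun e => h2 (by linear_combination -e)
  have hd' : d = ![d 0, d 1, d 2] := by funext i; fin_cases i <;> rfl
  rcases hd 0 with a | a <;> rcases hd 1 with b | b <;> rcases hd 2 with c | c <;>
    rw [a, b, c] at hd' hdet <;> rw [hd'] at h
  · refine absurd (Subtype.ext ?_) h1
    have : (diagonal ![(1 : F), 1, 1]) = 1 := by
      rw [← diagonal_one]; congr 1; funext i; fin_cases i <;> rfl
    rw [this, Matrix.mul_one] at h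
    have k := congrArg (· * P⁻¹) h
    simp only [Matrix.mul_assoc, mul_nonsing_inv P (Ne.isUnit hP), Matrix.mul_one] at k
    exact k
  · exact absurd (by simpa using hdet) hn
  · exact absurd (by simpa using hdet) hn
  · refine conj_of hz (P * !![0, 0, 1; 1, 0, 0; 0, 1, 0]) ?_ ?_
    · rw [det_mul]; refine mul_ne_zero hP ?_; simp [det_fin_three]
    · rw [← Matrix.mul_assoc, h, Matrix.mul_assoc, Matrix.mul_assoc]
      congr 1
      ext i j; fin_cases i <;> fin_cases j <;> simp [mul_apply, Fin.sum_univ_three]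
  · exact absurd (by simpa using hdet) hn
  · refine conj_of hz (P * !![1, 0, 0; 0, 0, 1; 0, 1, 0]) ?_ ?_
    · rw [det_mul]; refine mul_ne_zero hP ?_; simp [det_fin_three]
    · rw [← Matrix.mul_assoc, h, Matrix.mul_assoc, Matrix.mul_assoc]
      congr 1
      ext i j; fin_cases i <;> fin_cases j <;> simp [mul_apply, Fin.sum_univ_three]
  · exact conj_of hz P hP h
  · exact absurd (by simpa using hdet) hn

end Gen

theorem f3f : F3fS := by
  intro x hx h1
  refine invol_conj (by decide) ?_ hx h1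
  ext i j : 1
  fin_cases i <;> fin_cases j <;> decide

end Cfsg.Agent.H23.L40F3f
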