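import Mathlib

/-! Four-groups of `PSL(2, F)` in odd characteristic. -/

set_option autoImplicit false

namespace Cfsg.Agent.H23.LpFact

open Matrix Subgroup
open scoped MatrixGroups

variable {F : Type} [Field F]

theorem cen (X : SL(2, F)) : X ∈ center SL(2, F) ↔ X 0 1 = 0 ∧ X 1 0 = 0 ∧ X 0 0 = X 1 1 := by
  rw [Matrix.SpecialLinearGroup.mem_center_iff]
  constructor
  · rintro ⟨r, -, h⟩
    rw [← h]; simp
  · rintro ⟨h1, h2, h3⟩
    have d := X.det_coe
    rw [det_fin_two, h1, h2, ← h3] at d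
    refine ⟨X 0 0, by rw [Fintype.card_fin]; linear_combination d, ?_⟩
    ext i j; fin_cases i <;> fin_cases j <;> simp [h1, h2, h3]

theorem one (X : SL(2, F)) : (X : PSL(2, F)) = 1 ↔ X 0 1 = 0 ∧ X 1 0 = 0 ∧ X 0 0 = X 1 1 := by
  rw [QuotientGroup.eq_one_iff, cen]

theorem tr (X : SL(2, F)) (h : (X : PSL(2, F)) * X = 1) (n : (X : PSL(2, F)) ≠ 1) :
    X 1 1 = -X 0 0 := by
  rw [← QuotientGroup.mk_mul, one] at h
  simp only [Matrix.SpecialLinearGroup.coe_mul, Matrix.mul_apply, Fin.sum_univ_two] at h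
  obtain ⟨h1, h2, h3⟩ := h
  by_contra k
  have k' : X 0 0 + X 1 1 ≠ 0 := fun e => k (by linear_combination e)
  exact n ((one X).2 ⟨mul_left_cancel₀ k' (by linear_combination h1),
    mul_left_cancel₀ k' (by linear_combination h2), mul_left_cancel₀ k' (by linear_combination h3)⟩)

theorem fact2 (h2 : (2 : F) ≠ 0) (a b : PSL(2, F)) (ha : a * a = 1) (hb : b * b = 1) (a1 : a ≠ 1)
    (b1 : b ≠ 1) (ab : a ≠ b) (c : Commute a b) :
    ∃ w, w * a * w⁻¹ = b ∧ w * b * w⁻¹ = a * b := by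
  obtain ⟨A, rfl⟩ := QuotientGroup.mk_surjective a
  obtain ⟨B, rfl⟩ := QuotientGroup.mk_surjective b
  have tA := tr A ha a1
  have tB := tr B hb b1
  have tC := tr (A * B) (by
    rw [QuotientGroup.mk_mul, mul_assoc, ← mul_assoc _ (A : PSL(2, F)), ← c.eq, mul_assoc, hb,
      mul_one, ha]) (fun e => ab (by
    rw [QuotientGroup.mk_mul] at e
    exact mul_right_cancel (e.trans hb.symm)))
  have dA := A.det_coe
  have dB := B.det_coe
  simp only [Matrix.SpecialLinearGroup.coe_mul, Matrix.mul_apply, Fin.sum_univ_two] at tC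
  rw [det_fin_two] at dA dB
  obtain ⟨i, hi⟩ : ∃ i : F, 2 * i = 1 := ⟨2⁻¹, mul_inv_cancel₀ h2⟩
  obtain ⟨W, hW⟩ : ∃ W : SL(2, F), W.1 = i • (1 + A.1 + B.1 + A.1 * B.1) := ⟨⟨_, by
    rw [det_smul, det_fin_two]
    simp [Matrix.mul_apply, Fin.sum_univ_two, tA, tB]
    grind⟩, rfl⟩
  have e1 : W * A = B * W := Subtype.ext (show W.1 * A.1 = B.1 * W.1 by
    rw [hW]
    ext i j; fin_cases i <;> fin_cases j <;>
      simp [Matrix.mul_apply, Fin.sum_univ_two, tA, tB] <;> grind)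
  have e2 : W * B = A * B * W := Subtype.ext (show W.1 * B.1 = A.1 * B.1 * W.1 by
    rw [hW]
    ext i j; fin_cases i <;> fin_cases j <;>
      simp [Matrix.mul_apply, Fin.sum_univ_two, tA, tB] <;> grind)
  refine ⟨W, mul_inv_eq_iff_eq_mul.2 ?_, mul_inv_eq_iff_eq_mul.2 ?_⟩
  · rw [← QuotientGroup.mk_mul, e1, QuotientGroup.mk_mul]
  · rw [← QuotientGroup.mk_mul, e2, QuotientGroup.mk_mul, QuotientGroup.mk_mul]

end Cfsg.Agent.H23.LpFact
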