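import Cfsg.Agent.H93.LT2Defs
import Cfsg.Agent.H36.LTS2
import Cfsg.Agent.H81.LTMir

/-! Type X: an `E₁₆` through a conjugate of `t` has only one translation. -/

set_option autoImplicit false

namespace Cfsg.Agent.H23.LtX

open Subgroup Cfsg.Agent.H85 Cfsg.Agent.H93.LT Cfsg.Agent.H36.LTS

universe u

variable {G : Type u} [Group G]

/-- The conclusion of `TRLStmt`. -/
def Trl (t : G) (E : Subgroup G) (u : G) : Prop :=
  ∃ W : Subgroup G, W ≤ E ∧ Nat.card W = 8 ∧ (∀ v ∈ E, IsConj t v ↔ v ∉ W) ∧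
    ∀ k ∈ centralizer (W : Set G), ∀ l ∈ centralizer (W : Set G), u⁻¹ * cn u k ∈ W →
      u⁻¹ * cn u l ∈ W → cn u k = u ∨ cn u l = u ∨ cn u k = cn u l

theorem Trl.conj {t u g : G} {E : Subgroup G} (h : Trl t E (cn u g)) : Trl t (cj g E) u := by
  obtain ⟨W, h1, h2, h3, h4⟩ := h
  have c : ∀ k ∈ centralizer ((cj g W : Subgroup G) : Set G), cn k g ∈ centralizer (W : Set G) :=
    fun k hk => mem_cj.1 (cj_centralizer g W ▸ hk)
  have d : ∀ k, cn (cn u g) (cn k g) = cn (cn u k) g := fun k => by simp [mul_assoc]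
  have e : ∀ k, u⁻¹ * cn u k ∈ cj g W → (cn u g)⁻¹ * cn (cn u g) (cn k g) ∈ W := fun k hk => by
    convert mem_cj.1 hk using 1
    simp [mul_assoc]
  refine ⟨cj g W, cj_mono g h1, (card_cj g W).trans h2, fun v hv => ?_, fun k hk l hl a b => ?_⟩
  · rw [mem_cj, ← h3 _ (mem_cj.1 hv)]
    exact ⟨fun x => x.trans (isConj_cv v g), fun x => x.trans (isConj_cv v g).symm⟩
  · have := h4 _ (c k hk) _ (c l hl) (e k a) (e l b)
    rw [d, d] at this
    exact this.imp H81.LT.cn_inj (Or.imp H81.LT.cn_inj H81.LT.cn_inj)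

theorem side [Finite G] {t z f a b r y Y m : G} {L : Subgroup G} (B : B1 t z f a b)
    (R : Rr t z f a r) (c16 : Nat.card (closure ({t, z, f, a} : Set G)) = 16)
    (zL : z ∈ L) (aL : a ∈ L) (fL : f ∉ L)
    (aut : ∀ c ∈ centralizer ({t} : Set G),
      c ∈ normalizer ((closure ({t, z, f, a} : Set G) : Subgroup G) : Set G) →
      ∃ w ∈ closure ({b, r} : Set G), ∀ x ∈ closure ({t, z, f, a} : Set G), cv x c = cv x w)
    (DP : ∀ u ∈ closure ({z, f} : Set G), ¬ IsConj t u)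
    (Ay : Ac t z f a y (t * f) z a) (AY : Ac t z f a Y (t * (z * f)) z (f * a))
    (Am : Ac t z f a m (t * (f * a)) (z * f) a) : Trl t (closure {t, z, f, a}) t := by
  have DW : ∀ u ∈ closure ({z, f, a} : Set G), ¬ IsConj t u := fun u hu c => by
    obtain ⟨v, h1, h2⟩ := B.toP R hu c
    exact DP v h1 h2
  have tW : t ∉ closure ({z, f, a} : Set G) := fun h => DW t h (IsConj.refl t)
  have n1 : z * f ∉ L := fun h => fL ((mul_mem_cancel_left zL).1 h)
  have n2 : f * a ∉ L := fun h => fL ((mul_mem_cancel_right aL).1 h)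
  have reach : ∀ w ∈ closure ({z, f, a} : Set G), ∃ k, Gd t z f a k ∧ cv t k = t * w ∧
      (w = 1 ∨ w = f ∨ cv z k = z * f ∨ cv a k = f * a) := fun w hw => by
    rcases B.memW hw with rfl | rfl | rfl | rfl | rfl | rfl | rfl | rfl
    on_goal 1 => refine ⟨1, ?_⟩
    on_goal 2 => refine ⟨y, ?_⟩
    on_goal 3 => refine ⟨y * Y, ?_⟩
    on_goal 4 => refine ⟨Y, ?_⟩
    on_goal 5 => refine ⟨y * m, ?_⟩
    on_goal 6 => refine ⟨m, ?_⟩
    on_goal 7 => refine ⟨y * Y * m, ?_⟩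
    on_goal 8 => refine ⟨Y * m, ?_⟩
    all_goals
      unfold Gd
      en B [Ay.ht, Ay.hz, Ay.hf, Ay.ha, AY.ht, AY.hz, AY.hf, AY.ha, Am.ht, Am.hz, Am.hf, Am.ha,
        true_or, or_true, true_and, and_true]
      refine ⟨?_, ?_, ?_⟩ <;> memc
  have V : ∀ w ∈ closure ({b, r} : Set G), ∀ x ∈ closure ({z, a} : Set G),
      cv x w ∈ closure ({z, a} : Set G) := fun w hw x hx =>
    cv_nrm hx ((closure_le (normalizer ((closure ({z, a} : Set G) : Subgroup G) : Set G))).2 (by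
      rintro _ (rfl | rfl) <;> refine nrm_of fun _ => cv_closure ?_ <;> rintro _ (rfl | rfl) <;>
        en B [R.rw] <;> memc) hw)
  have VL : closure ({z, a} : Set G) ≤ L := (closure_le _).2 (by rintro _ (rfl | rfl) <;> assumption)
  have one : ∀ k ∈ centralizer ((closure ({z, f, a} : Set G) : Subgroup G) : Set G),
      t⁻¹ * cv t k ∈ closure ({z, f, a} : Set G) → cv t k = t ∨ cv t k = t * f := fun k hk h => by
    obtain ⟨j, ⟨j1, j2, j3, j4⟩, e, H⟩ := reach _ h
    rw [mul_inv_cancel_left] at e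
    have kW : ∀ x ∈ closure ({z, f, a} : Set G), cv x k = x := fun x hx => cv_of (hk x hx)
    have kW' : ∀ x ∈ closure ({z, f, a} : Set G), cv x k⁻¹ = x := fun x hx => cv_inv_of (kW x hx)
    have nk : k ∈ normalizer ((closure ({t, z, f, a} : Set G) : Subgroup G) : Set G) :=
      nrm_of fun _ => cv_closure (by
        rintro _ (rfl | rfl | rfl | rfl)
        · exact e ▸ j4
        all_goals rw [kW _ (by memc)]; memc)
    have nj : j ∈ normalizer ((closure ({t, z, f, a} : Set G) : Subgroup G) : Set G) :=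
      nrm_of fun _ => cv_closure (by
        rintro _ (rfl | rfl | rfl | rfl)
        exacts [j4, WE j2, j1.symm ▸ m3, WE j3])
    obtain ⟨w, hw, H'⟩ := aut (j * k⁻¹) (mem_centralizer_singleton_iff.2
      (cm_of (by rw [cv_cv, e]; exact cv_inv_of rfl)).symm.eq) (mul_mem nj (inv_mem nk))
    rcases H with H | H | H | H
    · exact .inl (inv_mul_eq_one.1 H).symm
    · exact .inr (inv_mul_eq_iff_eq_mul.1 H)
    · have := H' z m2
      rw [cv_cv, kW' _ j2, H] at this
      exact (n1 (this ▸ VL (V w hw z m1))).elim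
    · have := H' a (by memc)
      rw [cv_cv, kW' _ j3, H] at this
      exact (n2 (this ▸ VL (V w hw a (by memc)))).elim
  have WE' : closure ({z, f, a} : Set G) ≤ closure ({t, z, f, a} : Set G) := fun _ => WE
  refine ⟨closure {z, f, a}, WE', ?_, fun v hv => ⟨fun c h => DW v h c, fun h => ?_⟩,
    fun k hk l hl h1 h2 => ?_⟩
  · have i : (closure ({z, f, a} : Set G)).relIndex (closure ({t, z, f, a} : Set G)) = 2 :=
      relIndex_eq_two_iff_exists_notMem_and'.2 ⟨t, m1, tW, fun v hv => by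
        obtain ⟨w, hw, rfl | rfl⟩ := B.memE hv
        exacts [.inr hw, .inl (by rwa [← mul_assoc, B.tt, one_mul])]⟩
    have := relIndex_mul_relIndex ⊥ _ _ bot_le WE'
    rw [relIndex_bot_left, relIndex_bot_left, i, c16] at this
    omega
  · obtain ⟨w, hw, rfl | rfl⟩ := B.memE hv
    · exact (h hw).elim
    · obtain ⟨j, -, e, -⟩ := reach w hw
      exact e ▸ isConj_cv t j
  · rcases one k hk h1 with a | a
    · exact .inl a
    rcases one l hl h2 with b | b
    exacts [.inr (.inl b), .inr (.inr (a.trans b.symm))]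

theorem b1 (h : Hyp G) : B1 h.t h.z h.f h.a h.b :=
  ⟨h.tt, h.zz, h.ff, h.aa, h.bb, (H81.LT.tz h).symm, h.tf.symm, h.ta.symm, h.tb, H81.LT.fz h,
    h.za.symm, h.zb, h.fa.symm, h.fb, h.ab.trans h.za.eq.symm⟩

theorem rr (h : Hyp G) : Rr h.t h.z h.f h.a h.r :=
  ⟨cv_of' h.rt, cv_of' h.rf, h.zr, h.ar.trans h.za.eq.symm, h.ro⟩

theorem aL (h : Hyp G) : h.a ∈ h.L := (mem_inf.1 (h.LiT ▸ (m1 : h.a ∈ closure {h.a, h.b}))).1

theorem bL (h : Hyp G) : h.b ∈ h.L :=
  (mem_inf.1 (h.LiT ▸ (subset_closure (by simp) : h.b ∈ closure {h.a, h.b}))).1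

theorem trl (hk : KitStmt.{u}) : TRLStmt.{u} := fun G _ _ h E u ea c16 hu c => by
  have K := hk G h.toHyp
  have B := b1 h.toHyp
  have zL := H81.LT.zL h.toHyp
  obtain ⟨g, e, hg⟩ := K.into u E c (fun x => ⟨1, Subtype.ext (by
    rw [pow_one, pow_two]; exact ea x.1 x.2)⟩) fun x hx =>
      mem_centralizer_singleton_iff.2 (H81.LT.ea_comm ea hx hu).eq
  have := K.j16 (cj g⁻¹ E) (fun x hx => by simpa [mul_assoc] using hg _ (mem_cj.1 hx))
    (fun x hx => cv_inj (g := g⁻¹) (by rw [cv_mul, cv_one]; exact ea _ (mem_cj.1 hx))) (by rw [card_cj, c16])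
  rw [← cj_cj_inv g E]
  refine Trl.conj (t := h.t) ?_
  rw [e]
  rcases this with e | e <;> rw [e]
  · exact side B (rr h.toHyp) K.cE.1 zL (aL h.toHyp) h.fL K.aut1 h.DP
      ⟨h.ty, cv_of' h.yz, cv_of' h.yf, cv_of' h.ya⟩
      ⟨h.tY.trans (by en B []), cv_of' h.Yz, cv_of' h.Yf, h.aY.trans (by en B [])⟩
      ⟨h.tm.trans (by en B []), h.zm, cv_of' h.mf, cv_of' h.ma⟩
  · have fn : cv h.f h.n = h.z := by rw [← cv_sq (x := h.z) h.nn]; exact congrArg (cv · h.n) h.zn.symm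
    have zn : cv h.z h.n = h.f := h.zn
    rw [← H81.LT.mir_E1]
    exact side (t := h.t) (z := h.z) (f := h.f * h.z) (a := h.b) (y := h.Y) (Y := h.y) (m := h.n)
      B.mir (rr (H81.LT.mir h.toHyp))
      ((congrArg (fun A : Subgroup G => Nat.card A) (H81.LT.mir_E1 h.toHyp)).trans K.cE.2.1) zL
      (bL h.toHyp) (fun x => h.fL ((mul_mem_cancel_right zL).1 x))
      (by have := K.aut2; rwa [← H81.LT.mir_E1] at this)
      (by have := h.DP; rwa [← H81.LT.mir_P] at this)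
      ⟨h.tY.trans (by en B []), cv_of' h.Yz, cv_of' (h.Yf.mul_right h.Yz), cv_of' h.Yb⟩
      ⟨h.ty.trans (by en B []), cv_of' h.yz, cv_of' (h.yf.mul_right h.yz), h.by.trans (by en B [])⟩
      ⟨h.tn.trans (by en B []), zn.trans (by en B []), by en B [fn, zn], cv_of' h.nb⟩

end Cfsg.Agent.H23.LtX
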