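import Cfsg.Agent.H23.LtXa
import Cfsg.Agent.H96.Pc
import Cfsg.Agent.H87.Transfer

/-! Tools for finite checks in a table group and their use in type X. -/

set_option autoImplicit false

namespace Cfsg.Agent.H23.LtX

open Subgroup Cfsg.Agent.H85 Cfsg.Agent.H93.LT Cfsg.Agent.H36.LTS Cfsg.Agent.H96

universe u

section Tab

variable {T : Pc}

theorem all_el {p : T.G → Prop} [DecidablePred p]
    (h : allLt T.n (fun i => decide (p (T.el i))) = true) : ∀ x, p x :=
  Pc.forall_of_allLt (fun x hx => by simpa using hx) h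

theorem card_count (p : T.G → Prop) [DecidablePred p] :
    Nat.card {x // p x} = Nat.count (fun i => p (T.el i)) T.n := by
  rw [Nat.count_eq_card_fintype, ← @Nat.card_eq_fintype_card _ (Nat.CountSet.fintype _ _)]
  exact Nat.card_congr ⟨fun x => ⟨x.1.val, x.1.lt, by simpa using x.2⟩, fun k => ⟨T.el k, k.2.2⟩,
    fun x => by simp, fun k => Subtype.ext (Pc.el_val k.2.1)⟩

variable [T.OK]

/-- The subgroup with the listed elements. -/
def lsub (L : List ℕ) (h : 0 ∈ L ∧ ∀ a ∈ L, T.inv a ∈ L ∧ ∀ b ∈ L, T.mul a b ∈ L) :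
    Subgroup T.G where
  carrier := {x | x.val ∈ L}
  one_mem' := h.1
  mul_mem' ha hb := (h.2 _ ha).2 _ hb
  inv_mem' ha := (h.2 _ ha).1

/-- The conjugate of `x` named by the table. -/
noncomputable def rp (tab : ℕ) (x : T.G) : T.G := cn x (T.el (look T.w T.m tab x.val))

theorem rp_conj (tab : ℕ) (x : T.G) : IsConj x (rp tab x) := isConj_cv _ _

end Tab

variable {G : Type u} [Group G] [Finite G] {M : Type} [Group M] {φ : M →* G}

omit [Finite G] in
theorem map_cn (φ : M →* G) (x g : M) : φ (cn x g) = cn (φ x) (φ g) := by simp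

theorem big_cent {h : Hyp G} (K : Kit h) (hφ : Function.Injective φ) (hM : IsPGroup 2 M) {u : M}
    (c : 64 < Nat.card {x // x * u = u * x}) : ¬ IsConj h.t (φ u) := fun d => by
  obtain ⟨g, -, hg⟩ := K.into (φ u) ((centralizer {u}).map φ) d ((hM.to_subgroup _).map φ) (by
    rintro _ ⟨x, hx, rfl⟩
    rw [mem_centralizer_singleton_iff, ← map_mul, ← map_mul, mem_centralizer_singleton_iff.1 hx])
  have := Nat.card_le_card_of_injective
    (fun x : {x // x * u = u * x} => (⟨cn (φ x) g, hg _ ⟨x, mem_centralizer_singleton_iff.2 x.2, rfl⟩⟩ : h.T))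
    fun x y e => Subtype.ext (hφ (H81.LT.cn_inj (congrArg Subtype.val e)))
  rcases K.cT with ⟨-, e⟩ | ⟨-, -, e⟩
  · rw [e, K.cT0] at this; omega
  · omega

theorem trl_map (hk : KitStmt.{u}) (h : XX G) (hφ : Function.Injective φ) {E : Subgroup M}
    (ea : EA E) (c : Nat.card E = 16) {u : M} (hu : u ∈ E) (d : IsConj h.t (φ u)) :
    Trl h.t (E.map φ) (φ u) :=
  trl hk G h (E.map φ) (φ u) (by rintro _ ⟨x, hx, rfl⟩; rw [← map_mul, ea x hx, map_one])
    (by rw [card_map_of_injective hφ, c]) ⟨u, hu, rfl⟩ d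

/-- the elements of an `E₁₆` outside `D` form a subgroup -/
theorem not_conj_mul (hk : KitStmt.{u}) (h : XX G) (hφ : Function.Injective φ) {E : Subgroup M}
    (ea : EA E) (c : Nat.card E = 16) {u v : M} (hu : u ∈ E) (hv : v ∈ E)
    (a : ¬ IsConj h.t (φ u)) (b : ¬ IsConj h.t (φ v)) : ¬ IsConj h.t (φ (u * v)) := fun d => by
  obtain ⟨W, -, -, H, -⟩ := trl_map hk h hφ ea c (mul_mem hu hv) d
  refine (H _ ⟨_, mul_mem hu hv, rfl⟩).1 d ?_
  rw [map_mul]
  exact mul_mem (not_not.1 fun x => a ((H _ ⟨u, hu, rfl⟩).2 x))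
    (not_not.1 fun x => b ((H _ ⟨v, hv, rfl⟩).2 x))

/-- two translations -/
theorem not_conj_two (hk : KitStmt.{u}) (h : XX G) (hφ : Function.Injective φ) {E : Subgroup M}
    (ea : EA E) (c : Nat.card E = 16) {u k l : M} (hu : u ∈ E) {p : M → Prop}
    (hp : ∀ x, p x → ¬ IsConj h.t (φ x))
    (h1 : ∀ x ∈ E, p (x * u) ∨ (x * k = k * x ∧ x * l = l * x))
    (h2 : (u⁻¹ * cn u k ∈ E ∧ p (u⁻¹ * cn u k)) ∧ (u⁻¹ * cn u l ∈ E ∧ p (u⁻¹ * cn u l)) ∧
      cn u k ≠ u ∧ cn u l ≠ u ∧ cn u k ≠ cn u l) : ¬ IsConj h.t (φ u) := fun d => by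
  obtain ⟨W, WE, -, H, H'⟩ := trl_map hk h hφ ea c hu d
  have a : ∀ x ∈ E, p x → φ x ∈ W := fun x hx e =>
    not_not.1 fun y => hp x e ((H _ ⟨x, hx, rfl⟩).2 y)
  have b : ∀ w ∈ W, w * φ k = φ k * w ∧ w * φ l = φ l * w := fun w hw => by
    obtain ⟨x, hx, rfl⟩ := WE hw
    rcases h1 x hx with e | e
    · have := a _ (mul_mem hx hu) e
      rw [map_mul, mul_mem_cancel_left hw] at this
      exact ((H _ ⟨u, hu, rfl⟩).1 d this).elim
    · simp only [← map_mul, e.1, e.2, and_self]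
  obtain ⟨e1, e2, e3, e4, e5⟩ := h2
  have := H' (φ k) (fun w hw => (b w hw).1) (φ l) (fun w hw => (b w hw).2)
    (by simpa using a _ e1.1 e1.2) (by simpa using a _ e2.1 e2.2)
  simp only [← map_cn, hφ.eq_iff] at this
  tauto

omit [Finite G] in
theorem idx (hφ : Function.Injective φ) (χ : M →* ℤˣ) {x : M} (hx : χ x ≠ 1) :
    (χ.ker.map φ).relIndex φ.range = 2 := by
  rw [MonoidHom.range_eq_map, relIndex_map_map_of_injective _ _ hφ, relIndex_top_right]
  refine index_eq_two_iff_exists_notMem_and.2 ⟨x, hx, fun b => ?_⟩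
  simp only [MonoidHom.mem_ker, map_mul]
  rcases Int.units_eq_one_or (χ b) with e | e <;> rcases Int.units_eq_one_or (χ x) with e' | e' <;>
    simp_all

/-- the classes that are known to miss `D` -/
theorem nD {h : XX G} (K : Kit h.toHyp) : ¬ IsConj h.t 1 ∧ ¬ IsConj h.t h.z ∧ ¬ IsConj h.t h.f ∧
    ¬ IsConj h.t h.a ∧ ¬ IsConj h.t h.b :=
  ⟨fun c => h.t1 (isConj_one_left.1 c), K.zD, h.DP _ (H81.LT.fP h.toHyp),
    fun c => K.zD (c.trans (isConj_iff.2 ⟨h.r, by rw [← h.zr]; group⟩)),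
    fun c => K.zD (c.trans (isConj_iff.2 ⟨h.s, by rw [← h.zs]; group⟩))⟩

/-- Thompson transfer on `e` when `e² = t` -/
theorem no_four (h : XX G) (tX : h.t ∈ h.X) (ee : h.e * h.e = h.t) (hφ : Function.Injective φ)
    (syl : IsSyl 2 φ.range ⊤) (χ : M →* ℤˣ) {x : M} (hx : χ x ≠ 1)
    (h1 : ∀ v, χ v = 1 → ¬ IsConj h.t (φ (v * v)))
    (h2 : ∀ v, χ v ≠ 1 → ¬ IsConj h.t (φ v)) : False := by
  have e2 : h.e ^ 2 = h.t := by rw [pow_two, ee]
  have e4 : h.e ^ 2 ^ 2 = 1 := by rw [pow_two 2, pow_mul, e2, pow_two, h.tt]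
  obtain ⟨K, n, i, -⟩ := H87.thompson_transfer (H := φ.range) (M := χ.ker.map φ) (x := h.e) (n := 2)
    (Nat.odd_iff.2 (by have := syl.not_dvd_relIndex; rw [relIndex_top_right] at this; omega))
    (idx hφ χ hx) e4
    (by
      rintro g ⟨v, hv, e⟩
      exact h1 v hv (isConj_iff.2 ⟨g, by rw [map_mul, e, ← ee]; group⟩))
    (by
      rintro g k hk ⟨v, e⟩
      refine ⟨v, not_not.1 fun hv => ?_, e⟩
      rcases hk.eq_or_lt with rfl | hk
      · exact h2 v hv (isConj_iff.2 ⟨g, by rw [e, pow_one, e2]⟩)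
      · obtain ⟨j, rfl⟩ := Nat.exists_eq_add_of_le (show 2 ≤ k from hk)
        rw [pow_add, pow_mul, e4, one_pow, mul_one, mul_inv_cancel, map_eq_one_iff _ hφ] at e
        exact hv (e ▸ one_mem _))
  have X : h.X = ⊤ := by rw [← h.XG, sup_eq_left.2 (zpowers_le.2 tX)]
  have s := h.Xs
  have a := h.Xa
  rw [X] at s a
  have s' : IsSimpleGroup G := (topEquiv (G := G)).symm.isSimpleGroup_congr.2 s
  rcases n.eq_bot_or_eq_top with rfl | rfl
  · rw [index_bot] at i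
    have : Fact (Nat.Prime 2) := ⟨Nat.prime_two⟩
    have := isCyclic_of_prime_card i
    exact a ⟨⟨fun x y => Subtype.ext (IsCyclic.commGroup.mul_comm x.1 y.1)⟩⟩
  · simp at i

end Cfsg.Agent.H23.LtX
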