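import Cfsg.Agent.H89.OlDefs

/-!
# Blocks with abelian defect group and an automizer of order three moving a Klein four-group
-/

set_option autoImplicit false
set_option linter.unusedSectionVars false

namespace Cfsg.Agent.H23.OlE3

open Subgroup Cfsg.Agent.H18 Cfsg.Agent.H17 Cfsg.Agent.H26.K64 Cfsg.Agent.H89.Ol MonoidAlgebra
open Cfsg.Agent.H19 (kk)
open scoped ComplexConjugate Classical

universe u

theorem arith {ι : Type*} (X : Finset ι) (d : ι → ℤ) {S l : ℤ} (hS0 : 0 < S) (hl0 : 0 < l)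
    (hS3 : ¬ 3 ∣ S) (hd0 : ∀ χ ∈ X, d χ ≠ 0) (d2 : ∀ χ ∈ X, S * (d χ * d χ) ≤ 32)
    (d3 : ∑ χ ∈ X, (d χ * d χ - 1) = S * (3 - l)) : l = 3 := by
  have d4 : ∀ χ ∈ X, 0 ≤ d χ * d χ - 1 := fun χ hχ => by
    have := mul_self_pos.2 (hd0 χ hχ)
    omega
  have d5 : ∀ χ ∈ X, (3 : ℤ) ∣ d χ * d χ - 1 := fun χ hχ => by
    have h1 := d2 χ hχ
    have h2 := Finset.single_le_sum d4 hχ
    rw [d3] at h2
    have h5 : d χ * d χ < 9 := by
      by_contra h6
      push Not at h6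
      have h7 : S ≤ 3 := by nlinarith
      nlinarith
    have h6 := hd0 χ hχ
    have h7 : d χ < 3 := by nlinarith
    have h8 : -3 < d χ := by nlinarith
    generalize d χ = n at h6 h7 h8
    interval_cases n <;> simp_all
  have d6 := Finset.dvd_sum d5
  have d7 := Finset.sum_nonneg d4
  rw [d3] at d6 d7
  have d8 : (3 : ℤ) ∣ 3 - l := (Int.prime_three.dvd_or_dvd d6).resolve_left hS3
  have d9 : (0 : ℤ) ≤ 3 - l := nonneg_of_mul_nonneg_right d7 hS0
  omega

section Grp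

variable {F : Type*} [Field F] {G : Type u} [Group G] [Fintype G] {P : Subgroup G} {e : F[G]}
  {t u v : G}

theorem nz (h : CY P e ⊤ t 3) : t ∈ Nz P := (NP_le _ _ _ h.mem).2

theorem conj_mem (h : CY P e ⊤ t 3) (hu : u ∈ P) : t * u * t⁻¹ ∈ P :=
  conj_mem_of_mem_Nz' (nz h) hu

theorem three (h : CY P e ⊤ t 3) (hu : u ∈ P) :
    t * (t * (t * u * t⁻¹) * t⁻¹) * t⁻¹ = u := by
  have h1 := mem_Cz.1 h.pow u hu
  calc t * (t * (t * u * t⁻¹) * t⁻¹) * t⁻¹ = (t ^ 3 * u) * (t ^ 3)⁻¹ := by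
        simp only [pow_succ, pow_zero, one_mul, mul_inv_rev, mul_assoc]
    _ = u := by rw [← h1, mul_inv_cancel_right]

theorem pow_cases (h : CY P e ⊤ t 3) (hu : u ∈ P) (i : ℕ) :
    t ^ i * u * (t ^ i)⁻¹ = u ∨ t ^ i * u * (t ^ i)⁻¹ = t * u * t⁻¹ ∨
      t ^ i * u * (t ^ i)⁻¹ = t * (t * u * t⁻¹) * t⁻¹ := by
  induction i with
  | zero => simp
  | succ i ih =>
    have e1 : t ^ (i + 1) * u * (t ^ (i + 1))⁻¹ = t * (t ^ i * u * (t ^ i)⁻¹) * t⁻¹ := by group
    rw [e1]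
    rcases ih with h1 | h1 | h1
    · exact Or.inr (Or.inl (by rw [h1]))
    · exact Or.inr (Or.inr (by rw [h1]))
    · exact Or.inl (by rw [h1, three h hu])

theorem np_conj (h : CY P e ⊤ t 3) (hu : u ∈ P) {g : G} (hg : g ∈ NP ⊤ P e) :
    g * u * g⁻¹ = u ∨ g * u * g⁻¹ = t * u * t⁻¹ ∨ g * u * g⁻¹ = t * (t * u * t⁻¹) * t⁻¹ := by
  obtain ⟨i, hi⟩ := h.gen g hg (mem_top _)
  have h1 := mem_Cz.1 hi u hu
  have e1 : g * u * g⁻¹ = t ^ i * u * (t ^ i)⁻¹ := by
    calc g * u * g⁻¹ = t ^ i * ((t ^ i)⁻¹ * g * u) * g⁻¹ := by group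
      _ = t ^ i * (u * ((t ^ i)⁻¹ * g)) * g⁻¹ := by rw [h1]
      _ = _ := by group
  rw [e1]
  exact pow_cases h hu i

theorem sq_fix (h : CY P e ⊤ t 3) (hu : u ∈ P) (h2 : t * (t * u * t⁻¹) * t⁻¹ = u) :
    t * u * t⁻¹ = u := by
  have := three h hu
  rwa [h2] at this

theorem cz_of_comm (h : CY P e ⊤ t 3) (hu : u ∈ P) (hn : t * u * t⁻¹ ≠ u) {g : G}
    (hg : g ∈ NP ⊤ P e) (hc : g * u = u * g) : g ∈ Cz P := by
  obtain ⟨i, hi⟩ := h.gen g hg (mem_top _)
  have h1 := mem_Cz.1 hi u hu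
  have e1 : t ^ i * u * (t ^ i)⁻¹ = u := by
    calc t ^ i * u * (t ^ i)⁻¹ = t ^ i * (u * ((t ^ i)⁻¹ * g)) * g⁻¹ := by group
      _ = g * u * g⁻¹ := by rw [h1]; group
      _ = u := by rw [hc, mul_inv_cancel_right]
  have h3 : t ^ (3 * (i / 3)) ∈ Cz P := by
    rw [pow_mul]
    exact pow_mem h.pow _
  have h4 : t ^ (i % 3) * u * (t ^ (i % 3))⁻¹ = u := by
    have h5 := mem_Cz.1 h3 u hu
    have e2 : t ^ i = t ^ (i % 3) * t ^ (3 * (i / 3)) := by rw [← pow_add, Nat.mod_add_div]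
    rw [e2] at e1
    calc t ^ (i % 3) * u * (t ^ (i % 3))⁻¹
        = t ^ (i % 3) * (u * t ^ (3 * (i / 3))) * (t ^ (i % 3) * t ^ (3 * (i / 3)))⁻¹ := by group
      _ = u := by rw [h5, ← mul_assoc, e1]
  have h6 : i % 3 = 0 := by
    have : i % 3 = 0 ∨ i % 3 = 1 ∨ i % 3 = 2 := by omega
    rcases this with h6 | h6 | h6
    · exact h6
    · rw [h6, pow_one] at h4
      exact (hn h4).elim
    · rw [h6] at h4
      exact (hn (sq_fix h hu (by rw [← h4]; nth_rewrite 2 [← h4]; group))).elim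
  have h7 : t ^ i ∈ Cz P := by
    rw [← Nat.mod_add_div i 3, h6, zero_add]
    exact h3
  simpa using mul_mem h7 hi

/-- An involution moved by `t`. -/
theorem exists_invol (hP : IsPGroup 2 P) (h : CY P e ⊤ t 3) :
    ∃ x ∈ P, x * x = 1 ∧ t * x * t⁻¹ ≠ x := by
  by_contra hn
  push Not at hn
  let τ : MulAut P := P.normalizerMonoidHom ⟨t, nz h⟩
  have hτ : ∀ a : P, ((τ a : P) : G) = t * a * t⁻¹ := fun a => rfl
  have h3 : τ ^ 3 = 1 := by
    ext a
    have : (τ ^ 3) a = τ (τ (τ a)) := rfl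
    rw [this, hτ, hτ, hτ, three h a.2]
    rfl
  have ho : ¬ 2 ∣ orderOf τ := fun h2 => by
    have := h2.trans (orderOf_dvd_of_pow_eq_one h3)
    omega
  have h1 := eq_one_of_fix_invol hP
    (fun a b => Subtype.ext (mem_Cz.1 (h.ab b.2) a a.2)) ho
    fun a ha => Subtype.ext (hn a a.2 (congrArg Subtype.val ha))
  refine h.nc (mem_Cz.2 fun q hq => ?_)
  have h4 := hτ ⟨q, hq⟩
  rw [h1] at h4
  have h5 : q = t * q * t⁻¹ := h4
  calc q * t = t * q * t⁻¹ * t := by rw [← h5]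
    _ = t * q := by group

theorem card_loc {H : Subgroup G} (hP : P ≤ H) (ht : t ∈ H) :
    CP (P.subgroupOf H) ⟨t, ht⟩ = CP P t := by
  rw [CP, CP, ← card_map_subtype]
  congr 2
  ext x
  rw [Subgroup.mem_map]
  constructor
  · rintro ⟨y, ⟨h1, h2⟩, rfl⟩
    exact ⟨h1, mem_Cz_zpowers.2 (congrArg Subtype.val (mem_Cz_zpowers.1 h2))⟩
  · rintro ⟨h1, h2⟩
    exact ⟨⟨x, hP h1⟩, ⟨h1, mem_Cz_zpowers.2 (Subtype.ext (mem_Cz_zpowers.1 h2))⟩, rfl⟩

theorem cen_key (hP : IsPGroup 2 P) {x z y g : G} (hx : x ∈ P) (hz1 : z ∈ P)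
    (hz2 : ∀ g, z * g = g * z) (hy1 : y ∈ P) (hy2 : ∀ g, y * g = g * y) (hg : g ^ 3 ∈ Cz P)
    (e1 : y * x = g * (z * x) * g⁻¹) : z * x = y * x := by
  have hc : ∀ w, z⁻¹ * y * w = w * (z⁻¹ * y) := fun w =>
    ((Commute.inv_left (hz2 w : Commute z w)).mul_left (hy2 w : Commute y w)).eq
  have e2 : g * x * g⁻¹ = z⁻¹ * y * x := by
    rw [mul_assoc z⁻¹, e1, ← mul_assoc g z, ← hz2 g]
    group
  have e3 : ∀ n : ℕ, g ^ n * x * (g ^ n)⁻¹ = (z⁻¹ * y) ^ n * x := by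
    intro n
    induction n with
    | zero => simp
    | succ n ihn =>
      have hn : g * (z⁻¹ * y) ^ n = (z⁻¹ * y) ^ n * g :=
        ((Commute.pow_left (hc g : Commute (z⁻¹ * y) g) n).eq).symm
      calc g ^ (n + 1) * x * (g ^ (n + 1))⁻¹ = g * (g ^ n * x * (g ^ n)⁻¹) * g⁻¹ := by group
        _ = g * (z⁻¹ * y) ^ n * x * g⁻¹ := by rw [ihn]; group
        _ = (z⁻¹ * y) ^ n * (g * x * g⁻¹) := by rw [hn]; group
        _ = (z⁻¹ * y) ^ (n + 1) * x := by rw [e2, pow_succ, mul_assoc ((z⁻¹ * y) ^ n)]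
  have e4 := e3 3
  rw [← mem_Cz.1 hg x hx, mul_inv_cancel_right] at e4
  have e5 : (z⁻¹ * y) ^ 3 = 1 := by simpa using e4.symm
  obtain ⟨k, hk⟩ := H20.isPElt_of_mem hP (mul_mem (inv_mem hz1) hy1)
  have e6 : orderOf (z⁻¹ * y) = 1 := by
    have h7 := orderOf_dvd_of_pow_eq_one e5
    rcases (Nat.dvd_prime Nat.prime_three).1 h7 with h8 | h8
    · exact h8
    · have h9 : 3 ∣ 2 ^ k := by rw [← hk, h8]
      have := Nat.prime_three.dvd_of_dvd_pow h9
      omega
  rw [orderOf_eq_one_iff, inv_mul_eq_one] at e6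
  rw [e6]

end Grp

variable {G : Type u} [Group G] [Fintype G] {M : Ideal AlgInt} {B : Set (IrrCharacter G)}
  {P : Subgroup G} {e : (kk M)[G]} {t u v : G}

theorem cw_norm {z : G} (hz : ∀ g, z * g = g * z) (χ : IrrCharacter G) :
    H20.cw χ z * conj (H20.cw χ z) = 1 := by
  have h1 := Complex.norm_eq_one_of_pow_eq_one (H20.cw_pow_eq_one χ hz (pow_orderOf_eq_one z))
    (orderOf_pos z).ne'
  rw [Complex.mul_conj, Complex.normSq_eq_norm_sq, h1]
  simp

theorem mc_cen {p : ℕ} [Fact p.Prime] (s : BS M p B P e) {z : G} (hz : z ∈ P)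
    (hc : ∀ g, z * g = g * z) (hv : v ∈ P) (χ : IrrCharacter G) :
    mc M p P e (z * v) χ.1 χ.1 = mc M p P e v χ.1 χ.1 := by
  rw [s.mc_mul hz hc hv, cw_norm hc, one_mul]

variable [Fintype (IrrCharacter G)]

theorem rank_cen {p : ℕ} [Fact p.Prime] (s : BS M p B P e) {z : G} (hz : z ∈ P)
    (hc : ∀ g, z * g = g * z) : blockRank p (lb M p P e z) = blockRank p B := by
  refine Nat.cast_injective (R := ℂ) ?_
  rw [← s.sum_mc_self hz, ← s.sum_mc_one]
  refine Finset.sum_congr rfl fun χ _ => ?_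
  rw [← mc_cen s hz hc P.one_mem, mul_one]

/-- The contributions of pairwise non-conjugate subsections add up to at most one. -/
theorem sum_mc_le {p : ℕ} [Fact p.Prime] (s : BS M p B P e) (T : Finset G)
    (hT : ∀ u ∈ T, u ∈ P) (hn : ∀ u ∈ T, ∀ v ∈ T, Fus p P e u v → u = v) {χ : IrrCharacter G}
    (hχ : χ ∈ B) : ∑ u ∈ T, (mc M p P e u χ.1 χ.1).re ≤ 1 := by
  have := s.charP
  let c : G → G → Prop := fun v u => Fus p P e u v ∧ ((∃ u' ∈ T, Fus p P e u' v) → u ∈ T)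
  let rep : G → G := fun v => Classical.epsilon (c v)
  have h1 : ∀ v ∈ P, c v (rep v) := fun v hv => Classical.epsilon_spec (by
    by_cases h : ∃ u' ∈ T, Fus p P e u' v
    · obtain ⟨u, hu, h⟩ := h; exact ⟨u, h, fun _ => hu⟩
    · exact ⟨v, s.refl hv, fun h' => (h h').elim⟩)
  have h2 : ∀ v w, Fus p P e v w → rep v = rep w := fun v w h => by
    simp only [rep, c, Fus.congr_right s.pair h]
  let t := (Finset.univ.filter (· ∈ P)).image rep
  have ht : ∀ u ∈ t, ∃ v ∈ P, rep v = u := fun u hu => by simpa [t] using hu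
  have h3 : T ⊆ t := fun u hu => Finset.mem_image.2 ⟨u, by simpa using hT u hu,
    hn _ ((h1 u (hT u hu)).2 ⟨u, hu, s.refl (hT u hu)⟩) u hu (h1 u (hT u hu)).1⟩
  have htP : ∀ u ∈ t, u ∈ P := fun u hu => by
    obtain ⟨v, hv, rfl⟩ := ht u hu; exact (h1 v hv).1.left
  have hcl := H11.isClassFunction_of_isCharacter (H11.irr_isCharacter χ)
  refine (Finset.sum_le_sum_of_subset_of_nonneg h3 fun u _ _ => s.mc_self_nonneg u hcl).trans
    (le_of_eq ?_)
  have h4 := s.classInner_eq t htP (fun _ => 1) (fun v hv => by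
    rw [show t.filter (Fus p P e · v) = {rep v} from ?_, Finset.sum_singleton]
    ext u
    rw [Finset.mem_filter, Finset.mem_singleton]
    refine ⟨fun ⟨h4, h5⟩ => ?_, fun h4 => h4 ▸ ⟨Finset.mem_image.2 ⟨v, by simpa using hv, rfl⟩,
      (h1 v hv).1⟩⟩
    obtain ⟨w, hw, rfl⟩ := ht u h4
    exact h2 _ _ (s.trans (s.symm (h1 w hw).1) h5)) hχ hcl
  simp only [one_mul] at h4
  rw [← Complex.re_sum, ← h4, H11.classInner_irr χ.2 χ.2, if_pos rfl, Complex.one_re]

omit [Fintype (IrrCharacter G)] in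
theorem fus_iff (fu : FUStmt.{u}) (s : BS M 2 B P e) (h : CY P e ⊤ t 3) (hu : u ∈ P) :
    Fus 2 P e u v ↔ v = u ∨ v = t * u * t⁻¹ ∨ v = t * (t * u * t⁻¹) * t⁻¹ := by
  rw [fu G M B P e u v s h.ab hu]
  constructor
  · rintro ⟨g, hg, rfl⟩
    exact np_conj h hu hg
  · rintro (rfl | rfl | rfl)
    · exact ⟨1, one_mem _, by group⟩
    · exact ⟨t, h.mem, rfl⟩
    · exact ⟨t * t, mul_mem h.mem h.mem, by group⟩

/-- The class number as a weighted sum of the ranks of the subsections. -/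
theorem card_eq (fu : FUStmt.{u}) (s : BS M 2 B P e) (h : CY P e ⊤ t 3) :
    ((fs B).card : ℂ) = ∑ u ∈ Finset.univ.filter (· ∈ P),
      (if t * u * t⁻¹ = u then 1 else 1 / 3 : ℂ) * blockRank 2 (lb M 2 P e u) := by
  have hP : ∀ u ∈ Finset.univ.filter (· ∈ P), u ∈ P := fun u hu => by simpa using hu
  rw [← Finset.sum_congr rfl fun u hu => congrArg _ (s.sum_mc_self (hP u hu))]
  simp only [Finset.mul_sum]
  rw [Finset.sum_comm, Finset.card_eq_sum_ones, Nat.cast_sum]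
  refine Finset.sum_congr rfl fun χ hχ => ?_
  rw [← s.classInner_eq _ hP _ (fun v hv => ?_) (mem_fs.1 hχ)
    (H11.isClassFunction_of_isCharacter (H11.irr_isCharacter χ)), Nat.cast_one,
    H11.classInner_irr χ.2 χ.2, if_pos rfl]
  have e1 : (Finset.univ.filter (· ∈ P)).filter (Fus 2 P e · v) =
      {v, t * v * t⁻¹, t * (t * v * t⁻¹) * t⁻¹} := by
    ext u
    simp only [Finset.mem_filter, Finset.mem_univ, true_and, Finset.mem_insert,
      Finset.mem_singleton]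
    rw [← fus_iff fu s h hv]
    exact ⟨fun h1 => s.symm h1.2, fun h1 => ⟨h1.right, s.symm h1⟩⟩
  rw [e1]
  by_cases hv1 : t * v * t⁻¹ = v
  · simp [hv1]
  · have h2 : t * (t * v * t⁻¹) * t⁻¹ ≠ v := fun h2 => hv1 (sq_fix h hv h2)
    have h3 : t * (t * v * t⁻¹) * t⁻¹ ≠ t * v * t⁻¹ := fun h3 =>
      hv1 (mul_left_cancel (mul_right_cancel h3))
    have h4 : t * (t * (t * v * t⁻¹) * t⁻¹) * t⁻¹ ≠ t * (t * v * t⁻¹) * t⁻¹ := by
      rw [three h hv]
      exact h2.symm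
    rw [Finset.sum_insert (by simp only [Finset.mem_insert, Finset.mem_singleton, not_or]; exact ⟨Ne.symm hv1, h2.symm⟩),
      Finset.sum_insert (by simp only [Finset.mem_singleton]; exact h3.symm),
      Finset.sum_singleton, if_neg hv1, if_neg h3, if_neg h4]
    norm_num

theorem step (fu : FUStmt.{u}) (nil : NILStmt.{u}) (s : BS M 2 B P e) (h : CY P e ⊤ t 3)
    (h32 : Nat.card P ≤ 32) (h4 : 4 * CP P t = Nat.card P)
    (ih : ∀ a ∈ P, t * a * t⁻¹ = a → (¬ ∀ g, a * g = g * a) → blockRank 2 (lb M 2 P e a) = 3) :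
    blockRank 2 B = 3 := by
  have hP2 : IsPGroup 2 P := s.pair.isP
  set PF := Finset.univ.filter (· ∈ P) with hPF
  set AF := PF.filter fun u => t * u * t⁻¹ = u with hAF
  set SF := AF.filter fun u => ∀ g, u * g = g * u with hSF
  have cP : PF.card = Nat.card P := by
    rw [Nat.card_eq_fintype_card, Fintype.card_subtype]
  have cA : AF.card = CP P t := by
    rw [CP, Nat.card_eq_fintype_card, Fintype.card_subtype]
    congr 1
    ext u
    simp only [hAF, hPF, Finset.mem_filter, Finset.mem_univ, true_and, Subgroup.mem_inf,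
      mem_Cz_zpowers, mul_inv_eq_iff_eq_mul]
  have mS : ∀ u, u ∈ SF ↔ u ∈ P ∧ ∀ g, u * g = g * u := fun u => by
    simp only [hSF, hAF, hPF, Finset.mem_filter, Finset.mem_univ, true_and]
    exact ⟨fun h1 => ⟨h1.1.1, h1.2⟩, fun h1 => ⟨⟨h1.1, by rw [← h1.2 t, mul_inv_cancel_right]⟩, h1.2⟩⟩
  have cS : SF.card = Nat.card (P ⊓ center G : Subgroup G) := by
    rw [Nat.card_eq_fintype_card, Fintype.card_subtype]
    congr 1
    ext u
    simp only [mS, Finset.mem_filter, Finset.mem_univ, true_and, Subgroup.mem_inf,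
      Subgroup.mem_center_iff]
    exact and_congr_right fun _ => ⟨fun h1 g => (h1 g).symm, fun h1 g => (h1 g).symm⟩
  have hS3 : ¬ 3 ∣ SF.card := fun h3 => by
    obtain ⟨n, hn⟩ := (IsPGroup.iff_card (p := 2)).1 (hP2.to_le (inf_le_left (b := center G)))
    rw [cS, hn] at h3
    have := (Nat.prime_three.dvd_of_dvd_pow h3)
    omega
  have hSpos : 0 < SF.card := by
    rw [cS]
    exact Nat.card_pos
  -- the class number
  have k1 := card_eq fu s h
  rw [← Finset.sum_filter_add_sum_filter_not PF (fun u => t * u * t⁻¹ = u),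
    ← Finset.sum_filter_add_sum_filter_not AF (fun u => ∀ g, u * g = g * u)] at k1
  have k2 : ∑ u ∈ SF, (if t * u * t⁻¹ = u then 1 else 1 / 3 : ℂ) * blockRank 2 (lb M 2 P e u) =
      SF.card * blockRank 2 B := by
    rw [Finset.sum_congr rfl (g := fun _ => (blockRank 2 B : ℂ)), Finset.sum_const, nsmul_eq_mul]
    intro u hu
    rw [if_pos (Finset.mem_filter.1 (Finset.mem_filter.1 hu).1).2, one_mul,
      rank_cen s ((mS u).1 hu).1 ((mS u).1 hu).2]
  have k3 : ∑ u ∈ AF.filter (fun u => ¬ ∀ g, u * g = g * u),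
      (if t * u * t⁻¹ = u then 1 else 1 / 3 : ℂ) * blockRank 2 (lb M 2 P e u) =
      (AF.filter (fun u => ¬ ∀ g, u * g = g * u)).card * 3 := by
    rw [Finset.sum_congr rfl (g := fun _ => (3 : ℂ)), Finset.sum_const, nsmul_eq_mul]
    intro u hu
    obtain ⟨h1, h2⟩ := Finset.mem_filter.1 hu
    obtain ⟨h5, h6⟩ := Finset.mem_filter.1 h1
    rw [if_pos h6, one_mul, ih u (Finset.mem_filter.1 h5).2 h6 h2]
    norm_num
  have k4 : ∑ u ∈ PF.filter (fun u => ¬ t * u * t⁻¹ = u),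
      (if t * u * t⁻¹ = u then 1 else 1 / 3 : ℂ) * blockRank 2 (lb M 2 P e u) =
      (PF.filter (fun u => ¬ t * u * t⁻¹ = u)).card * (1 / 3) := by
    rw [Finset.sum_congr rfl (g := fun _ => (1 / 3 : ℂ)), Finset.sum_const, nsmul_eq_mul]
    intro u hu
    obtain ⟨h1, h2⟩ := Finset.mem_filter.1 hu
    have h5 := (Finset.mem_filter.1 h1).2
    rw [if_neg h2, (nil G M B P e u s h.ab h5 fun g hg hc => cz_of_comm h h5 h2 hg hc).1]
    norm_num
  have c1 : SF.card + (AF.filter (fun u => ¬ ∀ g, u * g = g * u)).card = AF.card :=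
    Finset.card_filter_add_card_filter_not _
  have c2 : AF.card + (PF.filter (fun u => ¬ t * u * t⁻¹ = u)).card = PF.card :=
    Finset.card_filter_add_card_filter_not _
  rw [k2, k3, k4] at k1
  have k5 : 3 * (fs B).card = 3 * (SF.card * blockRank 2 B) +
      9 * (AF.filter (fun u => ¬ ∀ g, u * g = g * u)).card +
      (PF.filter (fun u => ¬ t * u * t⁻¹ = u)).card := by
    refine Nat.cast_injective (R := ℂ) ?_
    push_cast
    rw [k1]
    ring
  have k6 : (fs B).card + 3 * SF.card = SF.card * blockRank 2 B + Nat.card P := by omega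
  -- the column
  obtain ⟨x, hx, hx2, hxt⟩ := exists_invol hP2 h
  obtain ⟨d, hd, hd0⟩ := (nil G M B P e x s h.ab hx fun g hg hc => cz_of_comm h hx hxt hg hc).2 hx2
  have d1 : ∑ χ ∈ fs B, d χ * d χ = Nat.card P := by
    have := hd.sum_self s
    simp only [map_intCast] at this
    exact_mod_cast this
  have d2 : ∀ χ ∈ fs B, SF.card * (d χ * d χ) ≤ Nat.card P := by
    intro χ hχ
    have h1 := sum_mc_le s (SF.image (· * x)) (fun u hu => by
      obtain ⟨z, hz, rfl⟩ := Finset.mem_image.1 hu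
      exact mul_mem ((mS z).1 hz).1 hx) (fun u hu v hv hf => by
      obtain ⟨z, hz, rfl⟩ := Finset.mem_image.1 hu
      obtain ⟨y, hy, rfl⟩ := Finset.mem_image.1 hv
      obtain ⟨hz1, hz2⟩ := (mS z).1 hz
      obtain ⟨hy1, hy2⟩ := (mS y).1 hy
      have key := fun g => cen_key hP2 hx hz1 hz2 hy1 hy2 (g := g)
      rcases (fus_iff fu s h (mul_mem hz1 hx)).1 hf with h5 | h5 | h5
      · exact h5.symm
      · exact key t h.pow h5
      · refine key (t * t) ?_ (by rw [h5]; group)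
        rw [(Commute.refl t).mul_pow]
        exact mul_mem h.pow h.pow) (mem_fs.1 hχ)
    rw [Finset.sum_image (fun a _ b _ hab => mul_right_cancel hab),
      Finset.sum_congr rfl (g := fun _ => ((d χ * d χ : ℤ) : ℝ) / Nat.card P) (fun z hz => by
        rw [mc_cen s ((mS z).1 hz).1 ((mS z).1 hz).2 hx, hd.eq', map_intCast]
        norm_cast), Finset.sum_const, nsmul_eq_mul, ← mul_div_assoc,
      div_le_one (Nat.cast_pos.2 Nat.card_pos)] at h1
    exact_mod_cast h1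
  have hl : 0 < blockRank 2 B := H21.blockRank_pos s.hM s.hB
  have d3 : ∑ χ ∈ fs B, (d χ * d χ - 1) = SF.card * (3 - (blockRank 2 B : ℤ)) := by
    rw [Finset.sum_sub_distrib, d1, Finset.sum_const, nsmul_eq_mul, mul_one]
    have : ((fs B).card : ℤ) + 3 * SF.card = SF.card * blockRank 2 B + Nat.card P := by
      exact_mod_cast k6
    linarith
  exact_mod_cast arith (fs B) d (S := SF.card) (l := blockRank 2 B) (by exact_mod_cast hSpos)
    (by exact_mod_cast hl) (fun h1 => hS3 (by exact_mod_cast h1))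
    (fun χ hχ => hd0 χ (mem_fs.1 hχ))
    (fun χ hχ => (d2 χ hχ).trans (by exact_mod_cast h32)) d3

theorem aux (tr : TRStmt.{u}) (fu : FUStmt.{u}) (nil : NILStmt.{u}) (n : ℕ) :
    ∀ (G : Type u) [Group G] [Fintype G] (M : Ideal AlgInt) (B : Set (IrrCharacter G))
      (P : Subgroup G) (e : (kk M)[G]) (t : G), Nat.card G = n →
      BS M 2 B P e → CY P e ⊤ t 3 → Nat.card P ≤ 32 → 4 * CP P t = Nat.card P →
        blockRank 2 B = 3 := by
  induction n using Nat.strong_induction_on with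
  | _ n ih =>
    intro G _ _ M B P e t hn s h h32 h4
    have := Fintype.ofFinite (IrrCharacter G)
    refine step fu nil s h h32 h4 fun a ha hta hc => ?_
    have := Fintype.ofFinite (Cz (zpowers a))
    have hP : P ≤ Cz (zpowers a) := fun b hb => mem_Cz_zpowers.2 (mem_Cz.1 (h.ab hb) a ha)
    have ht : t ∈ Cz (zpowers a) := mem_Cz_zpowers.2 (mul_inv_eq_iff_eq_mul.1 hta).symm
    have h' : CY P e (Cz (zpowers a)) t 3 :=
      ⟨h.ab, h.mem, ht, h.pow, h.nc, fun g hg _ => h.gen g hg (mem_top _)⟩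
    have hlt : Nat.card (Cz (zpowers a)) < n := by
      rw [← hn]
      refine lt_of_le_of_ne (Subgroup.card_le_card_group _) fun h1 => hc fun g => ?_
      exact mem_Cz_zpowers.1 ((Subgroup.eq_top_of_card_eq _ h1).symm ▸ mem_top g)
    have hc' : Nat.card (P.subgroupOf (Cz (zpowers a))) = Nat.card P :=
      Nat.card_congr (Subgroup.subgroupOfEquivOfLe hP).toEquiv
    exact ih _ hlt _ M _ _ _ _ rfl
      (s.loc_bs (s.loc_of_le (s.sub ha) le_rfl (s.Cz_le_NP ha) hP))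
      (tr G M B P e a t 3 s ha h') (hc'.symm ▸ h32) (by rw [card_loc hP, hc', h4])

/-- **E3** -/
theorem e3 (tr : TRStmt.{u}) (fu : FUStmt.{u}) (nil : NILStmt.{u}) : E3Stmt.{u} :=
  fun G _ _ M B P e t => aux tr fu nil _ G M B P e t rfl

end Cfsg.Agent.H23.OlE3
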