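import Cfsg.Agent.H95.ParBase

/-! Project PAR, piece MOD: small modules in characteristic two. -/

set_option autoImplicit false

namespace Cfsg.Agent.H23.ParMod

open Subgroup Cfsg.Agent.H95.Par

theorem nine_dvd {α : Type} [Finite α] (σ : Equiv.Perm α) (h9 : σ ^ 9 = 1)
    (h3 : ∀ x, (σ ^ 3) x ≠ x) : 9 ∣ Nat.card α := by
  classical
  rcases isEmpty_or_nonempty α with h | ⟨⟨x⟩⟩
  · simp
  have o : orderOf σ = 3 ^ (1 + 1) :=
    haveI : Fact (Nat.Prime 3) := ⟨Nat.prime_three⟩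
    orderOf_eq_prime_pow (fun e => h3 x (by rw [pow_one] at e; rw [e]; rfl)) h9
  have := Nat.card_congr (MulAction.selfEquivOrbitsQuotientProd (G := zpowers σ) (X := α)
    fun y => eq_bot_iff.2 fun ⟨g, hg⟩ e => ?_)
  · rw [this, Nat.card_prod, Nat.card_zpowers, o]
    exact Dvd.intro_left _ rfl
  obtain ⟨i, hi, rfl⟩ := Finset.mem_image.1 (mem_zpowers_iff_mem_range_orderOf.1 hg)
  rw [o, Finset.mem_range] at hi
  have e' : (σ ^ i) y = y := e
  by_cases i0 : i = 0
  · subst i0; exact mem_bot.2 (Subtype.ext (pow_zero σ))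
  obtain ⟨j, hj⟩ : ∃ j, i * j % 9 = 3 := by
    have : ∀ i < 3 ^ (1 + 1), i ≠ 0 → ∃ j < 9, i * j % 9 = 3 := by decide
    exact let ⟨j, _, h⟩ := this i hi i0; ⟨j, h⟩
  refine absurd ?_ (h3 y)
  rw [← hj, ← pow_eq_pow_mod _ h9, pow_mul]
  exact Equiv.Perm.pow_apply_eq_self_of_apply_eq_self e' j

variable {X A : Type} [Group X] [AddCommGroup A] [DistribMulAction X A]

abbrev φ (A : Type) [AddCommGroup A] [DistribMulAction X A] (g : X) : AddMonoid.End A :=
  DistribMulAction.toAddMonoidEnd X A g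

/-- The vectors killed by `1 + y + y²`. -/
def NU (A : Type) [AddCommGroup A] [DistribMulAction X A] (y : X) : AddSubgroup A where
  carrier := {v | v + y • v + y • y • v = 0}
  zero_mem' := by simp
  add_mem' {a b} ha hb := by
    simp only [Set.mem_ofPred_eq, smul_add] at ha hb ⊢
    linear_combination (norm := abel) ha + hb
  neg_mem' {a} ha := by
    simp only [Set.mem_ofPred_eq, smul_neg] at ha ⊢
    linear_combination (norm := abel) -ha

theorem mem_NU {y : X} {v : A} : v ∈ NU A y ↔ v + y • v + y • y • v = 0 := Iff.rfl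

theorem mem_φ {y : X} {v : A} : v ∈ fx (φ A y) ↔ y • v = v := Iff.rfl

theorem cj_smul (g y : X) (v : A) : (g * y * g⁻¹) • g • v = g • y • v := by
  rw [mul_smul, mul_smul, inv_smul_smul]

theorem NU_cj (g y : X) (v : A) : g • v ∈ NU A (g * y * g⁻¹) ↔ v ∈ NU A y := by
  rw [mem_NU, mem_NU, cj_smul, cj_smul, ← smul_add, ← smul_add, smul_eq_zero_iff_eq]

theorem fx_cj (g y : X) (v : A) : g • v ∈ fx (φ A (g * y * g⁻¹)) ↔ v ∈ fx (φ A y) := by
  rw [mem_φ, mem_φ, cj_smul, smul_left_cancel_iff]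

theorem card_eq (g : X) {W W' : AddSubgroup A} (h : ∀ v, g • v ∈ W' ↔ v ∈ W) :
    Nat.card W = Nat.card W' :=
  Nat.card_congr ((MulAction.toPerm g).subtypeEquiv fun v => (h v).symm)

theorem cj_of {g y : X} (h : g * y = y * g) : g * y * g⁻¹ = y := by rw [h, mul_inv_cancel_right]

/-- the decomposition on a subgroup without fixed points of `c` -/
theorem dec (h : Dec3Stmt) [Finite A] (h2 : ∀ v : A, v + v = 0) {W : AddSubgroup A} {c b : X}
    (hW : W ≤ NU A c) (c3 : c ^ 3 = 1) (b3 : b ^ 3 = 1) (cb : b * c = c * b)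
    (hc : ∀ v ∈ W, c • v ∈ W) (hb : ∀ v ∈ W, b • v ∈ W) :
    Nat.card W = Nat.card ↥(W ⊓ fx (φ A b)) * Nat.card ↥(W ⊓ fx (φ A (b * c))) *
      Nat.card ↥(W ⊓ fx (φ A (b * c * c))) := by
  have k : ∀ {y : X}, y ^ 3 = 1 → ∀ v : A, y • y • y • v = v := fun {y} e v => by
    rw [← mul_smul, ← mul_smul, ← pow_three', e, one_smul]
  have := h A W (φ A c) (φ A b) h2 hc hb (fun v _ => k c3 v) (fun v _ => k b3 v)
    fun v _ => show c • b • v = b • c • v by rw [← mul_smul, ← cb, mul_smul]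
  have e : W ⊓ fx (φ A c) = ⊥ := eq_bot_iff.2 fun v hv => by
    have h1 := mem_NU.1 (hW hv.1)
    have h3 : c • v = v := hv.2
    rwa [h3, h3, h2, zero_add] at h1
  rw [e, bot_inf_eq, AddSubgroup.card_bot, one_pow, mul_one, one_mul, ← map_mul, ← map_mul,
    ← map_mul, mul_assoc c, ← cb, ← mul_assoc c, ← cb] at this
  exact this

/-- on the fixed points of `x` the element `y` acts as `c²` -/
theorem NU_sq {x y c : X} (c3 : c ^ 3 = 1) (xc : x * c = c * x)
    (hy : ∀ v : A, x • v = v → y • v = c • c • v) :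
    NU A y ⊓ fx (φ A x) = NU A c ⊓ fx (φ A x) := by
  ext v
  simp only [AddSubgroup.mem_inf, mem_NU, mem_φ]
  refine and_congr_left fun e => ?_
  have e1 : ∀ u : A, x • u = u → x • c • u = c • u := fun u e => by
    rw [← mul_smul, xc, mul_smul, e]
  have e2 : c • c • c • c • v = c • v := by
    rw [← mul_smul, ← mul_smul, ← pow_three', c3, one_smul]
  rw [hy v e, hy _ (e1 _ (e1 _ e)), e2, add_right_comm]

theorem mod_add (h : Dec3Stmt) [Finite A] (D : SD X) (h2 : ∀ v : A, v + v = 0)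
    (hc : Nat.card A < 2 ^ 54) (v : A) : D.c • v = v := by
  have nc : ∀ {g : X}, g * D.c = D.c * g → ∀ v : A, g • v ∈ NU A D.c ↔ v ∈ NU A D.c :=
    fun {g} e v => by have := NU_cj g D.c v; rwa [cj_of e] at this
  have nz : ∀ {g : X}, g * D.z = D.z * g → ∀ v : A, g • v ∈ fx (φ A D.z) ↔ v ∈ fx (φ A D.z) :=
    fun {g} e v => by have := fx_cj g D.z v; rwa [cj_of e] at this
  have nW : ∀ {g : X}, g * D.c = D.c * g → g * D.z = D.z * g → ∀ v : A,
      g • v ∈ NU A D.c ⊓ fx (φ A D.z) ↔ v ∈ NU A D.c ⊓ fx (φ A D.z) :=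
    fun e e' v => and_congr (nc e v) (nz e' v)
  have c4 : D.c * D.c * D.c = 1 := by rw [← pow_three', D.c3]
  have d1 := dec h h2 (W := NU A D.c) le_rfl D.c3 D.z3 D.zc (fun v => (nc rfl v).2)
    fun v => (nc D.zc v).2
  have e1 : Nat.card ↥(NU A D.c ⊓ fx (φ A D.z)) = Nat.card ↥(NU A D.c ⊓ fx (φ A (D.z * D.c))) := by
    rw [← NU_sq (x := D.z * D.c) (y := D.z * D.z * D.c) D.c3 (by rw [← mul_assoc, ← D.zc])
      fun v e => by
      have : D.z * D.z * D.c = D.c * D.c * ((D.z * D.c) * (D.z * D.c)) := by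
        rw [D.zc, mul_assoc D.c D.z, ← mul_assoc (D.c * D.c), c4, one_mul, ← D.zc, mul_assoc]
      rw [this, mul_smul, mul_smul, mul_smul, e, e], ← D.g1c, ← D.g1z]
    exact card_eq D.g1 fun v => and_congr (NU_cj _ _ v) (fx_cj _ _ v)
  have e2 : Nat.card ↥(NU A D.c ⊓ fx (φ A D.z)) =
      Nat.card ↥(NU A D.c ⊓ fx (φ A (D.z * D.c * D.c))) := by
    rw [← NU_sq (x := D.z * D.c * D.c) (y := D.z * D.c) D.c3
      (by rw [← mul_assoc, ← mul_assoc, ← D.zc]) fun v e => by
      have : D.z * D.c = D.c * D.c * (D.z * D.c * D.c) := by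
        rw [D.zc, ← mul_assoc, ← mul_assoc, c4, one_mul, D.zc]
      rw [this, mul_smul, mul_smul, e], ← D.g2z, ← D.g2c]
    exact card_eq D.g2 fun v => and_congr (NU_cj _ _ v) (fx_cj _ _ v)
  rw [← e1, ← e2] at d1
  have d2 := dec h h2 (W := NU A D.c ⊓ fx (φ A D.z)) inf_le_left D.c3 D.a3 D.ca.symm
    (fun v => (nW rfl D.zc.symm v).2) fun v => (nW D.ca.symm D.za.symm v).2
  have e3 : ∀ b : X, Nat.card ↥(NU A D.c ⊓ fx (φ A D.z) ⊓ fx (φ A b)) =
      Nat.card ↥(NU A D.c ⊓ fx (φ A D.z) ⊓ fx (φ A (D.w1 * b * D.w1⁻¹))) := fun b =>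
    card_eq D.w1 fun v => and_congr (nW D.w1c D.w1z v) (fx_cj _ _ v)
  have e4 := e3 D.a
  have e5 := e3 (D.a * D.c)
  rw [← conj_mul, cj_of D.w1c, D.w1a] at e5
  rw [D.w1a] at e4
  rw [← e5, ← e4] at d2
  set Y := NU A D.c ⊓ fx (φ A D.z) ⊓ fx (φ A D.a) with hY
  have nY : ∀ v : A, D.w0 • v ∈ Y ↔ v ∈ Y := fun v => by
    have e := nW (by rw [← D.w03, ← pow_succ, ← pow_succ']) D.w0z v
    have e' := fx_cj D.w0 D.a v
    rw [D.w0a, mem_φ] at e'
    rw [hY, AddSubgroup.mem_inf, AddSubgroup.mem_inf (p := _ ⊓ _), ← e, ← e']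
    refine and_congr_right fun k => ?_
    rw [mem_φ, mul_smul, mem_φ.1 k.2]
  have h9 : 9 ∣ Nat.card {v : A // v ∈ Y ∧ v ≠ 0} := by
    refine nine_dvd ((MulAction.toPermHom X A D.w0).subtypePerm fun v =>
      and_congr (nY v) (smul_ne_zero_iff_ne D.w0)) ?_ fun v e => v.2.2 ?_
    · rw [Equiv.Perm.subtypePerm_pow]
      ext v
      change (MulAction.toPermHom X A D.w0 ^ 9) v.1 = v.1
      rw [← map_pow, show 9 = 3 * 3 from rfl, pow_mul, D.w03, D.c3, map_one]
      rfl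
    · rw [Equiv.Perm.subtypePerm_pow] at e
      have e1 : (MulAction.toPermHom X A D.w0 ^ 3) v.1 = v.1 := congrArg Subtype.val e
      rw [← map_pow, D.w03] at e1
      have h3 : D.c • v.1 = v.1 := e1
      have h1 := mem_NU.1 v.2.1.1.1
      rwa [h3, h3, h2, zero_add] at h1
  have cY : Nat.card Y = Nat.card {v : A // v ∈ Y ∧ v ≠ 0} + 1 := by
    have : (Y : Set A) = insert 0 {v | v ∈ Y ∧ v ≠ 0} := by
      ext v
      by_cases e : v = 0 <;> simp [e]
    change (Y : Set A).ncard = ({v | v ∈ Y ∧ v ≠ 0} : Set A).ncard + 1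
    conv_lhs => rw [this]
    exact Set.ncard_insert_of_notMem (by simp)
  obtain ⟨m, hm⟩ : ∃ m, Nat.card Y = 2 ^ m := by
    have : Fact (Nat.Prime 2) := ⟨Nat.prime_two⟩
    exact (IsPGroup.iff_card (G := Multiplicative Y)).1 fun y =>
      ⟨1, by rw [pow_one, pow_two]; exact Subtype.ext (h2 _)⟩
  have le : Nat.card (NU A D.c) ≤ Nat.card A := AddSubgroup.card_le_card_addGroup _
  have m0 : m = 0 := by
    rw [d1, d2, hm] at le
    simp only [← pow_add] at le
    have := (Nat.pow_lt_pow_iff_right one_lt_two).1 (le.trans_lt hc)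
    have m6 : m < 6 := by omega
    interval_cases m <;> omega
  rw [d2, hm, m0] at d1
  have b := AddSubgroup.eq_bot_of_card_eq _ d1
  have : v + D.c • v ∈ NU A D.c := by
    have e : D.c • D.c • D.c • v = v := by rw [← mul_smul, ← mul_smul, c4, one_smul]
    rw [mem_NU, smul_add, smul_add, e]
    linear_combination (norm := abel) h2 v + h2 (D.c • v) + h2 (D.c • D.c • v)
  rw [b, AddSubgroup.mem_bot] at this
  linear_combination (norm := abel) this - h2 v

/-- **MOD** -/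
theorem mod (h : Dec3Stmt) : ModStmt := by
  intro X V _ _ _ D ρ h2 hc
  let : CommGroup V := { ‹Group V› with
    mul_comm := fun a b => by
      have := inv_eq_of_mul_eq_one_right (h2 (a * b))
      rwa [mul_inv_rev, inv_eq_of_mul_eq_one_right (h2 a), inv_eq_of_mul_eq_one_right (h2 b),
        eq_comm] at this }
  let : DistribMulAction X (Additive V) :=
    { smul := fun g v => Additive.ofMul (ρ g v.toMul)
      one_smul := fun v => show Additive.ofMul (ρ 1 v.toMul) = v by rw [map_one]; rfl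
      mul_smul := fun g k v => show Additive.ofMul (ρ (g * k) v.toMul) = _ by rw [map_mul]; rfl
      smul_zero := fun g => map_one (ρ g)
      smul_add := fun g a b => map_mul (ρ g) a.toMul b.toMul }
  ext v
  exact mod_add (A := Additive V) h D h2 hc (Additive.ofMul v)

end Cfsg.Agent.H23.ParMod
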