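import Mathlib
import Cfsg.Agent.H23.Real
import Cfsg.Agent.H72.DetExt
import Cfsg.Agent.H1.Card
import Cfsg.Agent.S4729
import Cfsg.Prelude.Def_DegreeGraph

/-!
# The common divisor graph on relative degree sets
-/

set_option autoImplicit false

namespace Cfsg.Agent.H23

open Cfsg Subgroup MulAction
open scoped ComplexConjugate

variable {G : Type*} [Group G] [Finite G]

theorem pow_deg_eq_one {ξ : G → ℂ} (hξ : IsIrrCharacter G ξ) {m : G} (hm : m ∈ commutator G)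
    {ω : ℂ} (hω : ‖ω‖ = 1) (h : ξ m = ω * ξ 1) : ω ^ charDegree ξ = 1 := by
  have h0 := H24.irr_deg hξ
  have h1 := H24.deg_ne_zero hξ
  obtain ⟨μ, hμ⟩ := H72.exists_monoidHom_detChar (H11.isCharacter_of_irr hξ)
  have h2 : detChar ξ m = 1 := by
    rw [hμ]; simp only; rw [Abelianization.commutator_subset_ker μ hm, Units.val_one]
  obtain ⟨n, ρ, -, rfl⟩ := hξ
  rw [ρ.char_one] at h h0
  obtain ⟨w, hw⟩ := (H12.norm_character_eq_iff ρ m).1 (by rw [h]; simp [hω])
  rw [H72.detChar_character, hw, LinearMap.det_smul, LinearMap.det_id, mul_one] at h2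
  rw [H12.character_eq_of_eq_smul_id ρ m w hw, h0] at h
  rw [← mul_right_cancel₀ (by exact_mod_cast h1) h, ← h2]
  congr 1
  exact_mod_cast h0.symm

namespace RG

variable (N : Subgroup G) [N.Normal]

/-- Conjugation action on irreducible characters of a normal subgroup. -/
@[reducible] def irrAct : MulAction G (IrrCharacter N) where
  smul g := cj N ⟨g, le_normalizer' (mem_top g)⟩
  one_smul := cj_one N
  mul_smul x y := cj_mul N ⟨x, _⟩ ⟨y, _⟩

/-- The group of linear characters. -/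
def Lin (A : Type*) [Group A] := A →* ℂˣ

noncomputable instance {A : Type*} [Group A] : CommGroup (Lin A) :=
  inferInstanceAs (CommGroup (A →* ℂˣ))

/-- The underlying homomorphism. -/
def Lin.val {A : Type*} [Group A] (a : Lin A) : A →* ℂˣ := a

theorem Lin.ext {A : Type*} [Group A] {a b : Lin A} (h : ∀ x, (a.val x : ℂ) = b.val x) : a = b :=
  MonoidHom.ext fun x => Units.ext (h x)

@[simp] theorem Lin.val_mul {A : Type*} [Group A] (a b : Lin A) (x : A) :
    (a * b).val x = a.val x * b.val x := rfl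
@[simp] theorem Lin.val_pow {A : Type*} [Group A] (a : Lin A) (k : ℕ) (x : A) :
    (a ^ k).val x = a.val x ^ k := rfl
@[simp] theorem Lin.val_one {A : Type*} [Group A] (x : A) : (1 : Lin A).val x = 1 := rfl

/-- Conjugation action on linear characters of a normal subgroup. -/
@[reducible] noncomputable def linAct' : MulDistribMulAction G (Lin N) where
  smul g lam :=
    lam.val.comp (cjAut N (⟨g, le_normalizer' (mem_top g)⟩ : normalizer (N : Set G))⁻¹)
  one_smul lam := MonoidHom.ext fun n => congrArg lam.val (Subtype.ext (by simp [coe_cjAut]))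
  mul_smul x y lam :=
    MonoidHom.ext fun n => congrArg lam.val (Subtype.ext (by simp [coe_cjAut, mul_assoc]))
  smul_mul _ _ _ := rfl
  smul_one _ := rfl

/-- Multiplication action of the linear characters. -/
@[reducible] noncomputable def mulAct (A : Type*) [Group A] [Finite A] :
    MulAction (Lin A) (IrrCharacter A) := linAct A

attribute [local instance] irrAct linAct' mulAct

variable {N}

theorem smul_smul' (g : G) (a : Lin N) (θ : IrrCharacter N) :
    g • a • θ = (g • a) • g • θ := rfl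

omit [N.Normal] in
theorem lsmul_apply (a : Lin N) (θ : IrrCharacter N) (n : N) :
    (a • θ).1 n = θ.1 n * a.val n := rfl

omit [N.Normal] in
theorem deg_lsmul (a : Lin N) (θ : IrrCharacter N) :
    charDegree (a • θ).1 = charDegree θ.1 := H24.deg_congr (by simp [lsmul_apply])

omit [Finite G] in
theorem deg_smul (g : G) (θ : IrrCharacter N) : charDegree (g • θ).1 = charDegree θ.1 :=
  H24.deg_congr (cj_apply_one _ _ _)

omit [N.Normal] in
theorem pow_eq_one_of_smul_eq {a : Lin N} {θ : IrrCharacter N} (h : a • θ = θ) :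
    a ^ charDegree θ.1 = 1 := Lin.ext fun n => by
  have h1 := H72.detChar_linear_mul (H11.irr_isCharacter θ) (H24.irr_deg θ.2) a.val n
  obtain ⟨μ, hμ⟩ := H72.exists_monoidHom_detChar (H11.irr_isCharacter θ)
  rw [show (fun g => (a.val g : ℂ) * θ.1 g) = θ.1 from funext fun g =>
    (mul_comm _ _).trans (congrFun (congrArg Subtype.val h) g), hμ, eq_comm,
    mul_eq_right₀ (Units.ne_zero _)] at h1
  simpa using h1

omit [N.Normal] in
theorem eq_one_of_smul_eq {p : ℕ} (hp : p.Prime) {a : Lin N} (ha : a ^ p = 1)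
    {θ : IrrCharacter N} (hd : ¬ p ∣ charDegree θ.1) (h : a • θ = θ) : a = 1 :=
  (pow_eq_one_iff_of_coprime ((Nat.Prime.coprime_iff_not_dvd hp).2 hd)).1
    ⟨ha, pow_eq_one_of_smul_eq h⟩

/-- `χ` lies over `θ`. -/
def Ov (χ : IrrCharacter G) (θ : IrrCharacter N) : Prop := mult le_top (topIrr χ) θ ≠ 0

theorem exists_ov (θ : IrrCharacter N) : ∃ χ, Ov χ θ := by
  obtain ⟨χ, h⟩ := exists_over le_top θ
  obtain ⟨χ, rfl⟩ := topIrr.surjective χ
  exact ⟨χ, h⟩

theorem Ov.dvd {χ : IrrCharacter G} {θ : IrrCharacter N} (h : Ov χ θ) :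
    (stabilizer G θ).index * charDegree θ.1 ∣ charDegree χ.1 := by
  have : stabilizer G θ = invStab N θ.1 := Subgroup.ext fun g =>
    (cj_eq_self_iff _ θ).trans ⟨fun h => ⟨le_normalizer' (mem_top g), h⟩, fun h => h.2⟩
  rw [this, ← deg_topIrr χ, deg_eq_clifford le_top le_normalizer' h, relIndex_top_right, mul_assoc]
  exact dvd_mul_left _ _

theorem Ov.exists_sum [Fintype G] {χ : IrrCharacter G} {θ : IrrCharacter N} (h : Ov χ θ) :
    ∃ u : ℕ, charDegree χ.1 = u * charDegree θ.1 ∧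
      ∀ n : N, (Nat.card G : ℂ) * χ.1 n = u * ∑ g : G, (g • θ).1 n := by
  haveI := Fintype.ofFinite (IrrCharacter N)
  have h1 : ∀ n : N, (Nat.card G : ℂ) * χ.1 n =
      (∑ φ : IrrCharacter N, mult le_top (topIrr χ) φ : ℕ) * ∑ g : G, (g • θ).1 n := fun n => by
    have h2 : ∀ g : G, χ.1 n = ∑ φ : IrrCharacter N,
        (mult le_top (topIrr χ) φ : ℂ) * (g • φ).1 n := fun g => by
      rw [← H11.isClassFunction_of_irr χ.2 n g⁻¹]
      exact res_apply_eq_sum le_top (topIrr χ) (cjAut N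
        (⟨g, le_normalizer' (mem_top g)⟩ : normalizer (N : Set G))⁻¹ n)
    rw [Nat.card_eq_fintype_card, ← nsmul_eq_mul, ← Finset.card_univ, ← Finset.sum_const,
      Finset.sum_congr rfl fun g _ => h2 g, Finset.sum_comm, Nat.cast_sum, Finset.sum_mul]
    refine Finset.sum_congr rfl fun φ _ => ?_
    rw [← Finset.mul_sum]
    by_cases h3 : mult le_top (topIrr χ) φ = 0
    · simp [h3]
    obtain ⟨x, rfl⟩ := exists_cj_eq_of_mult_ne_zero le_top le_normalizer' h h3
    congr 1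
    exact Fintype.sum_equiv (Equiv.mulRight (x : G)) _ _ fun g =>
      congrArg (fun φ : IrrCharacter N => φ.1 n) (mul_smul g (x : G) θ).symm
  refine ⟨_, ?_, h1⟩
  have h2 := h1 1
  simp only [H24.irr_deg (_ • θ).2, deg_smul, Finset.sum_const, Finset.card_univ,
    ← Nat.card_eq_fintype_card, nsmul_eq_mul, OneMemClass.coe_one, H24.irr_deg χ.2] at h2
  rw [mul_left_comm] at h2
  exact_mod_cast mul_left_cancel₀ (H11.card_ne_zero G) h2

/-- The irreducible character of a linear character. -/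
noncomputable def lin (a : Lin N) : IrrCharacter N := a • oneIrr N

omit [N.Normal] in
theorem lin_apply (a : Lin N) (n : N) : (lin a).1 n = a.val n := by
  simp [lin, lsmul_apply, oneIrr]

omit [N.Normal] in
theorem lin_inj {a b : Lin N} (h : lin a = lin b) : a = b :=
  Lin.ext fun n => by rw [← lin_apply, h, lin_apply]

omit [N.Normal] in
theorem lin_one : lin (1 : Lin N) = oneIrr N := one_smul _ _

omit [N.Normal] in
theorem lin_ne {a : Lin N} (h : a ≠ 1) : lin a ≠ oneIrr N := fun e => h (lin_inj (e.trans lin_one.symm))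

omit [N.Normal] in
theorem deg_lin (a : Lin N) : charDegree (lin a).1 = 1 := H24.deg_eq (by simp [lin_apply])

theorem stab_lin (a : Lin N) : stabilizer G (lin a) = stabilizer G a :=
  Subgroup.ext fun _ => ⟨fun h => lin_inj h, fun h => congrArg lin h⟩

theorem Ov.pow_eq_one (hN : N ≤ commutator G) {ξ : IrrCharacter G} {μ a : Lin N}
    (hμ : ∀ g : G, g • μ = μ) {k : ℕ} (ha : a ^ k = 1) (h : Ov ξ (lin (μ * a))) :
    μ ^ (k * charDegree ξ.1) = 1 := Lin.ext fun n => by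
  haveI := Fintype.ofFinite G
  obtain ⟨u, h1, h2⟩ := h.exists_sum
  have h3 := h2 (n ^ k)
  have h4 : ∀ g : G, (g • lin (μ * a)).1 (n ^ k) = μ.val (n ^ k) := fun g => by
    change (lin (g • (μ * a))).1 _ = _
    rw [lin_apply, smul_mul', hμ, Lin.val_mul, map_pow (g • a).val, ← Lin.val_pow,
      ← smul_pow', ha, smul_one, Lin.val_one, mul_one]
  rw [deg_lin, mul_one] at h1
  simp only [h4, Finset.sum_const, Finset.card_univ, ← Nat.card_eq_fintype_card,
    nsmul_eq_mul] at h3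
  rw [mul_left_comm, ← h1, mul_comm (charDegree _ : ℂ), ← H24.irr_deg ξ.2] at h3
  simpa [pow_mul] using pow_deg_eq_one ξ.2 (hN (n ^ k).2) (H11.norm_monoidHom_apply μ.val _)
    (mul_left_cancel₀ (H11.card_ne_zero G) h3)

theorem Ov.dvd_of_inv (hN : N ≤ commutator G) {p : ℕ} (hp : p.Prime) {χ ξ : IrrCharacter G}
    {θ : IrrCharacter N} {a : Lin N} (ha : ∀ g : G, g • a = a) (ha1 : a ≠ 1) (hap : a ^ p = 1)
    (h : Ov χ θ) (h' : Ov ξ (a • θ)) : p ∣ charDegree χ.1 * charDegree ξ.1 := by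
  haveI := Fintype.ofFinite G
  obtain ⟨u, h1, h2⟩ := h.exists_sum
  obtain ⟨v, h3, h4⟩ := h'.exists_sum
  have hd : ∀ (χ : IrrCharacter G) (n : N), detChar (fun n : N => χ.1 n) n = 1 := fun χ n => by
    obtain ⟨μ, hμ⟩ := H72.exists_monoidHom_detChar (H11.irr_isCharacter χ)
    rw [← H72.detChar_of_res N (H11.irr_isCharacter χ) (fun _ => rfl), hμ]
    simp only
    rw [Abelianization.commutator_subset_ker μ (hN n.2), Units.val_one]
  have hc : ∀ χ : IrrCharacter G, IsCharacter N fun n : N => χ.1 n := fun χ =>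
    H11.isCharacter_comp (H11.irr_isCharacter χ) N.subtype
  have e : (u : ℂ) • (fun n : N => ξ.1 n) = (v : ℂ) • fun n : N => (a.val n : ℂ) * χ.1 n :=
    funext fun n => mul_left_cancel₀ (H11.card_ne_zero G) (by
      have := h4 n
      simp only [smul_smul', ha, lsmul_apply, ← Finset.sum_mul] at this
      simp only [Pi.smul_apply, smul_eq_mul]
      linear_combination (u : ℂ) * this - v * a.val n * h2 n)
  have h5 : a ^ (charDegree χ.1 * v) = 1 := Lin.ext fun n => by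
    have : detChar _ n = detChar _ n := congrArg (detChar · n) e
    rw [S4729.detChar_nsmul (hc ξ), S4729.detChar_nsmul (χ := fun n => (a.val n : ℂ) * χ.1 n)
      (H11.isCharacter_mul (H11.isCharacter_monoidHom a.val) (hc χ)), hd,
      H72.detChar_linear_mul (hc χ) (H24.irr_deg χ.2), hd] at this
    simpa [pow_mul] using this.symm
  haveI := Fact.mk hp
  rw [← orderOf_dvd_iff_pow_eq_one, orderOf_eq_prime hap ha1] at h5
  exact h5.trans (mul_dvd_mul_left _ (h3 ▸ dvd_mul_right _ _))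

theorem Ov.mem {χ : IrrCharacter G} {θ : IrrCharacter N} (h : Ov χ θ) (h1 : θ ≠ oneIrr N) :
    charDegree χ.1 ∈ relCharDegrees N := by
  haveI := Fintype.ofFinite N
  refine ⟨χ, by_contra fun h2 => h1 (Subtype.ext ?_), rfl⟩
  push Not at h2
  have hc : IsCharacter N fun n : N => χ.1 n :=
    H11.isCharacter_comp (H11.irr_isCharacter χ) N.subtype
  refine H11.irr_eq_one_of_charKer_eq_top θ.2 (eq_top_iff.2 (le_trans (fun n _ => ?_)
    (H11.charKer_le_of_constituent hc θ.2 (by rw [mult_topIrr]; exact_mod_cast h))))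
  exact (H11.mem_charKer_iff hc).2 (h2 n n.2)

theorem exists_ov_of_mem {d : ℕ} (h : d ∈ relCharDegrees N) :
    ∃ (χ : IrrCharacter G) (θ : IrrCharacter N), Ov χ θ ∧ θ ≠ oneIrr N ∧ charDegree χ.1 = d := by
  obtain ⟨χ, ⟨x, hx, h1⟩, rfl⟩ := h
  obtain ⟨θ, hθ⟩ := exists_under (le_top : N ≤ ⊤) (topIrr χ)
  refine ⟨χ, θ, hθ, ?_, rfl⟩
  rintro rfl
  have := res_eq_mult_smul le_top le_normalizer' hθ fun _ _ _ _ _ => rfl
  exact h1 ((this ⟨x, hx⟩).trans (this 1).symm)

variable (N) in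
/-- Reachability in the common divisor graph. -/
def R (a b : ℕ) : Prop := ∃ (ha : a ∈ relCharDegrees N) (hb : b ∈ relCharDegrees N),
  (commonDivisorGraph.induce (relCharDegrees N)).Reachable ⟨a, ha⟩ ⟨b, hb⟩

omit [Finite G] [N.Normal] in
theorem R.symm {a b : ℕ} (h : R N a b) : R N b a := ⟨h.2.1, h.1, h.2.2.symm⟩

omit [Finite G] [N.Normal] in
theorem R.trans {a b c : ℕ} (h : R N a b) (h' : R N b c) : R N a c :=
  ⟨h.1, h'.2.1, h.2.2.trans h'.2.2⟩

omit [Finite G] [N.Normal] in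
theorem R.of_dvd {a b k : ℕ} (ha : a ∈ relCharDegrees N) (hb : b ∈ relCharDegrees N) (hk : k ≠ 1)
    (h1 : k ∣ a) (h2 : k ∣ b) : R N a b := by
  refine ⟨ha, hb, ?_⟩
  by_cases e : a = b
  · subst e; rfl
  obtain ⟨χ, -, rfl⟩ := id ha
  have h3 := Nat.gcd_pos_of_pos_left b (H24.deg_pos χ.2)
  refine SimpleGraph.Adj.reachable ⟨e, lt_of_le_of_ne h3 fun h4 => hk ?_⟩
  exact Nat.dvd_one.1 (h4 ▸ Nat.dvd_gcd h1 h2)

omit [Finite G] [N.Normal] in
theorem R.of_not_coprime {a b : ℕ} (ha : a ∈ relCharDegrees N) (hb : b ∈ relCharDegrees N)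
    (h : ¬ a.Coprime b) : R N a b :=
  R.of_dvd ha hb h (Nat.gcd_dvd_left _ _) (Nat.gcd_dvd_right _ _)

theorem R.link (hN : N ≤ commutator G) {p : ℕ} (hp : p.Prime) {χ ξ : IrrCharacter G}
    {θ : IrrCharacter N} {a : Lin N} (hap : a ^ p = 1) (h : Ov χ θ) (h' : Ov ξ (a • θ))
    (h1 : θ ≠ oneIrr N) (h2 : a • θ ≠ oneIrr N) (hd : ¬ p ∣ charDegree χ.1)
    (hs : stabilizer G (a • θ) ≤ stabilizer G θ) : R N (charDegree χ.1) (charDegree ξ.1) := by
  by_cases hk : (stabilizer G θ).index * charDegree θ.1 = 1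
  swap
  · exact R.of_dvd (h.mem h1) (h'.mem h2) hk h.dvd
      ((mul_dvd_mul (index_dvd_of_le hs) (deg_lsmul a θ).symm.dvd).trans h'.dvd)
  obtain ⟨μ, hμ⟩ := H11.exists_monoidHom_of_apply_one_eq_one (H11.irr_isCharacter θ)
    (by rw [H24.irr_deg θ.2, Nat.eq_one_of_mul_eq_one_left hk, Nat.cast_one])
  obtain ⟨μ, rfl⟩ : ∃ μ : Lin N, lin μ = θ :=
    ⟨μ, Subtype.ext (funext fun n => (lin_apply _ n).trans (congrFun hμ n).symm)⟩
  have h3 := index_eq_one.1 (Nat.eq_one_of_mul_eq_one_right hk)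
  rw [stab_lin] at h3
  have h4 : ∀ g : G, g • μ = μ := fun g => h3.ge (mem_top g)
  refine R.of_not_coprime (h.mem h1) (h'.mem h2) fun hc => h1 ?_
  have h5 := Ov.pow_eq_one hN h4 (one_pow 1) (by rwa [mul_one] : Ov χ (lin (μ * 1)))
  have h6 := Ov.pow_eq_one hN h4 hap (by rwa [mul_comm, lin, mul_smul] : Ov ξ (lin (μ * a)))
  rw [one_mul] at h5
  rw [(pow_eq_one_iff_of_coprime (Nat.Coprime.mul_right
    ((Nat.Prime.coprime_iff_not_dvd hp).2 hd).symm hc)).1 ⟨h5, h6⟩, lin_one]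

theorem exists_smul_eq {α β : Type*} [MulAction G α] [MulAction G β] {a : α} {b : β}
    (h : (stabilizer G a).index.Coprime (stabilizer G b).index) (g g' : G) :
    ∃ k : G, k • a = g • a ∧ k • b = g' • b := by
  obtain ⟨x, hx, y, hy, e⟩ := H1.factorization_of_coprime_index h (g⁻¹ * g')
  refine ⟨g * x, by rw [mul_smul, hx], ?_⟩
  rw [show g' = g * x * y by rw [mul_assoc, ← e, mul_inv_cancel_left], mul_smul _ y, hy]

/-- A minimal invariant elementary abelian group of linear characters. -/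
structure ML (p : ℕ) (L : Subgroup (Lin N)) : Prop where
  ne : L ≠ ⊥
  inv : ∀ g : G, ∀ a ∈ L, g • a ∈ L
  pw : ∀ a ∈ L, a ^ p = 1
  min : ∀ W ≤ L, (∀ g : G, ∀ a ∈ W, g • a ∈ W) → W = ⊥ ∨ W = L

theorem exists_ML {p : ℕ} (hp : p.Prime) (h : p ∣ (commutator N).index) :
    ∃ L : Subgroup (Lin N), ML p L := by
  haveI : Finite (Lin N) := H11.finite_monoidHom_units
  haveI := Fact.mk hp
  obtain ⟨a, ha⟩ := exists_prime_orderOf_dvd_card' (G := Lin N) p
    (h.trans (dvd_of_eq H11.card_monoidHom_eq_index_commutator.symm))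
  obtain ⟨L, ⟨h1, h2, h3⟩, h4⟩ := exists_minimal_of_wellFoundedLT (fun L : Subgroup (Lin N) =>
    L ≠ ⊥ ∧ (∀ g : G, ∀ a ∈ L, g • a ∈ L) ∧ ∀ a ∈ L, a ^ p = 1)
    ⟨(powMonoidHom p : Lin N →* Lin N).ker, fun h0 => hp.one_lt.ne' (by
      rw [← ha, orderOf_eq_one_iff, ← mem_bot, ← h0, ← ha]; exact pow_orderOf_eq_one a),
      fun g b (hb : b ^ p = 1) => show (g • b) ^ p = 1 by rw [← smul_pow', hb, smul_one],
      fun _ hb => hb⟩
  exact ⟨L, h1, h2, h3, fun W hW h5 => (eq_or_ne W ⊥).imp_right fun h6 =>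
    le_antisymm hW (h4 ⟨h6, h5, fun a ha => h3 a (hW ha)⟩ hW)⟩

theorem conn_of_central (hN : N ≤ commutator G) {p : ℕ} (hp : p.Prime) {a : Lin N}
    (ha : ∀ g : G, g • a = a) (ha1 : a ≠ 1) (hap : a ^ p = 1) {b c : ℕ}
    (hb : b ∈ relCharDegrees N) (hc : c ∈ relCharDegrees N) : R N b c := by
  have key : ∀ d ∈ relCharDegrees N, ∃ e, p ∣ e ∧ R N d e := fun d hd => by
    by_cases h0 : p ∣ d
    · exact ⟨d, h0, hd, hd, .refl _⟩
    obtain ⟨χ, θ, h1, h2, rfl⟩ := exists_ov_of_mem hd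
    obtain ⟨ξ, hξ⟩ := exists_ov (a • θ)
    refine ⟨_, (hp.dvd_mul.1 (h1.dvd_of_inv hN hp ha ha1 hap hξ)).resolve_left h0,
      R.link hN hp hap h1 hξ h2 (fun e => h0 ?_) h0 fun g hg => ?_⟩
    · have h5 := Ov.pow_eq_one hN (μ := a⁻¹) (fun g => by rw [smul_inv', ha]) (one_pow 1)
        (by rwa [mul_one, lin, ← e, inv_smul_smul] : Ov χ (lin (a⁻¹ * 1)))
      haveI := Fact.mk hp
      rwa [one_mul, inv_pow, inv_eq_one, ← orderOf_dvd_iff_pow_eq_one,
        orderOf_eq_prime hap ha1] at h5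
    · rwa [mem_stabilizer_iff, smul_smul', ha, smul_left_cancel_iff] at hg
  obtain ⟨e, h1, h2⟩ := key b hb
  obtain ⟨e', h3, h4⟩ := key c hc
  exact (h2.trans (R.of_dvd h2.2.1 h4.2.1 hp.one_lt.ne' h1 h3)).trans h4.symm

/-- Degrees over nontrivial members of `L`. -/
def X (L : Subgroup (Lin N)) (c : ℕ) : Prop :=
  ∃ a ∈ L, a ≠ 1 ∧ ∃ ξ : IrrCharacter G, Ov ξ (lin a) ∧ charDegree ξ.1 = c

theorem Ov.lin_dvd {ξ : IrrCharacter G} {a : Lin N} (h : Ov ξ (lin a)) :
    (stabilizer G a).index ∣ charDegree ξ.1 := by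
  simpa [stab_lin, deg_lin] using h.dvd

theorem R.of_lin {ξ ξ' : IrrCharacter G} {a b : Lin N} (h : Ov ξ (lin a)) (h' : Ov ξ' (lin b))
    (ha : a ≠ 1) (hb : b ≠ 1) (hc : ¬ (stabilizer G a).index.Coprime (stabilizer G b).index) :
    R N (charDegree ξ.1) (charDegree ξ'.1) :=
  R.of_not_coprime (h.mem (lin_ne ha)) (h'.mem (lin_ne hb)) fun h0 =>
    hc ((h0.coprime_dvd_left h.lin_dvd).coprime_dvd_right h'.lin_dvd)

variable {p : ℕ} {L : Subgroup (Lin N)}

theorem ML.not_coprime (h : ML p L) (hp : p.Prime) {a b : Lin N} (ha : a ∈ L) (hb : b ∈ L)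
    (ha1 : (stabilizer G a).index ≠ 1) (hb1 : b ≠ 1)
    (hc : (stabilizer G a).index.Coprime (stabilizer G b).index) :
    ¬ (stabilizer G a).index.Coprime (stabilizer G (a * b)).index := fun hc' => by
  let W : Subgroup (Lin N) :=
    { carrier := {v | v ∈ L ∧ ∀ g : G, ∃ k : G, g • b * v = k • b}
      one_mem' := ⟨one_mem _, fun g => ⟨g, mul_one _⟩⟩
      mul_mem' := by
        rintro v w ⟨h1, h2⟩ ⟨h3, h4⟩
        refine ⟨mul_mem h1 h3, fun g => ?_⟩
        obtain ⟨k, hk⟩ := h2 g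
        rw [← mul_assoc, hk]
        exact h4 k
      inv_mem' := by
        rintro v ⟨h1, h2⟩
        refine ⟨inv_mem h1, fun g => ?_⟩
        have : ∀ n : ℕ, ∃ k : G, g • b * v ^ n = k • b := fun n => by
          induction n with
          | zero => exact ⟨g, by simp⟩
          | succ n ih =>
            obtain ⟨k, hk⟩ := ih
            rw [pow_succ, ← mul_assoc, hk]
            exact h2 k
        rw [inv_eq_of_mul_eq_one_left ((pow_sub_one_mul hp.ne_zero v).trans (h.pw v h1))]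
        exact this _ }
  rcases h.min W (fun v hv => hv.1) (fun g v hv => ⟨h.inv g v hv.1, fun g' => by
    obtain ⟨k, hk⟩ := hv.2 (g⁻¹ * g')
    exact ⟨g * k, by rw [mul_smul, ← hk, smul_mul', mul_smul, smul_inv_smul]⟩⟩) with h1 | h1
  · refine ha1 (index_eq_one.2 (eq_top_iff.2 fun x _ => ?_))
    have : x • a * a⁻¹ ∈ W := ⟨mul_mem (h.inv x a ha) (inv_mem ha), fun g => by
      obtain ⟨k, h2, h3⟩ := exists_smul_eq hc x g
      obtain ⟨k', h4, h5⟩ := exists_smul_eq hc' 1 k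
      rw [smul_mul', smul_mul', h2, h3, h4, one_smul] at h5
      exact ⟨k', by rw [← mul_assoc, mul_comm (g • b), ← h5, mul_inv_cancel_comm]⟩⟩
    rwa [h1, mem_bot, mul_inv_eq_one] at this
  · obtain ⟨k, hk⟩ := (h1.ge (inv_mem hb)).2 1
    rw [one_smul, mul_inv_cancel, eq_comm, smul_eq_iff_eq_inv_smul, smul_one] at hk
    exact hb1 hk

theorem ML.conn (h : ML p L) (hp : p.Prime)
    (hn : ∀ a ∈ L, a ≠ 1 → (stabilizer G a).index ≠ 1) {c c' : ℕ} (hc : X L c) (hc' : X L c') :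
    R N c c' := by
  obtain ⟨a, ha, ha1, ξ, hξ, rfl⟩ := hc
  obtain ⟨b, hb, hb1, ξ', hξ', rfl⟩ := hc'
  by_cases h1 : (stabilizer G a).index.Coprime (stabilizer G b).index
  swap
  · exact R.of_lin hξ hξ' ha1 hb1 h1
  have h2 := h.not_coprime hp ha hb (hn a ha ha1) hb1 h1
  have h3 := h.not_coprime hp hb ha (hn b hb hb1) ha1 h1.symm
  have h4 : a * b ≠ 1 := fun e => h2 (by
    rw [e, show stabilizer G (1 : Lin N) = ⊤ from eq_top_iff.2 fun g _ => smul_one g]; simp)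
  obtain ⟨ψ, hψ⟩ := exists_ov (lin (a * b))
  exact (R.of_lin hξ hψ ha1 h4 h2).trans (R.of_lin hξ' hψ hb1 h4 (mul_comm a b ▸ h3)).symm

theorem ML.exists_X (hN : N ≤ commutator G) (h : ML p L) (hp : p.Prime)
    (hn : ∀ a ∈ L, a ≠ 1 → (stabilizer G a).index ≠ 1) {d : ℕ} (hd : d ∈ relCharDegrees N)
    (h0 : ¬ p ∣ d) : ∃ c, X L c ∧ R N d c := by
  obtain ⟨χ, θ, h1, h2, rfl⟩ := exists_ov_of_mem hd
  by_cases h3 : ∃ a ∈ L, a ≠ 1 ∧ ¬ (stabilizer G θ).index.Coprime (stabilizer G a).index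
  · obtain ⟨a, ha, ha1, h4⟩ := h3
    obtain ⟨ξ, hξ⟩ := exists_ov (lin a)
    exact ⟨_, ⟨a, ha, ha1, ξ, hξ, rfl⟩, R.of_not_coprime hd (hξ.mem (lin_ne ha1)) fun h5 => h4
      ((h5.coprime_dvd_left ((dvd_mul_right _ _).trans h1.dvd)).coprime_dvd_right hξ.lin_dvd)⟩
  push Not at h3
  have hD : ∀ v ∈ L, ∀ x : G, v • θ = x • θ → v = 1 := fun v hv x e => by
    by_contra hv1
    haveI := Fact.mk hp
    haveI := Fintype.ofFinite (orbit G θ)
    have h4 : ∀ φ ∈ orbit G θ, v • φ ∈ orbit G θ := by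
      rintro _ ⟨g, rfl⟩
      obtain ⟨k, h5, h6⟩ := exists_smul_eq (h3 v hv hv1) g 1
      rw [one_smul] at h6
      exact ⟨k * x, by simp only; rw [mul_smul, ← e, smul_smul', h5, h6]⟩
    let σ : Equiv.Perm (orbit G θ) := Equiv.ofBijective (fun φ => ⟨_, h4 φ φ.2⟩)
      (Finite.injective_iff_bijective.1 fun φ φ' e =>
        Subtype.ext (MulAction.injective v (congrArg Subtype.val e)))
    have h5 : ∀ (n : ℕ) φ, ((σ ^ n) φ).1 = v ^ n • φ.1 := fun n φ => by
      induction n with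
      | zero => simp
      | succ n ih => rw [pow_succ', pow_succ', mul_smul, ← ih]; rfl
    obtain ⟨⟨_, g, rfl⟩, h6⟩ := Equiv.Perm.exists_fixed_point_of_prime (p := p) (n := 1) (σ := σ)
      (fun h6 => h0 (h6.trans (((dvd_of_eq (by
        rw [index_stabilizer, ← Nat.card_coe_set_eq, Nat.card_eq_fintype_card])).trans
          (dvd_mul_right _ _)).trans h1.dvd)))
      (Equiv.ext fun φ => Subtype.ext (by rw [h5, pow_one, h.pw v hv, one_smul]; rfl))
    exact hv1 (eq_one_of_smul_eq hp (h.pw v hv) (fun h7 => h0 ((h7.trans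
      ((deg_smul g θ).dvd.trans (dvd_mul_left _ _))).trans h1.dvd)) (congrArg Subtype.val h6))
  obtain ⟨a, ha, ha1⟩ := (L.bot_or_exists_ne_one).resolve_left h.ne
  by_cases h4 : a • θ = oneIrr N
  · exact ⟨_, ⟨a⁻¹, inv_mem ha, inv_ne_one.2 ha1, χ, by rwa [lin, ← h4, inv_smul_smul], rfl⟩,
      hd, hd, .refl _⟩
  have h5 : ∀ g ∈ stabilizer G (a • θ), g • a = a ∧ g • θ = θ := fun g hg => by
    rw [mem_stabilizer_iff, smul_smul'] at hg
    have h6 := hD ((g • a)⁻¹ * a) (mul_mem (inv_mem (h.inv g a ha)) ha) g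
      (by rw [mul_smul, ← hg, inv_smul_smul])
    rw [inv_mul_eq_one] at h6
    exact ⟨h6, by rwa [h6, smul_left_cancel_iff] at hg⟩
  obtain ⟨ξ, hξ⟩ := exists_ov (a • θ)
  obtain ⟨ψ, hψ⟩ := exists_ov (lin a)
  exact ⟨_, ⟨a, ha, ha1, ψ, hψ, rfl⟩,
    (R.link hN hp (h.pw a ha) h1 hξ h2 h4 h0 fun g hg => (h5 g hg).2).trans
      (R.of_dvd (hξ.mem h4) (hψ.mem (lin_ne ha1)) (hn a ha ha1) ((index_dvd_of_le
        fun g hg => (h5 g hg).1).trans ((dvd_mul_right _ _).trans hξ.dvd)) hψ.lin_dvd)⟩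

theorem link_primes {r : ℕ} (hp : p.Prime) (hr : r.Prime) (hpr : p ≠ r) {a b : Lin N}
    (ha : a ^ p = 1) (hb : b ^ r = 1) (ha1 : (stabilizer G a).index ≠ 1) (h1 : a ≠ 1)
    {ξ ψ : IrrCharacter G} (hξ : Ov ξ (lin a)) (hψ : Ov ψ (lin (a * b))) :
    R N (charDegree ξ.1) (charDegree ψ.1) := by
  have hc := (Nat.coprime_primes hp hr).2 hpr
  refine R.of_dvd (hξ.mem (lin_ne h1)) (hψ.mem (lin_ne fun e => h1 ?_)) ha1 hξ.lin_dvd
    ((index_dvd_of_le fun g hg => ?_).trans hψ.lin_dvd)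
  · refine (pow_eq_one_iff_of_coprime hc).1 ⟨ha, ?_⟩
    rw [eq_inv_of_mul_eq_one_left e, inv_pow, hb, inv_one]
  · rw [mem_stabilizer_iff, smul_mul'] at hg
    rw [mem_stabilizer_iff, ← mul_inv_eq_one]
    refine (pow_eq_one_iff_of_coprime hc).1
      ⟨by rw [mul_pow, ← smul_pow', inv_pow, ha]; simp, ?_⟩
    rw [show g • a * a⁻¹ = b * (g • b)⁻¹ by
      rw [mul_inv_eq_iff_eq_mul, mul_right_comm, eq_mul_inv_iff_mul_eq, hg, mul_comm],
      mul_pow, inv_pow, ← smul_pow', hb]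
    simp

theorem exists_base (hN : N ≤ commutator G) (hp : p.Prime) (hd : p ∣ (commutator N).index) :
    ∃ c, ∀ r : ℕ, r.Prime → r ∣ (commutator N).index → ∀ d ∈ relCharDegrees N, ¬ r ∣ d →
      R N d c := by
  obtain ⟨L, hL⟩ := exists_ML hp hd
  obtain ⟨a, ha, ha1⟩ := (L.bot_or_exists_ne_one).resolve_left hL.ne
  obtain ⟨ξ, hξ⟩ := exists_ov (lin a)
  refine ⟨charDegree ξ.1, fun r hr h1 d h2 h3 => ?_⟩
  have hc : ∀ {r : ℕ} {L : Subgroup (Lin N)}, r.Prime → ML r L →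
      R N d (charDegree ξ.1) ∨ ∀ a ∈ L, a ≠ 1 → (stabilizer G a).index ≠ 1 := by
    intro r L hr hL
    refine or_iff_not_imp_left.2 fun h4 b hb hb1 h5 => h4 ?_
    exact conn_of_central hN hr (fun g => (index_eq_one.1 h5).ge (mem_top g)) hb1 (hL.pw b hb) h2
      (hξ.mem (lin_ne ha1))
  refine (hc hp hL).elim id fun h4 => ?_
  by_cases e : r = p
  · subst e
    obtain ⟨c, h5, h6⟩ := hL.exists_X hN hr h4 h2 h3
    exact h6.trans (hL.conn hr h4 h5 ⟨a, ha, ha1, ξ, hξ, rfl⟩)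
  obtain ⟨L', hL'⟩ := exists_ML hr h1
  refine (hc hr hL').elim id fun h5 => ?_
  obtain ⟨c, ⟨b, hb, hb1, ψ, hψ, rfl⟩, h6⟩ := hL'.exists_X hN hr h5 h2 h3
  obtain ⟨ζ, hζ⟩ := exists_ov (lin (b * a))
  exact (h6.trans (link_primes hr hp e (hL'.pw b hb) (hL.pw a ha) (h5 b hb hb1) hb1 hψ hζ)).trans
    (link_primes hp hr (Ne.symm e) (hL.pw a ha) (hL'.pw b hb) (h4 a ha ha1) ha1 hξ
      (mul_comm b a ▸ hζ)).symm

end RG

end Cfsg.Agent.H23
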