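import Cfsg.Agent.H46.J1Defs
import Cfsg.Agent.H62.ElemAb

/-!
# S3094, piece JG3b: the involutions of `N(E)` outside `E`
-/

set_option autoImplicit false
open scoped Pointwise commutatorElement
open Subgroup

namespace Cfsg.Agent.H23.G3b
open Cfsg.Agent.H8 Cfsg.Agent.H46.S94

universe u

local notation "C[" A "]" => Subgroup.centralizer (SetLike.coe A)
local notation "N[" A "]" => Subgroup.normalizer (SetLike.coe A)

/-- the model of an elementary abelian group of order 8 -/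
abbrev M : Type := Multiplicative (Fin 3 → ZMod 2)

/-- a transvection -/
def A1 : MulAut M where
  toFun v := .ofAdd ![v.toAdd 0 + v.toAdd 2, v.toAdd 1, v.toAdd 2]
  invFun v := .ofAdd ![v.toAdd 0 + v.toAdd 2, v.toAdd 1, v.toAdd 2]
  left_inv := by decide
  right_inv := by decide
  map_mul' := by decide

/-- a transvection with the same centre -/
def A2 : MulAut M where
  toFun v := .ofAdd ![v.toAdd 0 + v.toAdd 1, v.toAdd 1, v.toAdd 2]
  invFun v := .ofAdd ![v.toAdd 0 + v.toAdd 1, v.toAdd 1, v.toAdd 2]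
  left_inv := by decide
  right_inv := by decide
  map_mul' := by decide

/-- basis -/
def a : M := .ofAdd ![1, 0, 0]
/-- basis -/
def b : M := .ofAdd ![0, 1, 0]
/-- basis -/
def c : M := .ofAdd ![0, 0, 1]

theorem m1 : ∀ v, A1 (A1 v) = v := by decide
theorem m2 : ∀ v, A2 (A2 v) = v := by decide
theorem m3 : ∀ v, (A1 * A2) ((A1 * A2) v) = v := by decide
theorem m4 : ∀ v, A1 v = v → A2 v = v → v = 1 ∨ v = a := by decide
theorem m5 : A1 c = a * c ∧ A2 c = c ∧ A1 b = b ∧ A2 b * b = a ∧ a ≠ 1 ∧ a * a = 1 ∧ c * c = 1 ∧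
    A1 c ≠ c ∧ A2 b ≠ b ∧ (A1 * A2) b ≠ b := by decide

section

variable {Γ : Type} [Group Γ] {G : Type u} [Group G] {φ : Γ →* G} {F : Subgroup G} {t : G}
  {O : Subgroup G} {z σ ρ : Γ} {V L : Subgroup Γ}

theorem sq_of_four (h : J1F z σ ρ V L) {x : Γ} (hx : x * x * (x * x) = 1) : x * x = 1 := by
  by_contra h1
  obtain ⟨g, hg⟩ := isConj_iff.1 (h.cls _ hx h1)
  have e : g⁻¹ * x * g * (g⁻¹ * x * g) = z := by
    calc _ = g⁻¹ * (x * x) * g := by group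
      _ = z := by rw [← hg]; group
  have c1 : g⁻¹ * x * g * z = z * (g⁻¹ * x * g) := by rw [← e]; group
  rcases h.cz _ (mem_Cz.2 c1) with m | m
  · exact h.zL (e ▸ mul_mem m m)
  · refine h.zL ?_
    have := mul_mem m m
    rwa [show g⁻¹ * x * g * z * (g⁻¹ * x * g * z) = g⁻¹ * x * g * (z * (g⁻¹ * x * g)) * z by group,
      ← c1, ← mul_assoc, e, h.el z h.zV, one_mul] at this

theorem mem_V (h : J1F z σ ρ V L) {x : Γ} (hx : x ∈ N[V]) (h2 : x * x = 1) : x ∈ V := by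
  have := h.base.fin
  have p1 : IsPGroup 2 V := IsPGroup.of_card (n := 3) h.cV
  have p2 : IsPGroup 2 (zpowers x) := by
    rintro ⟨_, k, rfl⟩
    refine ⟨1, Subtype.ext ?_⟩
    have : x ^ 2 = 1 := by rw [sq, h2]
    change (x ^ k) ^ (2 ^ 1) = 1
    rw [pow_one, ← zpow_natCast, ← zpow_mul, mul_comm, zpow_mul, zpow_natCast, this, one_zpow]
  have p3 := IsPGroup.to_sup_of_normal_left' p1 p2 ((zpowers_le).2 hx)
  obtain ⟨k, hk⟩ := p3.exists_card_eq
  have d := card_dvd_of_le (sup_le le_normalizer ((zpowers_le).2 hx) : V ⊔ zpowers x ≤ N[V])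
  rw [hk, h.cN] at d
  have d2 : 2 ^ k ∣ 8 := Nat.Coprime.dvd_of_dvd_mul_right (k := 2 ^ k) (n := 21)
    (Nat.Coprime.pow_left _ (by norm_num)) d
  have e := eq_of_le_of_card_ge (le_sup_left : V ≤ V ⊔ zpowers x)
    (by rw [hk, h.cV]; exact Nat.le_of_dvd (by norm_num) d2)
  exact e ▸ mem_sup_right (mem_zpowers x)

theorem split (h : C1 φ F t O z σ ρ V L) {y : G} (hy : y * t = t * y) :
    ∃ x, (∀ v, φ (x * v * x⁻¹) = y * φ v * y⁻¹) ∧ ∃ o ∈ O, y = φ x * o ∨ y = φ x * t * o := by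
  obtain ⟨α, hα⟩ := h.cx.aut hy
  obtain ⟨x, e⟩ := h.jf.inn α
  exact ⟨x, fun v => by rw [← hα, e]; rfl, h.cx.split' hy hα e⟩

theorem sq_of_four' (h : C1 φ F t O z σ ρ V L) {y : G} (hy : y * t = t * y)
    (h4 : y * y * (y * y) = 1) : y * y = 1 := by
  obtain ⟨x, -, o, ho, e⟩ := split h hy
  have c1 : Commute (φ x) o := h.cx.oA ho x
  have c2 : Commute o t := h.cx.Ot o ho
  have c3 : Commute (φ x) t := h.cx.AC x
  have e2 : y * y = φ (x * x) * (o * o) := by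
    rw [map_mul]
    rcases e with rfl | rfl
    · exact c1.symm.mul_mul_mul_comm _ _
    · rw [(c1.mul_left c2.symm).symm.mul_mul_mul_comm, c3.symm.mul_mul_mul_comm, h.cx.tt, mul_one]
  have c4 : Commute (o * o) (φ (x * x)) := (h.cx.oA (mul_mem ho ho) _).symm
  rw [e2, c4.mul_mul_mul_comm, ← map_mul] at h4
  obtain ⟨e3, e4⟩ := h.cx.o_of_mul h.jf.base (mul_mem (mul_mem ho ho) (mul_mem ho ho)) h4
  rw [e2, sq_of_four h.jf e3, h.cx.o_sq (mul_mem ho ho) e4, map_one, mul_one]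

theorem mem_E (h : C1 φ F t O z σ ρ V L) {x : G} (hx : x ∈ St1 (V.map φ) t) :
    ∃ v ∈ V, x = φ v ∨ x = t * φ v := by
  let S : Subgroup G :=
    { carrier := {x | ∃ v ∈ V, x = φ v ∨ x = t * φ v}
      one_mem' := ⟨1, one_mem _, Or.inl (map_one φ).symm⟩
      mul_mem' := by
        rintro _ _ ⟨v, hv, rfl | rfl⟩ ⟨w, hw, rfl | rfl⟩ <;> refine ⟨v * w, mul_mem hv hw, ?_⟩ <;>
          rw [map_mul]
        · exact Or.inl rfl
        · exact Or.inr (by rw [← mul_assoc, h.cx.AC, mul_assoc])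
        · exact Or.inr (mul_assoc ..)
        · exact Or.inl (by
            rw [← h.cx.AC v, mul_assoc, ← mul_assoc t, h.cx.tt, one_mul])
      inv_mem' := by
        rintro _ ⟨v, hv, rfl | rfl⟩ <;> refine ⟨v⁻¹, inv_mem hv, ?_⟩
        · exact Or.inl (map_inv φ v).symm
        · exact Or.inr (by rw [mul_inv_rev, h.cx.tinv, ← map_inv, h.cx.AC]) }
  refine (sup_le ?_ ((zpowers_le).2 ?_) : _ ≤ S) hx
  · rintro _ ⟨v, hv, rfl⟩
    exact ⟨v, hv, Or.inl rfl⟩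
  · exact ⟨1, one_mem _, Or.inr (by simp)⟩

theorem E_sq (h : C1 φ F t O z σ ρ V L) {x : G} (hx : x ∈ St1 (V.map φ) t) : x * x = 1 := by
  obtain ⟨v, hv, rfl | rfl⟩ := mem_E h hx
  · rw [← map_mul, h.jf.el v hv, map_one]
  · rw [(show Commute (φ v) t from h.cx.AC v).mul_mul_mul_comm, h.cx.tt, ← map_mul, h.jf.el v hv,
      map_one, mul_one]

theorem E_O (h : C1 φ F t O z σ ρ V L) {x o : G} (hx : x ∈ St1 (V.map φ) t) (ho : o ∈ O) :
    Commute x o := by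
  obtain ⟨v, -, rfl | rfl⟩ := mem_E h hx
  · exact h.cx.oA ho v
  · exact Commute.mul_left (h.cx.Ot o ho).symm (h.cx.oA ho v)

theorem mem_E_of (h : C1 φ F t O z σ ρ V L) {v : Γ} (hv : v ∈ V) {y o : G}
    (e : y = φ v * o ∨ y = φ v * t * o) : ∃ e ∈ St1 (V.map φ) t, y = e * o := by
  have _ := h
  have m : φ v ∈ St1 (V.map φ) t := mem_sup_left ⟨v, hv, rfl⟩
  rcases e with e | e
  exacts [⟨_, m, e⟩, ⟨_, mul_mem m (mem_sup_right (mem_zpowers t)), e⟩]

theorem pow_odd {x : G} (hx : x * x = 1) {m : ℕ} (hm : Odd m) : x ^ m = x := by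
  obtain ⟨k, rfl⟩ := hm
  rw [pow_succ, pow_mul, sq, hx, one_pow, one_mul]

theorem ker (h : CG φ F t O z σ ρ V L) {k : G} (hk : k ∈ N[St1 (V.map φ) t])
    (hc : k ∈ C[V.map φ]) : ∃ e ∈ St1 (V.map φ) t, ∃ o ∈ O, k = e * o := by
  obtain ⟨x, hx, o, ho, e⟩ := split h.toC1 (h.hG k hk hc)
  have hV : x ∈ V := h.jf.CV fun v hv => by
    have := hx v
    rw [← hc _ ⟨v, hv, rfl⟩, mul_inv_cancel_right] at this
    exact (mul_inv_eq_iff_eq_mul.1 (h.cx.inj this)).symm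
  obtain ⟨e, he, e'⟩ := mem_E_of h.toC1 hV e
  exact ⟨e, he, o, ho, e'⟩

theorem pow_ord (h : C1 φ F t O z σ ρ V L) {e o : G} (he : e ∈ St1 (V.map φ) t) (ho : o ∈ O) :
    (e * o) ^ orderOf o = e := by
  rw [(E_O h he ho).mul_pow, pow_orderOf_eq_one, mul_one, pow_odd (E_sq h he) (h.cx.odd_ord ho)]

theorem not_cent (h : CG φ F t O z σ ρ V L) {j : G} (hj : j ∈ N[St1 (V.map φ) t])
    (h2 : j * j = 1) (hE : j ∉ St1 (V.map φ) t) : j ∉ C[V.map φ] := fun hc => by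
  obtain ⟨e, he, o, ho, rfl⟩ := ker h hj hc
  have := pow_ord h.toC1 he ho
  rw [pow_odd h2 (h.cx.odd_ord ho)] at this
  exact hE (this.symm ▸ he)

theorem fix (h : CG φ F t O z σ ρ V L) {j : G} (hj : j ∈ N[St1 (V.map φ) t])
    (h2 : j * j = 1) (hE : j ∉ St1 (V.map φ) t) {e : G} (he : e ∈ St1 (V.map φ) t)
    (hc : j * e = e * j) : e ∈ V.map φ := by
  obtain ⟨v, hv, rfl | rfl⟩ := mem_E h.toC1 he
  · exact ⟨v, hv, rfl⟩
  exfalso
  obtain ⟨n, hn, e⟩ := h.tr v hv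
  have c1 : n⁻¹ * j * n * t = t * (n⁻¹ * j * n) := by
    rw [← e] at hc
    calc _ = n⁻¹ * (j * (n * t * n⁻¹)) * n := by group
      _ = _ := by rw [hc]; group
  have s1 : n⁻¹ * j * n * (n⁻¹ * j * n) = 1 := by
    calc _ = n⁻¹ * (j * j) * n := by group
      _ = 1 := by rw [h2]; group
  have m1 := mul_mem (mul_mem (inv_mem hn) hj) hn
  refine hE ?_
  suffices n⁻¹ * j * n ∈ St1 (V.map φ) t by
    simpa [mul_assoc] using (mem_normalizer_iff.1 hn _).1 this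
  generalize n⁻¹ * j * n = i at c1 s1 m1
  obtain ⟨x, hx, o, ho, e⟩ := split h.toC1 c1
  have x2 : x * x = 1 := h.jf.base.eq_one fun y => by
    refine mul_inv_eq_iff_eq_mul.1 (h.cx.inj ?_)
    rw [show x * x * y * (x * x)⁻¹ = x * (x * y * x⁻¹) * x⁻¹ by group, hx, hx]
    calc _ = (i * i) * φ y * (i * i)⁻¹ := by group
      _ = _ := by rw [s1]; group
  have xN : x ∈ N[V] := mem_normalizer_iff.2 fun y => by
    rw [← mem_map_iff_mem h.cx.inj, ← mem_map_iff_mem h.cx.inj, hx]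
    exact mem_normalizer_iff.1 (h.gl.1 m1) _
  obtain ⟨e, he, rfl⟩ := mem_E_of h.toC1 (mem_V h.jf xN x2) e
  have := pow_ord h.toC1 he ho
  rw [pow_odd s1 (h.cx.odd_ord ho)] at this
  exact this.symm ▸ he

theorem inverted (h : CG φ F t O z σ ρ V L) {j : G} (hj : j ∈ N[St1 (V.map φ) t])
    (h2 : j * j = 1) (hE : j ∉ St1 (V.map φ) t) {k : G} (hk : k ∈ N[St1 (V.map φ) t])
    (hc : k ∈ C[V.map φ]) (hi : j * k * j⁻¹ = k⁻¹) :
    ∃ w ∈ V.map φ, ∃ o ∈ O, k = w * o ∧ k ^ orderOf o = w := by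
  obtain ⟨e, he, o, ho, rfl⟩ := ker h hk hc
  have p := pow_ord h.toC1 he ho
  refine ⟨e, fix h hj h2 hE he (mul_inv_eq_iff_eq_mul.1 ?_), o, ho, rfl, p⟩
  calc j * e * j⁻¹ = (j * (e * o) * j⁻¹) ^ orderOf o := by rw [conj_pow, p]
    _ = e := by rw [hi, inv_pow, p, inv_eq_of_mul_eq_one_right (E_sq h.toC1 he)]

end

/-- `n` induces `A` -/
def Ind {G : Type u} [Group G] (f : M →* G) (n : G) (A : MulAut M) : Prop :=
  ∀ v, n * f v * n⁻¹ = f (A v)

section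

variable {G : Type u} [Group G] {f : M →* G}

theorem Ind.mul {n n' : G} {A A' : MulAut M} (h : Ind f n A) (h' : Ind f n' A') :
    Ind f (n * n') (A * A') := fun v => by
  rw [MulAut.mul_apply, ← h, ← h']; group

theorem ind_one {k : G} : Ind f k 1 ↔ k ∈ C[f.range] :=
  ⟨by rintro h _ ⟨v, rfl⟩; exact (mul_inv_eq_iff_eq_mul.1 (h v)).symm,
    fun h v => mul_inv_eq_iff_eq_mul.2 (h _ ⟨v, rfl⟩).symm⟩

theorem Ind.mul_left {n k : G} {A : MulAut M} (h : Ind f n A) (hk : k ∈ C[f.range]) :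
    Ind f (k * n) A := by simpa using (ind_one.2 hk).mul h

theorem Ind.mul_right {n k : G} {A : MulAut M} (h : Ind f n A) (hk : k ∈ C[f.range]) :
    Ind f (n * k) A := by simpa using h.mul (ind_one.2 hk)

theorem Ind.sq {n n' : G} {A : MulAut M} (h : Ind f n A) (h' : Ind f n' A) (hA : ∀ v, A (A v) = v) :
    n * n' ∈ C[f.range] := ind_one.1 fun v => (h.mul h' v).trans (congrArg f (hA v))

theorem Ind.not_mem (hf : Function.Injective f) {n : G} {A : MulAut M} (h : Ind f n A) {v : M}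
    (hv : A v ≠ v) : n ∉ C[f.range] := fun hc => hv (hf ((h v).symm.trans (ind_one.2 hc v)))

theorem range_cent (v : M) : f v ∈ C[f.range] := by
  rintro _ ⟨w, rfl⟩
  rw [← map_mul, mul_comm, map_mul]

/-- two involutions inducing `A1`, `A2` can be made to commute -/
theorem exists_comm (hf : Function.Injective f) {K : Subgroup G} (hK : K ≤ C[f.range])
    (hW : f.range ≤ K) {i j : G} (hi : Ind f i A1) (hj : Ind f j A2) (i2 : i * i = 1)
    (j2 : j * j = 1) {m : ℕ} (hm : Odd m) (h1 : i * j * (i * j) ∈ K)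
    (h2 : (i * j * (i * j)) ^ m ∈ f.range) :
    ∃ k ∈ K, j * k * (j * k) = 1 ∧ i * (j * k) = j * k * i := by
  obtain ⟨r, rfl⟩ := hm
  have ii := inv_eq_of_mul_eq_one_right i2
  have jj := inv_eq_of_mul_eq_one_right j2
  set d := i * j with hd
  have e1 : i * d * i⁻¹ = d⁻¹ := by rw [hd, ← mul_assoc, i2, one_mul, mul_inv_rev, jj]
  have e2 : j * d * j⁻¹ = d⁻¹ := by rw [hd, mul_inv_rev, jj, ii, ← mul_assoc, mul_assoc, j2, mul_one]
  obtain ⟨w, hw⟩ := h2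
  have w2 : (f w)⁻¹ = f w := by
    rw [← map_inv]; exact congrArg f ((by decide : ∀ w : M, w⁻¹ = w) w)
  have key : ∀ (x : G) (k : ℕ), x * d * x⁻¹ = d⁻¹ → x * (d * d) ^ k * x⁻¹ = ((d * d) ^ k)⁻¹ :=
    fun x k hx => by
      rw [← conj_pow, ← inv_pow, mul_inv_rev, ← hx]
      congr 1
      group
  have f1 : A1 w = w := hf (by rw [← hi, hw, key i _ e1, ← hw, w2])
  have f2 : A2 w = w := hf (by rw [← hj, hw, key j _ e2, ← hw, w2])
  set k := (d * d) ^ r with hk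
  have kK : k ∈ K := pow_mem h1 r
  have J2 : j * k * (j * k) = 1 := by
    calc _ = j * k * j⁻¹ * k := by rw [jj]; group
      _ = 1 := by rw [key j r e2, inv_mul_cancel]
  have JJ := inv_eq_of_mul_eq_one_right J2
  have e3 : i * (j * k) * i⁻¹ = f w * (j * k) := by
    rw [hw, ← JJ, ii, eq_mul_inv_iff_mul_eq, JJ]
    calc _ = d * k * (d * k) := by rw [hd]; group
      _ = _ := by
        rw [(((Commute.refl d).mul_right (Commute.refl d)).pow_right r).symm.mul_mul_mul_comm, hk,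
          ← pow_add, ← pow_succ', two_mul]
  have hJ := hj.mul_right (hK kK)
  obtain ⟨c1, c2, -, -, -, a2, c3, -⟩ := m5
  have a3 : A2 a = a := by decide
  rcases m4 w f1 f2 with rfl | rfl
  · exact ⟨k, kK, J2, by rwa [map_one, one_mul, mul_inv_eq_iff_eq_mul] at e3⟩
  · have b1 : Commute (j * k) (f c) := mul_inv_eq_iff_eq_mul.1 ((hJ c).trans (congrArg f c2))
    have b2 : Commute (j * k) (f a) := mul_inv_eq_iff_eq_mul.1 ((hJ a).trans (congrArg f a3))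
    refine ⟨k * f c, mul_mem kK (hW ⟨c, rfl⟩), ?_, ?_⟩
    · rw [← mul_assoc j, b1.symm.mul_mul_mul_comm, J2, ← map_mul, c3, map_one, mul_one]
    · rw [← mul_assoc j, ← mul_inv_eq_iff_eq_mul]
      calc _ = i * (j * k) * i⁻¹ * (i * f c * i⁻¹) := by group
        _ = j * k * (f a * f a) * f c := by rw [e3, hi, c1, map_mul, ← b2.eq]; group
        _ = _ := by rw [← map_mul, a2, map_one, mul_one]

end

theorem jg3b (gl : GLStmt.{u}) : JG3bStmt.{u} := by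
  intro Γ _ G _ _ φ F t O z σ ρ V L N0 h hN ht hV j hj j2 hE
  have cW : Nat.card (V.map φ) = 8 := by rw [card_map_of_injective h.cx.inj, h.jf.cV]
  have eW : ∀ v ∈ V.map φ, v * v = 1 := fun v hv => E_sq h.toC1 (mem_sup_left hv)
  obtain ⟨-, -, hg⟩ := (gl G _ _ eW cW h.gl.1).2 h.gl
  have e2 : ∀ x : V.map φ, x ^ 2 = 1 := fun x => Subtype.ext (by simpa [sq] using eW x x.2)
  have : Fact (Nat.Prime 2) := ⟨Nat.prime_two⟩
  obtain ⟨n, hn, ⟨e⟩⟩ := H62.exists_coord_elemAb (E := V.map φ) (p := 2)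
    ⟨⟨Commute.of_orderOf_dvd_two fun x => orderOf_dvd_of_pow_eq_one (e2 x)⟩⟩ e2
  obtain rfl : n = 3 := Nat.pow_right_injective (le_refl 2) (hn.symm.trans cW)
  let f : M →* G := (V.map φ).subtype.comp e.toMonoidHom
  have hf : Function.Injective f := Subtype.val_injective.comp e.injective
  have hr : f.range = V.map φ := by
    ext x
    exact ⟨by rintro ⟨v, rfl⟩; exact (e v).2, fun hx => ⟨e.symm ⟨x, hx⟩, by simp [f]⟩⟩
  have i2 : ∀ x ∈ N[St1 (V.map φ) t], ∀ y ∈ N[St1 (V.map φ) t],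
      x * y ∈ N0 ↔ (x ∈ N0 ↔ y ∈ N0) := fun x hx y hy =>
    mul_mem_iff_of_index_two (H := N0.subgroupOf _) hN (a := ⟨x, hx⟩) (b := ⟨y, hy⟩)
  have jC := not_cent h hj j2 hE
  have lift : ∀ (A : MulAut M) (v : M), (∀ v, A (A v) = v) → A v ≠ v →
      ∃ i ∈ N[St1 (V.map φ) t], Ind f i A ∧ i * i = 1 ∧ i ∉ St1 (V.map φ) t ∧
        (i ∈ N0 ↔ j ∈ N0) ∧ IsConj j i := fun A v hA hv => by
    obtain ⟨y, hy, e1⟩ := h.gl.2 (e.symm.trans (A.trans e))
    have y1 : Ind f y A := fun w => by simpa [f] using e1 (e w)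
    obtain ⟨m, hm, e3⟩ := hg j hj y hy (j2 ▸ one_mem _) jC (hr ▸ y1.sq y1 hA)
      (hr ▸ y1.not_mem hf hv)
    refine ⟨m * j * m⁻¹, mul_mem (mul_mem hm hj) (inv_mem hm), ?_, ?_,
      fun hm' => hE ((mem_normalizer_iff.1 hm j).2 hm'), ?_, isConj_iff.2 ⟨m, rfl⟩⟩
    · have := y1.mul_left (hr.symm ▸ e3)
      rwa [inv_mul_cancel_right] at this
    · rw [conj_mul, j2, mul_one, mul_inv_cancel]
    · rw [i2 _ (mul_mem hm hj) _ (inv_mem hm), i2 _ hm _ hj, inv_mem_iff]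
      tauto
  obtain ⟨c1, c2, c3, c4, c5, c6, c7, c8, c9, c10⟩ := m5
  obtain ⟨j₁, n1, a1, s1, E1, k1, l1⟩ := lift A1 c m1 c8
  obtain ⟨j₂, n2, a2, s2, E2, k2, -⟩ := lift A2 b m2 c9
  obtain ⟨j₃, n3, a3, s3, E3, k3, -⟩ := lift (A1 * A2) b m3 c10
  have WN : V.map φ ≤ N[St1 (V.map φ) t] := le_sup_left.trans le_normalizer
  have d1 : j₁ * j₂ * (j₁ * j₂) ∈ C[V.map φ] := hr ▸ (a1.mul a2).sq (a1.mul a2) m3
  have d2 := mul_mem (mul_mem n1 n2) (mul_mem n1 n2)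
  have ii1 := inv_eq_of_mul_eq_one_right s1
  have ii2 := inv_eq_of_mul_eq_one_right s2
  have ii3 := inv_eq_of_mul_eq_one_right s3
  obtain ⟨w, hw, o, ho, p1, p2⟩ := inverted h n1 s1 E1 d2 d1 (by
    rw [mul_inv_rev, mul_inv_rev, ii1, ii2, ← mul_assoc, ← mul_assoc, ← mul_assoc, s1]; group)
  obtain ⟨k, hk, q1, q2⟩ := exists_comm hf (K := N0 ⊓ N[St1 (V.map φ) t] ⊓ C[f.range])
    inf_le_right (by
      rintro _ ⟨v, rfl⟩
      have : f v ∈ V.map φ := hr ▸ ⟨v, rfl⟩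
      exact ⟨⟨hV (mem_sup_left this), WN this⟩, range_cent v⟩) a1 a2 s1 s2 (h.cx.odd_ord ho)
    ⟨⟨p1 ▸ hV (mul_mem_sup hw ho), d2⟩, hr.symm ▸ d1⟩ (hr.symm ▸ p2.symm ▸ hw)
  have a4 := a2.mul_right hk.2
  have n4 := mul_mem n2 hk.1.2
  have k4 : j₂ * k ∈ N0 ↔ j ∈ N0 := (N0.mul_mem_cancel_right hk.1.1).trans k2
  generalize j₂ * k = J at q1 q2 a4 n4 k4
  have JJ := inv_eq_of_mul_eq_one_right q1
  refine ⟨?_, fun hc => ?_⟩
  · by_contra hj0
    obtain ⟨w', hw', o', ho', p3, -⟩ := inverted h n3 s3 E3 (mul_mem n3 (mul_mem n1 n4))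
      (hr ▸ a3.sq (a1.mul a4) m3) (by
        rw [mul_inv_rev, mul_inv_rev, ii1, JJ, ← q2, ← mul_assoc j₃, s3, one_mul])
    have p4 : j₃ * (j₁ * J) ∈ N0 := p3 ▸ hV (mul_mem_sup hw' ho')
    rw [i2 _ n3 _ (mul_mem n1 n4), i2 _ n1 _ n4, k1, k3, k4] at p4
    tauto
  · obtain ⟨g, hg⟩ := isConj_iff.1 (hc.trans l1)
    have b1 : Commute (J * f b) j₁ := Commute.mul_left (show Commute j₁ J from q2).symm
      (show Commute j₁ (f b) from mul_inv_eq_iff_eq_mul.1 ((a1 b).trans (congrArg f c3))).symm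
    have b2 : J * f b * (J * f b) = f a := by
      calc _ = J * f b * J⁻¹ * f b := by rw [JJ]; group
        _ = _ := by rw [a4, ← map_mul, c4]
    have b3 : g⁻¹ * (J * f b) * g * (g⁻¹ * (J * f b) * g) = g⁻¹ * f a * g := by
      rw [← b2]; group
    have b4 := sq_of_four' h.toC1 (y := g⁻¹ * (J * f b) * g) (by
      calc _ = g⁻¹ * (J * f b * (g * t * g⁻¹)) * g := by group
        _ = g⁻¹ * (g * t * g⁻¹ * (J * f b)) * g := by rw [hg, b1.eq]
        _ = _ := by group) (by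
      rw [b3]
      calc _ = g⁻¹ * (f a * f a) * g := by group
        _ = 1 := by rw [← map_mul, c6, map_one]; group)
    rw [b3, mul_assoc, inv_mul_eq_one, eq_comm, mul_eq_right] at b4
    exact c5 (hf (b4.trans (map_one f).symm))

end Cfsg.Agent.H23.G3b
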