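import Cfsg.Agent.H74.UVDefs

/-! Lower bounds for the number of orbits on vectors of a group of isometries. -/

set_option autoImplicit false

namespace Cfsg.Agent.H23.UvOrb

open Cfsg Module Cfsg.Agent.H31 Cfsg.Agent.H74.UV
open Cfsg.Agent.H53.Uw (St)

universe u

variable {E K : Type u} [Field E] [Field K] [Algebra E K] {σ : E →+* E}
  {B : K →ₛₗ[σ] K →ₗ[E] E} {G : Subgroup (K ≃ₗ[E] K)}

/-- Two vectors lie in one orbit. -/
def Rl (G : Subgroup (K ≃ₗ[E] K)) (u v : K) : Prop := ∃ g ∈ G, g u = v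

theorem Rl.rfl (u : K) : Rl G u u := ⟨1, one_mem _, by simp⟩

theorem Rl.symm {u v : K} (h : Rl G u v) : Rl G v u := by
  obtain ⟨g, hg, e⟩ := h
  exact ⟨g⁻¹, inv_mem hg, by rw [← e]; simp⟩

theorem Rl.trans {u v w : K} (h : Rl G u v) (h' : Rl G v w) : Rl G u w := by
  obtain ⟨g, hg, e⟩ := h
  obtain ⟨k, hk, e'⟩ := h'
  exact ⟨k * g, mul_mem hk hg, by rw [LinearEquiv.mul_apply, e, e']⟩

theorem Rl.smul {u v : K} (h : Rl G u v) (a : E) : Rl G (a • u) (a • v) := by
  obtain ⟨g, hg, e⟩ := h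
  exact ⟨g, hg, by rw [map_smul, e]⟩

theorem Rl.norm (hG : G ≤ isom B) {u v : K} (h : Rl G u v) : B u u = B v v := by
  obtain ⟨g, hg, e⟩ := h
  rw [← e, hG hg]

theorem Rl.zero {v : K} (h : Rl G 0 v) : v = 0 := by
  obtain ⟨g, -, e⟩ := h
  rw [← e, map_zero]

theorem iso_smul {w : K} (h : B w w = 0) (a : E) : B (a • w) (a • w) = 0 := by
  rw [smul_left, smul_right, h, mul_zero, mul_zero]

theorem card_le [Finite K] {ι : Type*} (w : ι → K) (h : ∀ i j, Rl G (w i) (w j) → i = j) :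
    Nat.card ι ≤ nO G := by
  refine Nat.card_le_card_of_injective
    (fun i => (Quotient.mk'' (w i) : MulAction.orbitRel.Quotient G K)) fun i j e => ?_
  obtain ⟨g, hg⟩ := MulAction.orbitRel_apply.1 (Quotient.exact' e)
  exact (h j i ⟨g.1, g.2, hg⟩).symm

theorem orb1 : Orb1Stmt.{u} := by
  intro E K _ _ _ _ _ σ B q G S h7 hG hT
  simp only [Tr1, not_forall] at hT
  obtain ⟨u, v, huv, hu, hn⟩ := hT
  have ex : ∀ r : {r : E // σ r = r}, ∃ x y, B x x = r ∧ B y y = r ∧ ¬ Rl G x y := fun r => by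
    by_cases hr : r.1 = 0
    · obtain ⟨w, -, w0, hw⟩ := S.herm.exists_isotropic S.herm.nondegOn_top
        (by rw [finrank_top]; omega)
      exact ⟨0, w, by rw [map_zero, hr], by rw [hw, hr], fun e => w0 e.zero⟩
    · obtain ⟨c, hc⟩ := S.herm.toIsHermSymm.exists_smul_norm_eq hu r.2
      have c0 : c ≠ 0 := fun e => hr (by rw [← hc, e, zero_smul, map_zero])
      refine ⟨c • u, c • v, hc, by rw [← hc, smul_left, smul_right, smul_left, smul_right, huv],
        fun e => hn ?_⟩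
      have := e.smul c⁻¹
      rwa [inv_smul_smul₀ c0, inv_smul_smul₀ c0] at this
  choose x y hx hy hxy using ex
  have hw : ∀ r (b : Bool), B (cond b (x r) (y r)) (cond b (x r) (y r)) = r := fun r b => by
    cases b
    · exact hy r
    · exact hx r
  have := card_le (G := G) (fun i : Bool × {r : E // σ r = r} => cond i.1 (x i.2) (y i.2)) (by
    rintro ⟨b, r⟩ ⟨b', r'⟩ e
    have := e.norm hG
    simp only [hw] at this
    obtain rfl := Subtype.ext this
    cases b <;> cases b' <;> first | rfl | exact absurd e (hxy r) | exact absurd e.symm (hxy r))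
  rwa [Nat.card_prod, card_fixed S.card S.pow, Nat.card_eq_fintype_card, Fintype.card_bool] at this

end Cfsg.Agent.H23.UvOrb
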