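import Cfsg.Agent.H23.X27Blk
import Cfsg.Agent.H23.X3b
import Cfsg.Agent.H8.Fusion
import Cfsg.Agent.H8.Residual

/-!
# Fusion in a Sylow subgroup `3^(1+2)` of exponent `3` whose centre is centralized by its normalizer
-/

set_option autoImplicit false

namespace Cfsg.Agent.H23.X27

open Cfsg Subgroup Cfsg.Agent.H8 Cfsg.Agent.H11 Cfsg.Agent.H23.SecT
open Cfsg.Agent.H17 (Cg mem_Cg)
open scoped ComplexConjugate Classical Pointwise

universe u

local instance factThreeY : Fact (Nat.Prime 3) := ⟨Nat.prime_three⟩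

variable {G : Type u} [Group G]

theorem ncard_orbit (L : Subgroup G) (u : G) :
    {x | ∃ l ∈ L, l * u * l⁻¹ = x}.ncard = (Cg u).relIndex L := by
  let a : MulAction L G := MulAction.compHom G (MulAut.conj.comp L.subtype)
  have h := @MulAction.index_stabilizer L G _ a u
  have h1 : @MulAction.stabilizer L G _ a u = (Cg u).subgroupOf L := by
    ext l
    rw [mem_subgroupOf, mem_Cg, ← mul_inv_eq_iff_eq_mul]
    rfl
  have h2 : @MulAction.orbit L G a.toSMul u = {x | ∃ l ∈ L, l * u * l⁻¹ = x} := by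
    ext x
    exact ⟨fun ⟨l, e⟩ => ⟨l, l.2, e⟩, fun ⟨l, hl, e⟩ => ⟨⟨l, hl⟩, e⟩⟩
  rw [h1, h2] at h
  exact h.symm

/-- The hypothesis on the Sylow subgroup. -/
structure Hy (P : Sylow 3 G) (z : G) : Prop where
  x : X3 (P : Subgroup G) z
  c27 : Nat.card (P : Subgroup G) = 27
  exp : ∀ x ∈ (P : Subgroup G), x ^ 3 = 1
  nc : ∀ g ∈ normalizer ((P : Subgroup G) : Set G), Commute g z

/-- The group `P C(P)`. -/
abbrev PC (P : Subgroup G) : Subgroup G := P ⊔ centralizer (P : Set G)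

theorem PC_conj {P : Subgroup G} {k : G} (hk : k ∈ PC P) :
    ∃ a ∈ P, ∀ x ∈ P, k * x * k⁻¹ = a * x * a⁻¹ := by
  obtain ⟨a, ha, b, hb, rfl⟩ := (mem_sup_of_commute (B := centralizer (P : Set G)) fun a ha b hb => hb a ha).1 hk
  refine ⟨a, ha, fun x hx => ?_⟩
  rw [mul_assoc a, ← hb x hx]; group

theorem PC_le (P : Subgroup G) : PC P ≤ normalizer (P : Set G) :=
  sup_le le_normalizer (centralizer_le_normalizer _)

namespace Hy

variable [Finite G] {P : Sylow 3 G} {z u v : G} (h : Hy P z)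
include h

omit [Finite G] in
theorem inv : Hy P z⁻¹ := ⟨h.x.inv, h.c27, h.exp, fun g hg => (h.nc g hg).inv_right⟩

omit [Finite G] in
theorem ord (hu : u ∈ (P : Subgroup G)) (h1 : u ≠ 1) : orderOf u = 3 :=
  orderOf_eq_prime (h.exp u hu) h1

omit [Finite G] in
theorem z_ne : z ≠ z⁻¹ := fun e => h.x.ne_one (by
  have h1 := h.x.z3
  rwa [pow_succ, sq, mul_eq_one_iff_eq_inv.2 e, one_mul] at h1)

omit [Finite G] in
theorem mem_NC' {g : G} (hg : g ∈ normalizer ((P : Subgroup G) : Set G)) : g ∈ NC P z :=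
  mem_NC.2 ⟨hg, h.nc g hg⟩

theorem f0 {g : G} (hg : g * z * g⁻¹ ∈ zpowers z) : g * z * g⁻¹ = z := by
  obtain ⟨n, hn, h1⟩ := exists_normalizer_conj_eq_of_centralizer P (X := {z}) (g := g)
    (fun x hx y hy => by rw [hx]; exact h.x.cen y hy)
    (fun x hx y hy => by rw [hx]; exact h.x.commute_zp hy hg)
  rw [← h1 z rfl, (h.nc n hn).eq, mul_inv_cancel_right]

/-- `z` is weakly closed. -/
theorem f1 {g : G} (hg : g * z * g⁻¹ ∈ (P : Subgroup G)) : g * z * g⁻¹ = z := by
  by_contra hne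
  have h1 : g * z * g⁻¹ ∉ zpowers z := fun e => hne (h.f0 e)
  have hx := h.x.conj g
  set x := g * z * g⁻¹ with hxd
  rw [map_conj_eq_smul] at hx
  have hs : IsSylowIn 3 (MulAut.conj g • (P : Subgroup G)) (Cg x) := by
    have := (isSylowIn_top P).conj_smul_of_mem_normalizer (g := g) (by rw [normalizer_eq_top]; trivial)
    exact this.mono (fun q hq => mem_Cg.2 (hx.cen q hq)) le_top
  obtain ⟨c, hc, h2⟩ := hs.exists_conj_le (Q := zpowers z) (P.isPGroup'.to_le h.x.zp_le)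
    (zpowers_le.2 (mem_Cg.2 (h.x.cen x hg).symm))
  have hcx : c * x * c⁻¹ = x := by rw [mem_Cg.1 hc, mul_inv_cancel_right]
  obtain ⟨y, -, h3⟩ := hx.exists_cj_eq (h2 (conj_mem_conj_smul.2 (mem_zpowers z))) (fun e => by
    have h4 : z ∈ zpowers x := by
      rw [← hcx] at e
      obtain ⟨k, hk⟩ := e
      exact ⟨k, by simpa [conj_zpow] using hk⟩
    rcases (mem_zp3 hx.ord).1 h4 with e | e | e
    · exact h.x.ne_one e
    · exact hne e.symm
    · exact h1 (by rw [← inv_mem_iff, ← e]; exact mem_zpowers z)) (inv_mem (mem_zpowers x))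
  obtain ⟨a, -, h4⟩ := h.x.exists_cj_eq (inv_mem hg) (by rwa [inv_mem_iff]) (mem_zpowers z)
  have h5 : IsConj z (x⁻¹ * z) := isConj_iff.2 ⟨c⁻¹ * y * c, by
    calc _ = c⁻¹ * (y * (c * z * c⁻¹) * y⁻¹) * c := by group
      _ = z * x⁻¹ := by rw [h3]; conv_lhs => rw [← hcx]
                        group
      _ = _ := (h.x.cen _ (inv_mem hg)).eq.symm⟩
  have h6 : IsConj z⁻¹ (x⁻¹ * z) := isConj_iff.2 ⟨a * g, by rw [← h4, hxd]; group⟩
  obtain ⟨w, hw⟩ := isConj_iff.1 (h5.trans h6.symm)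
  exact h.z_ne ((h.f0 (hw ▸ inv_mem (mem_zpowers z))).symm.trans hw)

theorem f1' {x : G} (hx : x ∈ (P : Subgroup G)) (hc : IsConj z x) : x = z := by
  obtain ⟨g, rfl⟩ := isConj_iff.1 hc
  exact h.f1 hx

theorem f1c {x c : G} (hx : x ∈ (P : Subgroup G)) (hc : c ∈ zpowers z) (e : IsConj c x) : x = c := by
  rcases (mem_zp3 h.x.ord).1 hc with rfl | rfl | rfl
  · exact isConj_one_right.1 e
  · exact h.f1' hx e
  · exact h.inv.f1' hx e

theorem card27 : (Nat.card G).factorization 3 = 3 := by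
  have := P.card_eq_multiplicity
  rw [h.c27] at this
  exact (Nat.pow_right_injective (by norm_num : 2 ≤ 3) this).symm

section U
variable (hu : u ∈ (P : Subgroup G)) (hn : u ∉ zpowers z)
include hu hn

theorem card9 : Nat.card ((P : Subgroup G) ⊓ Cg u : Subgroup G) = 9 := by
  have := h.x.card_cent_elt hu hn
  rw [h.c27] at this
  change Nat.card ((P : Subgroup G) ⊓ Cg u : Subgroup G) * 3 = _ at this
  omega

theorem cent_E {g x : G} (h1 : Commute g u) (h2 : Commute g z)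
    (hx : x ∈ (P : Subgroup G) ⊓ Cg u) : Commute g x := by
  have h3 : (P : Subgroup G) ⊓ Cg u ⊓ Cg g = (P : Subgroup G) ⊓ Cg u := by
    apply eq_of_le_of_card_ge inf_le_left
    have h4 : zpowers z < (P : Subgroup G) ⊓ Cg u ⊓ Cg g :=
      lt_of_le_of_ne (zpowers_le.2 ⟨⟨h.x.mem, mem_Cg.2 (h.x.cen u hu).symm⟩, mem_Cg.2 h2.symm⟩)
        fun e => hn (e ▸ ⟨⟨hu, mem_Cg.2 rfl⟩, mem_Cg.2 h1.symm⟩)
    have h5 := card_dvd_of_le (inf_le_left : (P : Subgroup G) ⊓ Cg u ⊓ Cg g ≤ _)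
    have h6 := card_dvd_of_le h4.le
    have h7 := mt (eq_of_le_of_card_ge h4.le) h4.ne
    rw [h.card9 hu hn] at h5 ⊢
    rw [h.x.card_zp] at h6 h7
    have h8 := Nat.le_of_dvd (by norm_num) h5
    generalize Nat.card ((P : Subgroup G) ⊓ Cg u ⊓ Cg g : Subgroup G) = n at *
    interval_cases n <;> omega
  exact (mem_Cg.1 (h3.ge hx).2).symm

theorem sylE : IsSylowIn 3 ((P : Subgroup G) ⊓ Cg u) (Cg u) := by
  refine isSylowIn_of_maximal inf_le_right P.isPGroup'.to_inf_left fun Q hQ h1 h2 => ?_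
  refine (eq_of_le_of_card_ge h2 ?_).ge
  by_contra h3
  have h4 := (isSylowIn_top P).card_dvd hQ le_top
  have h5 := card_dvd_of_le h2
  rw [h.card9 hu hn] at h3 h5
  rw [h.c27] at h4
  have h6 : Nat.card Q = 27 := by
    have h8 := Nat.le_of_dvd (by norm_num) h4
    generalize Nat.card Q = n at *
    interval_cases n <;> omega
  obtain ⟨g, -, rfl⟩ := (isSylowIn_top P).exists_conj_eq
    ((isSylowIn_top P).of_card_ge hQ le_top (by rw [h6, h.c27]))
  have h7 := mem_conj_smul.1 (h2 ⟨hu, mem_Cg.2 rfl⟩)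
  have h8 := h.x.nd _ h7 fun b hb => by
    have := mem_Cg.1 (h1 (conj_mem_conj_smul.2 hb))
    calc g⁻¹ * u * g * b = g⁻¹ * (u * (g * b * g⁻¹)) * g := by group
      _ = _ := by rw [← this]; group
  exact hn (h.f1c hu h8 (isConj_iff.2 ⟨g, by group⟩) ▸ h8)

theorem npc : HasNormalPComplement 3 (Cg u) := by
  refine hasNormalPComplement_of_normalizer_le_centralizer (h.sylE hu hn).toSylow
    fun n hn' x hx => Subtype.ext (h.cent_E hu hn (mem_Cg.1 n.2) ?_ hx).eq.symm
  have h1 := (mem_normalizer_iff.1 hn' ⟨z, mem_Cg.2 (h.x.cen u hu).symm⟩).1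
    ⟨h.x.mem, mem_Cg.2 (h.x.cen u hu).symm⟩
  exact mul_inv_eq_iff_eq_mul.1 (h.f1 h1.1)

theorem c9 : (Nat.card (Cg u)).factorization 3 = 2 := by
  have := (h.sylE hu hn).card_eq
  rw [h.card9 hu hn] at this
  exact (Nat.pow_right_injective (by norm_num : 2 ≤ 3) this).symm

/-- The normalizer controls fusion. -/
theorem f3 (hv : v ∈ (P : Subgroup G)) (hc : IsConj u v) :
    ∃ n ∈ normalizer ((P : Subgroup G) : Set G), n * u * n⁻¹ = v := by
  have hn' : v ∉ zpowers z := fun e => hn (h.f1c hu e hc.symm ▸ e)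
  obtain ⟨g, rfl⟩ := isConj_iff.1 hc
  obtain ⟨c, hc, h1⟩ := (h.sylE hv hn').exists_conj_le (Q := zpowers (g * z * g⁻¹))
    ((H20.isPGroup_zpowers ⟨1, (h.x.conj g).ord⟩))
    (zpowers_le.2 (mem_Cg.2 (by
      calc _ = g * (z * u) * g⁻¹ := by group
        _ = _ := by rw [← (h.x.cen u hu).eq]; group)))
  have h2 : c * g * z * (c * g)⁻¹ = z :=
    h.f1 (by
      rw [show c * g * z * (c * g)⁻¹ = c * (g * z * g⁻¹) * c⁻¹ by group]
      exact (h1 (conj_mem_conj_smul.2 (mem_zpowers _))).1)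
  have h3 : c * g * u * (c * g)⁻¹ = g * u * g⁻¹ := by
    calc _ = c * (g * u * g⁻¹) * c⁻¹ := by group
      _ = _ := by rw [mem_Cg.1 hc, mul_inv_cancel_right]
  generalize c * g = k at h2 h3
  generalize g * u * g⁻¹ = v at *
  have hk : Commute k z := mul_inv_eq_iff_eq_mul.1 h2
  have zp : ∀ {l x : G}, Commute l z → x ∈ zpowers z → l * x * l⁻¹ = x := fun h1 ⟨j, hj⟩ => by
    rw [← hj, (h1.zpow_right j).eq, mul_inv_cancel_right]
  let L : Subgroup G :=
    { carrier := {l | Commute l z ∧ l * v * l⁻¹ * v⁻¹ ∈ zpowers z}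
      one_mem' := ⟨Commute.one_left z, by simp⟩
      mul_mem' := fun {a b} ha hb => ⟨ha.1.mul_left hb.1, by
        have := mul_mem hb.2 ha.2
        rw [← zp ha.1 hb.2] at this
        convert this using 1
        group⟩
      inv_mem' := fun {a} ha => ⟨ha.1.inv_left, by
        have := inv_mem ha.2
        rw [← zp ha.1.inv_left this] at this
        convert this using 1
        group⟩ }
  have l1 : (P : Subgroup G) ≤ L := fun a ha => ⟨h.x.cen a ha, h.x.comm a ha v hv⟩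
  have l2 : MulAut.conj k • (P : Subgroup G) ≤ L := fun a ha => by
    have h4 := mem_conj_smul.1 ha
    refine ⟨?_, ?_⟩
    · have := (hk.mul_left (h.x.cen _ h4)).mul_left hk.inv_left
      rwa [show k * (k⁻¹ * a * k) * k⁻¹ = a by group] at this
    · have := h.x.comm _ h4 u hu
      rw [← zp hk this] at this
      convert this using 1
      rw [← h3]; group
  obtain ⟨l, hl, h4⟩ := (((isSylowIn_top P).conj_smul_of_mem_normalizer (g := k)
    (by rw [normalizer_eq_top]; trivial)).mono l2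
    le_top).exists_conj_eq (isSylowIn_of_le P l1)
  rw [conj_smul_conj_smul, ← mem_normalizer_iff_conj_smul_eq] at h4
  obtain ⟨y, hy, h5⟩ := h.x.exists_cj_eq hv hn' hl.2
  refine ⟨y⁻¹ * (l * k), mul_mem (inv_mem (le_normalizer hy)) h4, ?_⟩
  calc _ = y⁻¹ * (l * (k * u * k⁻¹) * l⁻¹ * v⁻¹ * v) * y := by group
    _ = y⁻¹ * (y * v * y⁻¹) * y := by rw [h3, h5, (h.x.commute_zp hv hl.2).eq]
    _ = v := by group

theorem cent_le {g : G} (hg : g ∈ normalizer ((P : Subgroup G) : Set G)) (hc : g ∈ Cg u) :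
    g ∈ PC (P : Subgroup G) := by
  obtain ⟨x, hx⟩ := H20.exists_pPart Nat.prime_three g
  have h1 := H20.pPart_mem_zpowers Nat.prime_three hx
  obtain ⟨y, rfl, -, h2, h3⟩ := hx
  have h4 : y ∈ zpowers (x * y) := (Subgroup.mul_mem_cancel_left _ h1).1 (mem_zpowers _)
  refine mul_mem (mem_sup_left ((isSylowIn_top P).le_of_le_normalizer' (H20.isPGroup_zpowers h2)
    le_top (zpowers_le.2 (zpowers_le.2 hg h1)) (mem_zpowers x))) (mem_sup_right fun q hq => ?_)
  have h5 := zpowers_le.2 hg h4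
  exact (h.x.commute_of_max (A := (P : Subgroup G) ⊓ Cg u) inf_le_left
    (fun a ha => ⟨ha.1, mem_Cg.2 (ha.2 u ⟨hu, mem_Cg.2 rfl⟩).symm⟩) h5
    ((Nat.prime_three.coprime_iff_not_dvd.2 h3).symm)
    (fun a ha => h.cent_E hu hn (mem_Cg.1 (zpowers_le.2 hc h4)) (h.nc y h5) ha) hq).eq.symm

theorem ncard_class : {x | x ∈ (P : Subgroup G) ∧ IsConj u x}.ncard =
    3 * (PC (P : Subgroup G)).relIndex (normalizer ((P : Subgroup G) : Set G)) := by
  have h1 : {x | x ∈ (P : Subgroup G) ∧ IsConj u x} =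
      {x | ∃ l ∈ normalizer ((P : Subgroup G) : Set G), l * u * l⁻¹ = x} := by
    ext x
    exact ⟨fun hx => h.f3 hu hn hx.1 hx.2, fun ⟨l, hl, e⟩ =>
      ⟨e ▸ (mem_normalizer_iff.1 hl u).1 hu, isConj_iff.2 ⟨l, e⟩⟩⟩
  have h2 : {x | ∃ l ∈ PC (P : Subgroup G), l * u * l⁻¹ = x} =
      {x | ∃ l ∈ (P : Subgroup G), l * u * l⁻¹ = x} := by
    ext x
    refine ⟨fun ⟨l, hl, e⟩ => ?_, fun ⟨l, hl, e⟩ => ⟨l, mem_sup_left hl, e⟩⟩
    obtain ⟨a, ha, h3⟩ := PC_conj hl
    exact ⟨a, ha, (h3 u hu).symm.trans e⟩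
  have h3 := congrArg Set.ncard h2
  have h4 := card_eq_card_mul_relIndex (inf_le_left : (P : Subgroup G) ⊓ Cg u ≤ P)
  rw [h.card9 hu hn, h.c27, inf_relIndex_left] at h4
  rw [ncard_orbit, ncard_orbit, show (Cg u).relIndex P = 3 by omega] at h3
  rw [h1, ncard_orbit, ← inf_relIndex_right,
    ← relIndex_mul_relIndex (Cg u ⊓ _) _ _ (fun g hg => h.cent_le hu hn hg.2 hg.1) (PC_le _),
    ← inf_relIndex_right, inf_assoc, inf_eq_right.2 (PC_le _), inf_relIndex_right, h3]

theorem real (he : Even ((PC (P : Subgroup G)).relIndex (normalizer ((P : Subgroup G) : Set G)))) :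
    IsConj u u⁻¹ := by
  haveI : ((PC (P : Subgroup G)).subgroupOf (normalizer ((P : Subgroup G) : Set G))).Normal := by
    refine (normal_subgroupOf_iff_le_normalizer (PC_le _)).2 fun g hg => ?_
    rw [mem_normalizer_iff_conj_smul_eq] at hg ⊢
    rw [smul_sup, ← centralizer_conj_smul, hg]
  haveI : Fact (Nat.Prime 2) := ⟨Nat.prime_two⟩
  obtain ⟨q, hq⟩ := exists_prime_orderOf_dvd_card' 2 (even_iff_two_dvd.1 he)
  obtain ⟨g, rfl⟩ := QuotientGroup.mk_surjective q
  have h1 : (g : G) * g ∈ PC (P : Subgroup G) := by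
    have := pow_orderOf_eq_one 
      (QuotientGroup.mk (s := (PC (P : Subgroup G)).subgroupOf _) g)
    rw [hq, sq, ← QuotientGroup.mk_mul, QuotientGroup.eq_one_iff] at this
    exact this
  rcases h.x.triv_or_neg h.c27 (h.mem_NC' g.2) (fun q hq => by
    obtain ⟨a, ha, h3⟩ := PC_conj h1
    rw [h3 q hq]; exact h.x.comm a ha q hq) with h2 | h2
  · obtain ⟨a, ha, h3⟩ := h.x.inner (h.mem_NC' g.2) h2
    have h4 : (g : G) ∈ PC (P : Subgroup G) := by
      rw [← mul_inv_cancel_left a g]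
      refine mul_mem (mem_sup_left ha) (mem_sup_right fun x hx => ?_)
      calc _ = a⁻¹ * (a * x * a⁻¹) * g := by group
        _ = _ := by rw [← h3 x hx]; group
    rw [(QuotientGroup.eq_one_iff g).2 h4, orderOf_one] at hq
    exact absurd hq (by norm_num)
  · obtain ⟨y, -, h3⟩ := h.x.exists_cj_eq (inv_mem hu) (by rwa [inv_mem_iff]) (h2 u hu)
    refine isConj_iff.2 ⟨y⁻¹ * g, ?_⟩
    calc _ = y⁻¹ * (g * u * (g : G)⁻¹ * u * u⁻¹) * y := by group
      _ = y⁻¹ * (y * u⁻¹ * y⁻¹) * y := by rw [h3, (h.x.commute_zp (inv_mem hu) (h2 u hu)).eq]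
      _ = _ := by group

end U

theorem nilp (he : (PC (P : Subgroup G)).relIndex (normalizer ((P : Subgroup G) : Set G)) = 1) :
    HasNormalPComplement 3 G := by
  refine hasNormalPComplement_of_no_fusion P fun x hx g hg => ?_
  by_cases hn : x ∈ zpowers z
  · exact ⟨1, one_mem _, by rw [h.f1c hg hn (isConj_iff.2 ⟨g, rfl⟩)]; group⟩
  · obtain ⟨n, h1, h2⟩ := h.f3 hx hn hg (isConj_iff.2 ⟨g, rfl⟩)
    obtain ⟨a, ha, h3⟩ := PC_conj (relIndex_eq_one.1 he h1)
    exact ⟨a, ha, (h3 x hx).symm.trans h2⟩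

theorem genP : IsGeneralizedCharacter (P : Subgroup G) fun x => phi z x := by
  haveI := Fintype.ofFinite (P : Subgroup G)
  let z' : (P : Subgroup G) := ⟨z, h.x.mem⟩
  have hc : ∀ g, z' * g = g * z' := fun g => Subtype.ext (h.x.cen g g.2).eq.symm
  have n1 : (1 : (P : Subgroup G)) ≠ z' := fun e => h.x.ne_one (congrArg Subtype.val e).symm
  have n2 : (1 : (P : Subgroup G)) ≠ z'⁻¹ := fun e => h.inv.x.ne_one (congrArg Subtype.val e).symm
  have n3 : z' ≠ z'⁻¹ := fun e => h.z_ne (congrArg Subtype.val e)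
  have sm : ∀ f : ↥(P : Subgroup G) → ℂ, (∀ x : (P : Subgroup G), (x : G) ∉ zpowers z → f x = 0) →
      ∑ x, f x = f 1 + f z' + f z'⁻¹ := fun f hf => by
    rw [← Finset.sum_subset (Finset.subset_univ {1, z', z'⁻¹}) fun x _ hx => hf x fun e => hx (by
      simp only [Finset.mem_insert, Finset.mem_singleton, Subtype.ext_iff]
      exact (mem_zp3 h.x.ord).1 e), Finset.sum_insert (by simp [n1, n2]), Finset.sum_pair n3, add_assoc]
  have i0 : ∀ c ∈ zpowers z, ∀ x ∈ (P : Subgroup G), x ≠ c → ind c x = 0 := fun c hc x hx hne =>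
    ind_of_not fun e => hne (h.f1c hx hc e)
  have m1 := mem_zpowers z
  have m2 := inv_mem m1
  refine isGen_of_classInner_int (isClassFunction_restrict (phi_class z) _) fun χ hχ => ?_
  let ξ : IrrCharacter (P : Subgroup G) := ⟨χ, hχ⟩
  have w3 : H20.cw ξ z' ^ 3 = 1 := H20.cw_pow_eq_one ξ hc (Subtype.ext h.x.z3)
  have wn := cube_norm w3
  have e1 : χ z' = H20.cw ξ z' * χ 1 := by simpa using H20.irr_mul_eq_cw ξ hc 1
  have e0 : conj (χ 1) = χ 1 := conj_apply_one (H12.isCharacter_of_irr hχ)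
  have e2 : χ z'⁻¹ = conj (H20.cw ξ z') * χ 1 := by
    rw [← conj_apply (H12.isCharacter_of_irr hχ), e1, map_mul, e0]
  have h1 := card_mul_classInner (fun x : (P : Subgroup G) => phi z x) χ
  rw [h.c27, sm _ fun x hx => by
    rw [phi_apply, i0 1 (one_mem _) x x.2 fun e => hx (e ▸ one_mem _),
      i0 z m1 x x.2 fun e => hx (e ▸ m1), i0 z⁻¹ m2 x x.2 fun e => hx (e ▸ m2)]
    simp] at h1
  generalize classInner (fun x : (P : Subgroup G) => phi z x) χ = I at h1 ⊢
  simp only [phi_apply, coe_one, coe_inv, z'] at h1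
  rw [ind_of (IsConj.refl _), ind_of (IsConj.refl z), ind_of (IsConj.refl z⁻¹),
    i0 z m1 1 (one_mem _) h.x.ne_one.symm, i0 z⁻¹ m2 1 (one_mem _) h.inv.x.ne_one.symm,
    i0 1 (one_mem _) z h.x.mem h.x.ne_one, i0 z⁻¹ m2 z h.x.mem h.z_ne,
    i0 1 (one_mem _) z⁻¹ (inv_mem h.x.mem) h.inv.x.ne_one,
    i0 z m1 z⁻¹ (inv_mem h.x.mem) h.z_ne.symm] at h1
  change _ = _ * conj (χ 1) + _ * conj (χ z') + _ * conj (χ z'⁻¹) at h1
  rw [e1, e2, map_mul, map_mul, e0, Complex.conj_conj] at h1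
  set w := H20.cw ξ z' with hw
  have w2 : conj w = w * w := by linear_combination w * w * wn - conj w * w3
  by_cases hs : om * (w * w) = 1
  · have hw1 : w ≠ 1 := fun e => om_ne (by simpa [e] using hs)
    have h2 := card_mul_classInner χ χ
    rw [classInner_irr_self hχ, h.c27, sm _ fun x hx => by
      obtain ⟨y, hy, h3⟩ := h.x.exists_comm_eq x.2 hx
      have h4 := irr_class ξ x ⟨y, hy⟩
      rw [show (⟨y, hy⟩ : (P : Subgroup G)) * x * ⟨y, hy⟩⁻¹ = z' * x from
        Subtype.ext (h3.trans (h.x.cen x x.2).eq), H20.irr_mul_eq_cw ξ hc] at h4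
      have h5 : χ x = 0 := by
        have : (w - 1) * χ x = 0 := by linear_combination h4
        exact (mul_eq_zero.1 this).resolve_left (sub_ne_zero.2 hw1)
      rw [h5, zero_mul], e1, e2, map_mul, map_mul, e0, Complex.conj_conj] at h2
    obtain ⟨n, hn⟩ := H12.IsCharacter_one_eq_nat (H12.isCharacter_of_irr hχ)
    have h3 : (n : ℂ) * n = 9 := by
      rw [hn] at h2; push_cast at h2
      linear_combination -h2 / 3 - 2 / 3 * (n : ℂ) * n * wn
    have h4 : n = 3 := by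
      have : n * n = 3 * 3 := by exact_mod_cast h3
      exact Nat.mul_self_inj.1 this
    refine ⟨1, ?_⟩
    rw [hn, h4, w2] at h1
    push_cast at h1 ⊢
    linear_combination h1 / 27 + (1 / 3 + (om * (w * w) + 1) / 3) * hs - om * om * w / 3 * w3
  · refine ⟨0, ?_⟩
    have h2 := cube_sum (w := om * (w * w)) (by linear_combination w ^ 6 * om3 + (w ^ 3 + 1) * w3) hs
    rw [w2] at h1
    push_cast at h1 ⊢
    linear_combination h1 / 27 + χ 1 / 9 * h2 - χ 1 * om * om * w / 9 * w3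

theorem gen (Q : Subgroup G) (hQ : IsPGroup 3 Q) : IsGeneralizedCharacter Q fun x => phi z x := by
  obtain ⟨g, -, hg⟩ := (isSylowIn_top P).exists_conj_le hQ le_top
  have := isGen_comp h.genP
    (((MulAut.conj g).toMonoidHom.comp Q.subtype).codRestrict (P : Subgroup G)
      fun x => hg (conj_mem_conj_smul.2 x.2))
  convert this using 2 with x
  exact (phi_class z x g).symm

theorem exists_fu : ∃ U : Finset G, Fu z U ∧ (∀ u ∈ U, u ∈ (P : Subgroup G) ∧ u ∉ zpowers z) ∧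
    U.card * (PC (P : Subgroup G)).relIndex (normalizer ((P : Subgroup G) : Set G)) = 8 := by
  haveI := Fintype.ofFinite G
  let S : Finset G := Finset.univ.filter fun x => x ∈ (P : Subgroup G) ∧ x ∉ zpowers z
  have mS : ∀ {x}, x ∈ S ↔ x ∈ (P : Subgroup G) ∧ x ∉ zpowers z := by simp [S]
  let ρ : G → G := fun x => Classical.epsilon fun y => y ∈ S ∧ IsConj x y
  have r1 : ∀ x ∈ S, ρ x ∈ S ∧ IsConj x (ρ x) := fun x hx =>
    Classical.epsilon_spec (p := fun y => y ∈ S ∧ IsConj x y) ⟨x, hx, IsConj.refl x⟩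
  have r2 : ∀ x y, IsConj x y → ρ x = ρ y := fun x y e => congrArg Classical.epsilon
    (funext fun w => propext (and_congr_right' ⟨e.symm.trans, e.trans⟩))
  have r3 : ∀ u ∈ S.image ρ, u ∈ S ∧ ρ u = u := fun u hu => by
    obtain ⟨x, hx, rfl⟩ := Finset.mem_image.1 hu
    exact ⟨(r1 x hx).1, (r2 _ _ (r1 x hx).2).symm⟩
  have r4 := fun u hu => mS.1 (r3 u hu).1
  have nc : ∀ c ∈ zpowers z, ∀ u ∈ S.image ρ, ¬ IsConj c u := fun c hc u hu e =>
    (r4 u hu).2 (h.f1c (r4 u hu).1 hc e ▸ hc)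
  refine ⟨S.image ρ, ⟨h.card27, h.x.ord,
    fun u hu => h.ord (r4 u hu).1 fun e => (r4 u hu).2 (e ▸ one_mem _),
    fun e => h.z_ne (h.f1' (inv_mem h.x.mem) e).symm, nc z (mem_zpowers z),
    nc _ (inv_mem (mem_zpowers z)),
    fun u hu v hv e => by rw [← (r3 u hu).2, r2 u v e, (r3 v hv).2], fun x hx => ?_,
    fun u hu => h.npc (r4 u hu).1 (r4 u hu).2, fun u hu => h.c9 (r4 u hu).1 (r4 u hu).2, h.gen⟩,
    r4, ?_⟩
  · obtain ⟨g, -, hg⟩ := (isSylowIn_top P).exists_conj_le (H20.isPGroup_zpowers hx) le_top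
    have h1 := hg (conj_mem_conj_smul.2 (mem_zpowers x))
    have h2 : IsConj (g * x * g⁻¹) x := (isConj_iff.2 ⟨g, rfl⟩).symm
    generalize g * x * g⁻¹ = y at h1 h2
    by_cases h3 : y ∈ zpowers z
    · rcases (mem_zp3 h.x.ord).1 h3 with rfl | rfl | rfl
      · exact Or.inl (isConj_one_right.1 h2)
      · exact Or.inr (Or.inl h2)
      · exact Or.inr (Or.inr (Or.inl h2))
    · have h4 := mS.2 ⟨h1, h3⟩
      exact Or.inr (Or.inr (Or.inr ⟨ρ y, Finset.mem_image_of_mem ρ h4, (r1 y h4).2.symm.trans h2⟩))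
  · have h1 := Finset.card_eq_sum_card_image ρ S
    rw [Finset.sum_congr rfl (g := fun _ => 3 * (PC (P : Subgroup G)).relIndex
      (normalizer ((P : Subgroup G) : Set G))) fun u hu => by
        rw [← h.ncard_class (r4 u hu).1 (r4 u hu).2, ← Set.ncard_coe_finset]
        congr 1
        ext x
        simp only [Finset.coe_filter, Set.mem_ofPred_eq]
        exact ⟨fun ⟨a, b⟩ => ⟨(mS.1 a).1, b ▸ (r1 x a).2.symm⟩, fun ⟨a, b⟩ =>
          ⟨mS.2 ⟨a, fun e => nc x e u hu b.symm⟩, by rw [← r2 u x b, (r3 u hu).2]⟩⟩,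
      Finset.sum_const, smul_eq_mul] at h1
    have h2 : S.card = 24 := by
      have h3 := Finset.card_filter_add_card_filter_not
        (s := Finset.univ.filter fun x => x ∈ (P : Subgroup G)) fun x => x ∈ zpowers z
      have h4 := h.c27
      have h5 := h.x.card_zp
      rw [Nat.card_eq_fintype_card, Fintype.card_subtype] at h4 h5
      rw [Finset.filter_filter, Finset.filter_filter, h4,
        Finset.filter_congr (q := fun x => x ∈ zpowers z) fun x _ =>
          ⟨fun e => e.2, fun e => ⟨h.x.zp_le e, e⟩⟩, h5] at h3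
      change 3 + S.card = 27 at h3
      omega
    rw [h2, mul_left_comm] at h1
    omega

theorem sub {H : Subgroup G} (hH : normalizer ((P : Subgroup G) : Set G) ≤ H) :
    Hy (P.subtype (le_normalizer.trans hH)) ⟨z, hH (le_normalizer h.x.mem)⟩ ∧
      (PC ((P : Subgroup G).subgroupOf H)).relIndex
        (normalizer (((P : Subgroup G).subgroupOf H : Subgroup H) : Set H)) =
      (PC (P : Subgroup G)).relIndex (normalizer ((P : Subgroup G) : Set G)) := by
  have hP : (P : Subgroup G) ≤ H := le_normalizer.trans hH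
  have zp : ∀ {x : H}, (x : G) ∈ zpowers z → x ∈ zpowers (⟨z, hP h.x.mem⟩ : H) :=
    fun ⟨k, hk⟩ => ⟨k, Subtype.ext hk⟩
  refine ⟨⟨⟨by rw [← orderOf_coe]; exact h.x.ord, h.x.mem, fun q hq => Subtype.ext (h.x.cen q hq),
    fun a ha b hb => zp (h.x.comm a ha b hb), fun a ha => zp (h.x.pow a ha),
    fun a ha hc => zp (h.x.nd a ha fun b hb => congrArg Subtype.val (hc ⟨b, hP hb⟩ hb))⟩,
    (Nat.card_congr (subgroupOfEquivOfLe hP).toEquiv).trans h.c27,
    fun x hx => Subtype.ext (h.exp x hx), fun g hg => Subtype.ext (h.nc g ?_)⟩, ?_⟩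
  · rwa [Sylow.coe_subtype, ← subgroupOf_normalizer_eq hP] at hg
  · have h1 : centralizer (((P : Subgroup G).subgroupOf H : Subgroup H) : Set H) =
        (centralizer ((P : Subgroup G) : Set G)).subgroupOf H := by
      ext x
      exact ⟨fun e y hy => congrArg Subtype.val (e ⟨y, hP hy⟩ hy), fun e y hy => Subtype.ext (e y hy)⟩
    rw [← subgroupOf_normalizer_eq hP, PC, h1,
      ← subgroupOf_sup hP ((centralizer_le_normalizer _).trans hH), relIndex_subgroupOf hH]

variable {M : Ideal AlgInt} (hM : IsPModular 3 M)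
include hM

theorem loc (he : Even ((PC (P : Subgroup G)).relIndex (normalizer ((P : Subgroup G) : Set G))))
    {n : ℕ} (hn : n * (PC (P : Subgroup G)).relIndex (normalizer ((P : Subgroup G) : Set G)) = 8) :
    blockRank 3 (principalBlock M (Cg z)) + n = 6 := by
  obtain ⟨h1, h2⟩ := h.sub (H := Cg z) fun g hg => mem_Cg.2 (h.nc g hg)
  obtain ⟨U, h3, h4, h5⟩ := h1.exists_fu
  rw [Sylow.coe_subtype, h2] at h5
  haveI := Fintype.ofFinite (Cg z)
  haveI := Fintype.ofFinite (IrrCharacter (Cg z))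
  have h6 : U.card = n := Nat.eq_of_mul_eq_mul_right (Nat.pos_of_ne_zero fun e => by
    rw [e] at hn; omega) (h5.trans hn.symm)
  rw [← h6]
  refine h3.central hM (fun u hu => h1.real (h4 u hu).1 (h4 u hu).2 (by rwa [Sylow.coe_subtype, h2]))
    (Finset.card_pos.1 (Nat.pos_of_ne_zero fun e => by rw [e] at h5; omega))
    (fun g => Subtype.ext (mem_Cg.1 g.2).symm) fun u hu => ?_
  obtain ⟨y, -, h7⟩ := h1.x.exists_comm_eq (h4 u hu).1 (h4 u hu).2
  exact isConj_iff.2 ⟨y, h7.trans (h1.x.cen u (h4 u hu).1).eq⟩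

theorem main [Fintype (IrrCharacter G)] {e : ℕ}
    (he : (PC (P : Subgroup G)).relIndex (normalizer ((P : Subgroup G) : Set G)) = e) :
    (e = 1 → (fB (principalBlock M G)).card = 11 ∧
      ((fB (principalBlock M G)).filter fun χ => blockHeight 3 (principalBlock M G) χ.1 = 0).card = 9 ∧
      blockRank 3 (principalBlock M G) = 1) ∧
    (Even e → ∃ n, n * e = 8 ∧ (fB (principalBlock M G)).card + 2 * n = 18 ∧
      ((fB (principalBlock M G)).filter fun χ => blockHeight 3 (principalBlock M G) χ.1 = 0).card = 6 ∧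
      blockRank 3 (principalBlock M G) + n = 6) := by
  haveI := Fintype.ofFinite G
  subst he
  obtain ⟨U, h3, h4, h5⟩ := h.exists_fu
  refine ⟨fun e => ?_, fun e => ⟨U.card, h5, ?_⟩⟩
  · have h6 := h.nilp e
    exact h3.nilp hM (by rw [e] at h5; omega) h6 (HasNormalPComplement.subgroup h6 _)
      (HasNormalPComplement.subgroup h6 _)
  · exact h3.real hM (fun u hu => h.real (h4 u hu).1 (h4 u hu).2 e)
      (Finset.card_pos.1 (Nat.pos_of_ne_zero fun e => by rw [e] at h5; omega))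
      (h.loc hM e h5) (h.inv.loc hM e h5)

end Hy

end Cfsg.Agent.H23.X27
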