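import Mathlib
import Cfsg.Agent.H23.X3d
import Cfsg.Agent.H49.XS

/-! The group `2^{1+4}.A₅` acting on a symplectic space of order `81`. -/

set_option autoImplicit false

namespace Cfsg.Agent.H23

open Cfsg Subgroup H49

variable {X : Type*} [Group X]

theorem fix_modEq {α : Type*} [Finite α] (act : X → α → α) (h1 : ∀ a, act 1 a = a)
    (hm : ∀ g h a, act (g * h) a = act g (act h a)) {p : ℕ} [Fact p.Prime] {P : Subgroup X}
    (hP : IsPGroup p P) (S : Set α) (hS : ∀ g ∈ P, ∀ a ∈ S, act g a ∈ S) :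
    Nat.card S ≡ Nat.card {a // a ∈ S ∧ ∀ g ∈ P, act g a = a} [MOD p] := by
  letI : MulAction P S :=
    { smul := fun g a => ⟨act g a, hS g g.2 a a.2⟩
      one_smul := fun a => Subtype.ext (h1 a)
      mul_smul := fun g h a => Subtype.ext (hm g h a) }
  rw [show Nat.card {a // a ∈ S ∧ ∀ g ∈ P, act g a = a} = Nat.card (MulAction.fixedPoints P S) from
    Nat.card_congr ⟨fun a => ⟨⟨a, a.2.1⟩, fun g => Subtype.ext (a.2.2 g g.2)⟩,
      fun a => ⟨a.1, a.1.2, fun g hg => congrArg Subtype.val (a.2 ⟨g, hg⟩)⟩, fun _ => rfl,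
      fun _ => rfl⟩]
  exact hP.card_modEq_card_fixedPoints S

theorem fix_modEq_elt {α : Type*} [Finite X] [Finite α] (act : X → α → α) (h1 : ∀ a, act 1 a = a)
    (hm : ∀ g h a, act (g * h) a = act g (act h a)) {p : ℕ} [Fact p.Prime] {f : X}
    (hf : orderOf f = p) (S : Set α) (hS : ∀ a ∈ S, act f a ∈ S) :
    Nat.card S ≡ Nat.card {a // a ∈ S ∧ act f a = a} [MOD p] := by
  have key : ∀ (T : α → Prop), (∀ a, T a → T (act f a)) → ∀ g ∈ zpowers f, ∀ a, T a → T (act g a) :=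
    fun T hT g hg a ha => by
      obtain ⟨n, rfl⟩ := mem_powers_iff_mem_zpowers.2 hg
      induction n with
      | zero => simpa [h1] using ha
      | succ n ih => beta_reduce; rw [pow_succ', hm]; exact hT _ (ih (pow_mem (mem_zpowers f) n))
  have := fix_modEq act h1 hm (P := zpowers f) (p := p)
    (IsPGroup.of_card (n := 1) (by rw [Nat.card_zpowers, hf, pow_one])) S (key (· ∈ S) hS)
  rwa [Nat.card_congr (Equiv.subtypeEquivRight (q := fun a => a ∈ S ∧ act f a = a) fun a =>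
    and_congr_right fun _ => ⟨fun h => h f (mem_zpowers f), fun h g hg =>
      key (· = a) (fun b hb => hb ▸ h) g hg a rfl⟩)] at this

theorem V4.one_ne_neg : (1 : Module.End (ZMod 3) V4) ≠ -1 := fun h => by
  have := congrFun (LinearMap.congr_fun h (fun _ => 1)) 0
  revert this; decide

theorem V4.card_dvd (W : Submodule (ZMod 3) V4) : Nat.card W ∣ 81 :=
  V4.card ▸ W.toAddSubgroup.card_addSubgroup_dvd_card

theorem V4.mem_fix {f : Module.End (ZMod 3) V4} {v : V4} :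
    v ∈ LinearMap.ker (f - 1) ↔ f v = v := by
  rw [LinearMap.mem_ker, LinearMap.sub_apply, sub_eq_zero]; rfl

theorem V4.mem_neg {f : Module.End (ZMod 3) V4} {v : V4} :
    v ∈ LinearMap.ker (f + 1) ↔ f v = -v := by
  rw [LinearMap.mem_ker, LinearMap.add_apply, add_eq_zero_iff_eq_neg]; rfl

variable {ρ : X →* Module.End (ZMod 3) V4}

theorem cj_pm {a h : X} (e : ρ (h * a * h⁻¹) = 1 ∨ ρ (h * a * h⁻¹) = -1) : ρ a = 1 ∨ ρ a = -1 := by
  have hi : ρ h⁻¹ * ρ h = 1 := by rw [← map_mul, inv_mul_cancel, map_one]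
  have hb : ρ a = ρ h⁻¹ * ρ (h * a * h⁻¹) * ρ h := by rw [← map_mul, ← map_mul]; congr 1; group
  exact e.imp (fun h' => by rw [hb, h', mul_one, hi])
    fun h' => by rw [hb, h', V4.mul_neg, mul_one, V4.neg_mul, hi]

variable [Finite X]

theorem five_fpf {f : X} (hf : orderOf f = 5) (h1 : ρ f ≠ 1) {v : V4} (hv : ρ f v = v) : v = 0 := by
  haveI : Fact (Nat.Prime 5) := ⟨by norm_num⟩
  have h := fix_modEq_elt (fun g v => ρ g v) (by simp) (by simp) hf Set.univ (by simp)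
  rw [Nat.card_univ, V4.card, Nat.card_congr (Equiv.subtypeEquivRight
    (q := (· ∈ LinearMap.ker (ρ f - 1))) fun a => by simp [sub_eq_zero])] at h
  have h2 := V4.card_dvd (LinearMap.ker (ρ f - 1))
  have h3 : Nat.card (LinearMap.ker (ρ f - 1)) ≠ 81 := fun e => h1 (LinearMap.ext fun w => by
    have : (LinearMap.ker (ρ f - 1)).toAddSubgroup = ⊤ :=
      AddSubgroup.eq_top_of_card_eq _ (e.trans V4.card.symm)
    exact V4.mem_fix.1 (show w ∈ (LinearMap.ker (ρ f - 1)).toAddSubgroup from this ▸ trivial))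
  have h4 : Nat.card (LinearMap.ker (ρ f - 1)) = 1 := by
    generalize Nat.card (LinearMap.ker (ρ f - 1)) = n at *
    have := Nat.le_of_dvd (by norm_num) h2
    unfold Nat.ModEq at h
    interval_cases n <;> omega
  exact congrArg Subtype.val ((Nat.card_eq_one_iff_unique.1 h4).1.elim ⟨v, V4.mem_fix.2 hv⟩ 0)

theorem Lin.not_five (L : Lin ρ) {f r : X} (hf : orderOf f = 5) (h1 : ρ f ≠ 1)
    (r2 : ρ r * ρ r = 1) (r1 : ρ r ≠ 1) (rn : ρ r ≠ -1) : ¬ Commute (ρ r) (ρ f) := fun hc => by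
  haveI : Fact (Nat.Prime 5) := ⟨by norm_num⟩
  have h := fix_modEq_elt (fun g v => ρ g v) (by simp) (by simp) hf (LinearMap.ker (ρ r - 1))
    fun v hv => V4.mem_fix.2 (by
      rw [← Module.End.mul_apply, hc.eq, Module.End.mul_apply, V4.mem_fix.1 hv])
  rw [SetLike.coe_sort_coe, (L.card r r2 r1 rn).1] at h
  have : Nat.card {a // a ∈ (LinearMap.ker (ρ r - 1) : Set V4) ∧ ρ f a = a} ≤ 1 :=
    Finite.card_le_one_iff_subsingleton.2 ⟨fun a b => Subtype.ext
      ((five_fpf hf h1 a.2.2).trans (five_fpf hf h1 b.2.2).symm)⟩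
  unfold Nat.ModEq at h
  omega

theorem a5_four : ∃ a u : alternatingGroup (Fin 5), a ≠ 1 ∧ a * a = 1 ∧
    a * (u * a * u⁻¹) = (u * a * u⁻¹) * a ∧ u * (u * a * u⁻¹) * u⁻¹ = a * (u * a * u⁻¹) :=
  ⟨⟨Equiv.swap 0 1 * Equiv.swap 2 3, Equiv.Perm.mem_alternatingGroup.2 (by decide)⟩,
    ⟨Equiv.swap 0 1 * Equiv.swap 1 2, Equiv.Perm.mem_alternatingGroup.2 (by decide)⟩,
    by decide, by decide, by decide, by decide⟩

/-- the hypotheses on `2^{1+4}.A₅` -/
structure EA (ρ : X →* Module.End (ZMod 3) V4) (R : Subgroup X) (t : X)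
    (φ : X →* alternatingGroup (Fin 5)) : Prop where
  lin : Lin ρ
  xs : XS R t
  card : Nat.card R = 32
  surj : Function.Surjective φ
  ker : φ.ker = R
  three : ¬ 3 ∣ Nat.card ρ.ker

namespace EA

variable {R : Subgroup X} {t : X} {φ : X →* alternatingGroup (Fin 5)}

omit [Finite X] in
theorem normal (h : EA ρ R t φ) : R.Normal := h.ker ▸ φ.normal_ker

omit [Finite X] in
theorem index (h : EA ρ R t φ) : R.index = 60 := by
  rw [← h.ker, index_ker, MonoidHom.range_eq_top.2 h.surj, card_top, nat_card_alternatingGroup]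
  simp [Nat.factorial]

omit [Finite X] in
theorem card_eq (h : EA ρ R t φ) : Nat.card X = 1920 := by
  rw [← R.card_mul_index, h.card, h.index]

omit [Finite X] in
theorem map_top (h : EA ρ R t φ) {D : Subgroup X} (hD : D.Normal) (hn : ¬ D ≤ R) :
    D.map φ = ⊤ :=
  (hD.map φ h.surj).eq_bot_or_eq_top.resolve_left fun e =>
    hn (h.ker ▸ (Subgroup.map_eq_bot_iff _).1 e)

theorem ker_le (h : EA ρ R t φ) : ρ.ker ≤ R := by
  by_contra hn
  have := card_map_dvd ρ.ker φ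
  rw [h.map_top ρ.normal_ker hn, card_top, nat_card_alternatingGroup] at this
  exact h.three (Dvd.dvd.trans (by simp [Nat.factorial]) this)

omit [Finite X] in
theorem five_notMem (h : EA ρ R t φ) {f : X} (hf : orderOf f = 5) : f ∉ R := fun e => by
  have := orderOf_dvd_natCard (⟨f, e⟩ : R)
  rw [← orderOf_coe, h.card, hf] at this
  omega

theorem not_five (h : EA ρ R t φ) {f r : X} (hf : orderOf f = 5) (r2 : ρ r * ρ r = 1)
    (r1 : ρ r ≠ 1) (rn : ρ r ≠ -1) : ¬ Commute (ρ r) (ρ f) :=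
  h.lin.not_five hf (fun e => h.five_notMem hf (h.ker_le e)) r2 r1 rn

theorem exists_five (h : EA ρ R t φ) : ∃ f : X, orderOf f = 5 :=
  haveI : Fact (Nat.Prime 5) := ⟨by norm_num⟩
  exists_prime_orderOf_dvd_card' 5 (by rw [h.card_eq]; norm_num)

theorem cent (h : EA ρ R t φ) (g : X) : Commute g t :=
  mul_inv_eq_iff_eq_mul.1 (h.xs.comm_z_of_conj_mem fun x hx => h.normal.conj_mem x hx g)

theorem no_four (h : EA ρ R t φ) {D : Subgroup X} (hD : D.Normal) (hn : ¬ D ≤ R)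
    (hk : D ⊓ R ≤ ρ.ker) : False := by
  obtain ⟨a₀, u₀, a1, a2, ac, au⟩ := a5_four
  obtain ⟨a, ha, rfl⟩ : a₀ ∈ D.map φ := h.map_top hD hn ▸ mem_top _
  obtain ⟨u, hu, rfl⟩ : u₀ ∈ D.map φ := h.map_top hD hn ▸ mem_top _
  have key : ∀ x ∈ D, ∀ y ∈ D, φ x = φ y → ρ x = ρ y := fun x hx y hy e => by
    have : ρ (x⁻¹ * y) = 1 := hk ⟨D.mul_mem (D.inv_mem hx) hy, h.ker ▸ by simp [e]⟩
    rw [← mul_one (ρ x), ← this, ← map_mul, mul_inv_cancel_left]
  have hb := hD.conj_mem a ha u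
  have e1 : ρ a * ρ a = 1 := by
    rw [← map_mul, key _ (mul_mem ha ha) 1 (one_mem _) (by simpa using a2), map_one]
  have e2 : ρ (u * (u * a * u⁻¹) * u⁻¹) = ρ a * ρ (u * a * u⁻¹) := by
    rw [← map_mul]; exact key _ (hD.conj_mem _ hb u) _ (mul_mem ha hb) (by simpa using au)
  have n1 : ρ a ≠ 1 := fun e => a1 (by rw [← MonoidHom.mem_ker, h.ker]; exact h.ker_le e)
  have neg : ∀ x, ρ x = -1 → ρ (u * x * u⁻¹) = -1 := fun x e => by
    rw [map_mul, map_mul, e, V4.mul_neg, V4.neg_mul, mul_one, ← map_mul, mul_inv_cancel, map_one]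
  have n2 : ρ a ≠ -1 := fun e => by
    rw [neg _ (neg _ e), neg _ e, e, V4.mul_neg, mul_one, neg_neg] at e2
    exact V4.one_ne_neg e2.symm
  have pm : ¬ (ρ a = 1 ∨ ρ a = -1) := not_or.2 ⟨n1, n2⟩
  have pm2 : ¬ (ρ (u * a * u⁻¹) = 1 ∨ ρ (u * a * u⁻¹) = -1) := fun e => pm (cj_pm e)
  rcases h.lin.comm a (u * a * u⁻¹) e1 n1 n2
    (by rw [← map_mul, key _ (mul_mem hb hb) 1 (one_mem _) (by
      rw [conj_mul, map_mul, map_mul, map_mul, a2]; simp), map_one])
    (by rw [Commute, SemiconjBy, ← map_mul, ← map_mul]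
        exact key _ (mul_mem ha hb) _ (mul_mem hb ha) (by simpa using ac)) with e | e | e | e
  · exact pm2 (.inl e)
  · exact pm2 (.inr e)
  · exact pm2 (cj_pm (.inl (by rw [e2, e, e1])))
  · exact pm2 (cj_pm (.inr (by rw [e2, e, V4.mul_neg, e1])))

theorem t_ne (h : EA ρ R t φ) : ρ t ≠ 1 := fun ht => by
  haveI : Fact (Nat.Prime 5) := ⟨by norm_num⟩
  obtain ⟨f, hf⟩ := h.exists_five
  have sq : ∀ r ∈ R, ρ r * ρ r = 1 := fun r hr => by
    rw [← map_mul]; rcases h.xs.sq hr with e | e <;> rw [e]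
    exacts [map_one ρ, ht]
  have pm : ∀ r ∈ R, ρ r = 1 ∨ ρ r = -1 := fun r hr => by
    by_contra hn
    obtain ⟨n1, n2⟩ := not_or.1 hn
    have hr' := h.normal.conj_mem r hr f
    have ef : ρ f * ρ r = ρ (f * r * f⁻¹) * ρ f := by rw [← map_mul, ← map_mul]; congr 1; group
    rcases h.lin.comm r (f * r * f⁻¹) (sq r hr) n1 n2 (sq _ hr') (by
      rw [Commute, SemiconjBy, ← map_mul, ← map_mul]
      rcases h.xs.comm r hr _ hr' with e | e <;> rw [e]
      rw [map_mul _ _ t, ht, mul_one]) with e | e | e | e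
    · exact hn (cj_pm (.inl e))
    · exact hn (cj_pm (.inr e))
    · exact h.not_five hf (sq r hr) n1 n2 (by rw [Commute, SemiconjBy, ef, e])
    · refine h.not_five (f := f ^ 2) (by rw [orderOf_pow, hf]; rfl) (sq r hr) n1 n2 ?_
      rw [e, V4.neg_mul] at ef
      rw [Commute, SemiconjBy, pow_two, map_mul, mul_assoc, ef, V4.mul_neg, ← mul_assoc (ρ f), ef,
        V4.neg_mul, neg_neg, mul_assoc]
  by_cases hR : R ≤ ρ.ker
  · exact h.no_four normal_top (fun e => h.five_notMem hf (e (mem_top _))) (inf_le_right.trans hR)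
  obtain ⟨r, hr, n1⟩ := SetLike.not_le_iff_exists.1 hR
  have e1 := (pm r hr).resolve_left n1
  have c1 := fix_modEq_elt (fun g x => g * x * g⁻¹) (by simp) (fun _ _ _ => by group) hf
    {x | ρ x = -1} fun x hx => by
      change ρ _ = -1
      rw [map_mul, map_mul, hx, V4.mul_neg, V4.neg_mul, mul_one, ← map_mul, mul_inv_cancel, map_one]
  have c2 : Nat.card {x | ρ x = -1} = Nat.card ρ.ker :=
    Nat.card_congr ((Equiv.mulLeft r).subtypeEquiv fun x => by
      rw [MonoidHom.mem_ker, Equiv.coe_mulLeft, map_mul, e1, V4.neg_mul, one_mul,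
        neg_eq_iff_eq_neg]; rfl)
  obtain ⟨s, s1, s2⟩ : ∃ s, ρ s = -1 ∧ f * s * f⁻¹ = s := by
    by_contra hn
    haveI : IsEmpty {a // a ∈ {x | ρ x = -1} ∧ f * a * f⁻¹ = a} := ⟨fun a => hn ⟨a, a.2⟩⟩
    rw [c2, Nat.card_of_isEmpty (α := {a // a ∈ {x | ρ x = -1} ∧ f * a * f⁻¹ = a})] at c1
    have := ((Nat.modEq_zero_iff_dvd.1 c1).trans (card_dvd_of_le h.ker_le))
    rw [h.card] at this; omega
  have sR : s ∈ R := by
    have := mul_mem (inv_mem hr) (h.ker_le (show ρ (r * s) = 1 by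
      rw [map_mul, e1, s1, V4.mul_neg, mul_one, neg_neg]))
    simpa using this
  have c3 := fix_modEq_elt (fun g x => g * x * g⁻¹) (by simp) (fun _ _ _ => by group) hf
    R fun x hx => h.normal.conj_mem x hx f
  rw [SetLike.coe_sort_coe, h.card, Nat.card_congr (Equiv.subtypeEquivRight
    (q := (· ∈ R ⊓ centralizer {f})) fun a => by
      rw [mem_inf, mem_centralizer_singleton_iff, mul_inv_eq_iff_eq_mul, eq_comm]; rfl)] at c3
  have c4 := card_dvd_of_le (inf_le_left : R ⊓ centralizer {f} ≤ R)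
  have c5 : zpowers t ≤ R ⊓ centralizer {f} :=
    zpowers_le.2 ⟨h.xs.mem, mem_centralizer_singleton_iff.2 (h.cent f).symm⟩
  have c6 : Nat.card (R ⊓ centralizer {f} : Subgroup X) ≠ 2 := fun e => by
    have := eq_of_le_of_card_ge c5 (by rw [e, h.xs.card_Z])
    have hs : s ∈ zpowers t :=
      this ▸ ⟨sR, mem_centralizer_singleton_iff.2 (mul_inv_eq_iff_eq_mul.1 s2).symm⟩
    rcases h.xs.mem_Z.1 hs with rfl | rfl
    · exact V4.one_ne_neg ((map_one ρ).symm.trans s1)
    · exact V4.one_ne_neg (ht.symm.trans s1)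
  have c7 : R ⊓ centralizer {f} = R := eq_of_le_of_card_ge inf_le_left (by
    rw [h.card] at c4 ⊢
    generalize Nat.card (R ⊓ centralizer {f} : Subgroup X) = n at *
    have := Nat.le_of_dvd (by norm_num) c4
    unfold Nat.ModEq at c3
    interval_cases n <;> omega)
  haveI := h.normal
  refine h.no_four (D := centralizer R) inferInstance (fun e => h.five_notMem hf (e fun x hx =>
    mem_centralizer_singleton_iff.1 (c7.ge hx).2)) fun x hx => ?_
  rcases h.xs.cent x hx.2 fun y hy => (hx.1 y hy).symm with rfl | rfl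
  exacts [map_one ρ, ht]

theorem inj (h : EA ρ R t φ) : Function.Injective ρ := by
  rw [injective_iff_map_eq_one]
  intro x hx
  refine (h.xs.cent x (h.ker_le hx) fun y hy => ?_).resolve_right fun e => h.t_ne (e ▸ hx)
  refine ((h.xs.comm y hy x (h.ker_le hx)).resolve_right fun e => h.t_ne ?_).symm
  have := congrArg ρ e
  rw [map_mul, map_mul, map_mul, hx, mul_one, one_mul] at this
  rw [← inv_mul_cancel_left y t, map_mul, map_mul, ← this, ← map_mul, inv_mul_cancel, map_one]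

theorem ρ_t (h : EA ρ R t φ) : ρ t = -1 := by
  by_contra hn
  obtain ⟨f, hf⟩ := h.exists_five
  exact h.not_five hf (by rw [← map_mul, h.xs.zz, map_one]) h.t_ne hn ((h.cent f).symm.map ρ)

theorem exists_invol (h : EA ρ R t φ) : ∃ r ∈ R, r * r = 1 ∧ r ≠ 1 ∧ r ≠ t := by
  by_contra hn
  have sq : ∀ x ∈ R, x ≠ 1 → x ≠ t → x * x = t := fun x hx h1 h2 =>
    (h.xs.sq hx).resolve_left fun e => hn ⟨x, hx, e, h1, h2⟩
  obtain ⟨x, hx, y, -, e⟩ := h.xs.nonab
  have x1 : x ≠ 1 := by rintro rfl; simp at e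
  have x2 : x ≠ t := by rintro rfl; exact e (h.cent y).symm
  have c1 := h.xs.card_inf_centralizer hx x1 x2
  have c2 : Nat.card (zpowers x) ≤ 4 := by
    rw [Nat.card_zpowers]; exact orderOf_le_of_pow_eq_one (by norm_num) (h.xs.pow_four hx)
  obtain ⟨y, hy, hy'⟩ : ∃ y ∈ R ⊓ centralizer {x}, y ∉ zpowers x :=
    SetLike.not_le_iff_exists.1 fun e => by have := card_le_of_le e; rw [h.card] at c1; omega
  have tx : t ∈ zpowers x := sq x hx x1 x2 ▸ mul_mem (mem_zpowers x) (mem_zpowers x)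
  have c : y * x = x * y := mem_centralizer_singleton_iff.1 hy.2
  have m : x * y ∉ zpowers x := fun e => hy' (by simpa using mul_mem (inv_mem (mem_zpowers x)) e)
  refine hn ⟨x * y, mul_mem hx hy.1, ?_, fun e => m (e ▸ one_mem _), fun e => m (e ▸ tx)⟩
  calc x * y * (x * y) = x * (y * x) * y := by group
    _ = (x * x) * (y * y) := by rw [c]; group
    _ = 1 := by
      rw [sq x hx x1 x2, sq y hy.1 (fun e => hy' (e ▸ one_mem _)) (fun e => hy' (e ▸ tx)), h.xs.zz]

end EA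

end Cfsg.Agent.H23
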