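import Mathlib
import Cfsg.Agent.H23.X3e

/-! The ten non-central involutions of `2^{1+4}` acting on the space of order `81`. -/

set_option autoImplicit false

namespace Cfsg.Agent.H23.EA

open Cfsg Subgroup H49

variable {X : Type*} [Group X] [Finite X] {ρ : X →* Module.End (ZMod 3) V4} {R : Subgroup X}
  {t r s : X} {φ : X →* alternatingGroup (Fin 5)}

/-- non-central involutions -/
def NI (R : Subgroup X) (t r : X) : Prop := r ∈ R ∧ r * r = 1 ∧ r ≠ 1 ∧ r ≠ t

theorem ni_cj (h : EA ρ R t φ) (hr : NI R t r) (g : X) : NI R t (g * r * g⁻¹) :=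
  ⟨h.normal.conj_mem r hr.1 g, by rw [conj_mul, hr.2.1]; group, fun e => hr.2.2.1 (by simpa using e),
    fun e => hr.2.2.2 (by
      rw [← mul_inv_eq_iff_eq_mul.2 (h.cent g).eq] at e; simpa using e)⟩

theorem ni_mul (h : EA ρ R t φ) (hr : NI R t r) : NI R t (r * t) :=
  ⟨mul_mem hr.1 h.xs.mem, by
    rw [mul_assoc, ← mul_assoc t, ← (h.cent r).eq, mul_assoc, h.xs.zz, mul_one, hr.2.1],
    fun e => hr.2.2.2 (by rw [eq_inv_of_mul_eq_one_left e, h.xs.inv_z]),
    fun e => hr.2.2.1 (by simpa using e)⟩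

theorem ni_ρ (h : EA ρ R t φ) (hr : NI R t r) : ρ r * ρ r = 1 ∧ ρ r ≠ 1 ∧ ρ r ≠ -1 :=
  ⟨by rw [← map_mul, hr.2.1, map_one], fun e => hr.2.2.1 (h.inj (e.trans (map_one ρ).symm)),
    fun e => hr.2.2.2 (h.inj (e.trans h.ρ_t.symm))⟩

theorem ρ_mul_t (h : EA ρ R t φ) (x : X) (v : V4) : ρ (x * t) v = -ρ x v := by
  rw [map_mul, h.ρ_t, V4.mul_neg, mul_one]; rfl

theorem comm_cases (h : EA ρ R t φ) (hr : NI R t r) {y : X} (y2 : y * y = 1) (hc : Commute r y) :
    y = 1 ∨ y = t ∨ y = r ∨ y = r * t := by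
  obtain ⟨a, b, c⟩ := h.ni_ρ hr
  rcases h.lin.comm r y a b c (by rw [← map_mul, y2, map_one]) (hc.map ρ) with e | e | e | e
  · exact .inl (h.inj (e.trans (map_one ρ).symm))
  · exact .inr (.inl (h.inj (e.trans h.ρ_t.symm)))
  · exact .inr (.inr (.inl (h.inj e)))
  · exact .inr (.inr (.inr (h.inj (by rw [e, map_mul, h.ρ_t, V4.mul_neg, mul_one]))))

theorem eq_of_fix (h : EA ρ R t φ) (hr : NI R t r) (hs : NI R t s) {v : V4} (hv : v ≠ 0)
    (e1 : ρ r v = v) (e2 : ρ s v = v) : s = r := by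
  rcases h.xs.comm r hr.1 s hs.1 with e | e
  · rcases h.comm_cases hr hs.2.1 e with e | e | e | e
    · exact absurd e hs.2.2.1
    · exact absurd e hs.2.2.2
    · exact e
    · rw [e, h.ρ_mul_t, e1] at e2; exact absurd (V4.eq_zero_of_eq_neg e2.symm) hv
  · have := congrArg (fun x => ρ x v) e
    simp only [h.ρ_mul_t] at this
    simp only [map_mul, Module.End.mul_apply, e1, e2] at this
    exact absurd (V4.eq_zero_of_eq_neg this) hv

theorem stab (h : EA ρ R t φ) (hr : NI R t r) (g : X) (v : V4) (hv : v ≠ 0)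
    (e : ρ r v = v ∨ ρ r v = -v) (hg : ρ g v = v) : Commute g r := by
  have key : ∀ s, NI R t s → ρ s v = v → g * s * g⁻¹ = s := fun s hs e =>
    h.eq_of_fix hs (h.ni_cj hs g) hv e (by
      nth_rw 1 [← hg]
      rw [← Module.End.mul_apply, ← map_mul, inv_mul_cancel_right, map_mul, Module.End.mul_apply,
        e, hg])
  rcases e with e | e
  · exact mul_inv_eq_iff_eq_mul.1 (key r hr e)
  · have := mul_inv_eq_iff_eq_mul.1 (key _ (h.ni_mul hr) (by rw [h.ρ_mul_t, e, neg_neg]))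
    rw [mul_assoc, ← (h.cent g).eq, ← mul_assoc, ← mul_assoc] at this
    exact mul_right_cancel this

omit [Finite X] in
theorem card_class (r : X) :
    Nat.card {s // ∃ g, g * r * g⁻¹ = s} = (centralizer {r}).index := by
  letI : MulAction X X := MulAction.compHom X (MulAut.conj : X →* MulAut X)
  have : centralizer {r} = MulAction.stabilizer X r := Subgroup.ext fun g =>
    mem_centralizer_singleton_iff.trans mul_inv_eq_iff_eq_mul.symm
  rw [this, MulAction.index_stabilizer, ← Nat.card_coe_set_eq]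
  rfl

theorem index_trans (h : EA ρ R t φ) (hr : NI R t r) : (centralizer {r}).index = 10 ∧
    ∀ v, ∃ g, ρ r (ρ g v) = ρ g v := by
  classical
  haveI : Fact (Nat.Prime 5) := ⟨by norm_num⟩
  let F : (Σ s : {s // ∃ g, g * r * g⁻¹ = s}, {v : LinearMap.ker (ρ s - 1) // v ≠ 0}) →
      {v : V4 // v ≠ 0} := fun x => ⟨x.2.1, fun e => x.2.2 (Subtype.ext e)⟩
  have ni : ∀ s : {s // ∃ g, g * r * g⁻¹ = s}, NI R t s := fun ⟨_, g, e⟩ => e ▸ h.ni_cj hr g
  have hF : Function.Injective F := by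
    rintro ⟨s, v⟩ ⟨s', v'⟩ e
    have e' : (v.1 : V4) = v'.1 := congrArg Subtype.val e
    obtain rfl : s = s' := Subtype.ext (h.eq_of_fix (ni s') (ni s) (F ⟨s, v⟩).2
      (by change ρ _ v.1 = v.1; rw [e']; exact V4.mem_fix.1 v'.1.2) (V4.mem_fix.1 v.1.2))
    rw [show v = v' from Subtype.ext (Subtype.ext e')]
  have cn : ∀ {α : Type} [Finite α] (a : α), Nat.card {v : α // v ≠ a} = Nat.card α - 1 :=
    fun {α} _ a => by
      haveI := Fintype.ofFinite α
      simp [Nat.card_eq_fintype_card]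
  have c1 : Nat.card (Σ s : {s // ∃ g, g * r * g⁻¹ = s},
      {v : LinearMap.ker (ρ s - 1) // v ≠ 0}) = (centralizer {r}).index * 8 := by
    haveI := Fintype.ofFinite {s // ∃ g, g * r * g⁻¹ = s}
    rw [Nat.card_sigma, Finset.sum_congr rfl (g := fun _ => 8) fun s _ => by
      obtain ⟨a, b, c⟩ := h.ni_ρ (ni s)
      rw [cn, (h.lin.card _ a b c).1], Finset.sum_const, Finset.card_univ, ← card_class,
      Nat.card_eq_fintype_card, smul_eq_mul]
  have c2 := Nat.card_le_card_of_injective F hF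
  rw [c1, cn, V4.card] at c2
  have c3 := (centralizer {r}).card_mul_index
  rw [h.card_eq] at c3
  have c5 : 5 ∣ (centralizer {r}).index := by
    refine ((Nat.Prime.dvd_mul Fact.out).1 (by rw [c3]; norm_num)).resolve_left fun e => ?_
    obtain ⟨f, hf⟩ := exists_prime_orderOf_dvd_card' 5 e
    obtain ⟨a, b, c⟩ := h.ni_ρ hr
    exact h.not_five (f := f) (by rwa [orderOf_coe]) a b c
      (Commute.map (mem_centralizer_singleton_iff.1 f.2).symm ρ)
  have c6 : 2 ∣ (centralizer {r}).index := by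
    haveI := h.normal
    obtain ⟨b, hb⟩ := relIndex_dvd_index_of_normal R (centralizer {r})
    have e1 := relIndex_mul_index (inf_le_right : centralizer {r} ⊓ R ≤ R)
    have e2 := relIndex_mul_index (inf_le_left : centralizer {r} ⊓ R ≤ _)
    rw [inf_relIndex_right, h.xs.relIndex_centralizer hr.1 hr.2.2.1 hr.2.2.2, hb, ← e2,
      inf_relIndex_left] at e1
    exact ⟨b, Nat.eq_of_mul_eq_mul_left (Nat.pos_of_ne_zero (n := R.relIndex (centralizer {r})) index_ne_zero_of_finite)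
      (by rw [← e1]; ring)⟩
  have c7 : (centralizer {r}).index = 10 := by
    have := index_ne_zero_of_finite (H := centralizer {r}); omega
  refine ⟨c7, fun v => ?_⟩
  by_cases hv : v = 0
  · exact ⟨1, by simp [hv]⟩
  obtain ⟨⟨⟨_, g, rfl⟩, w⟩, e⟩ := (hF.bijective_of_nat_card_le (by rw [c1, cn, V4.card, c7])).2 ⟨v, hv⟩
  have e1 := V4.mem_fix.1 w.1.2
  rw [show (w.1 : V4) = v from congrArg Subtype.val e] at e1
  refine ⟨g⁻¹, ?_⟩
  nth_rw 2 [← e1]
  rw [← Module.End.mul_apply, ← Module.End.mul_apply, ← map_mul, ← map_mul]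
  congr 2; group

theorem card_cent (h : EA ρ R t φ) (hr : NI R t r) : Nat.card (centralizer ({r} : Set X)) = 192 := by
  have c3 := (centralizer {r}).card_mul_index
  rw [h.card_eq, (h.index_trans hr).1] at c3
  omega

theorem exists_sqrt (h : EA ρ R t φ) (hr : NI R t r) {v : V4} (hv : v ≠ 0) (e : ρ r v = v) :
    ∃ x, ρ x v = v ∧ x * x = r := by
  letI : MulAction X V4 := MulAction.compHom V4 ρ
  have hT : MulAction.stabilizer X v ≤ centralizer {r} := fun g hg =>
    mem_centralizer_singleton_iff.2 (h.stab hr g v hv (.inl e) hg)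
  have c1 := card_dvd_of_le hT
  have c2 := (MulAction.stabilizer X v).card_mul_index
  have c3 : (MulAction.stabilizer X v).index ≤ 81 := by
    rw [MulAction.index_stabilizer, ← V4.card]; exact Set.ncard_le_card _
  rw [h.card_cent hr] at c1
  rw [h.card_eq] at c2
  have c4 : 2 ^ 2 ∣ Nat.card (MulAction.stabilizer X v) := by
    generalize Nat.card (MulAction.stabilizer X v) = n at *
    have := Nat.le_of_dvd (by norm_num) c1
    have : 24 ≤ n := by nlinarith
    interval_cases n <;> omega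
  obtain ⟨P, hP⟩ := Sylow.exists_subgroup_card_pow_prime 2 c4
  have inv : ∀ y : X, ρ y v = v → y * y = 1 → y = 1 ∨ y = r := fun y e1 e2 => by
    rcases h.comm_cases hr e2 (h.stab hr y v hv (.inl e) e1).symm with rfl | rfl | rfl | rfl
    · exact .inl rfl
    · rw [h.ρ_t] at e1; exact absurd (V4.eq_zero_of_eq_neg e1.symm) hv
    · exact .inr rfl
    · rw [h.ρ_mul_t, e] at e1; exact absurd (V4.eq_zero_of_eq_neg e1.symm) hv
  obtain ⟨x, hx, hn⟩ : ∃ x ∈ P.map (MulAction.stabilizer X v).subtype, x ∉ zpowers r :=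
    SetLike.not_le_iff_exists.1 fun e => by
      have := card_le_of_le e
      rw [card_map_of_injective (subtype_injective _), hP,
        card_zpowers_invol hr.2.2.1 hr.2.1] at this
      omega
  obtain ⟨x, hx, rfl⟩ := hx
  have x4 : (x : X) ^ 4 = 1 := by
    have := pow_card_eq_one' (x := (⟨x, hx⟩ : P))
    rw [hP] at this
    exact congrArg (fun y : P => (y : X)) this
  refine ⟨x, x.2, (inv _ (x * x).2 (by rw [← x4]; simp [pow_succ, mul_assoc])).resolve_left
    fun e' => hn ((mem_zpowers_invol hr.2.1).2 (inv _ x.2 e'))⟩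

theorem aniso : ∀ a b c d : ZMod 3, (a - b) ^ 2 + (c - d) ^ 2 = 0 → a = b ∧ c = d := by decide

/-- the stabilizer of a non-zero vector has no normal `3`-subgroup -/
theorem eq_bot (h : EA ρ R t φ) (hr : NI R t r) {v : V4} (hv : v ≠ 0) (e : ρ r v = v)
    {A : Subgroup X} (hA : IsPGroup 3 A) (hf : ∀ a ∈ A, ρ a v = v)
    (hn : ∀ g, ρ g v = v → ∀ a ∈ A, g * a * g⁻¹ ∈ A) : A = ⊥ := by
  haveI : Fact (Nat.Prime 3) := ⟨by norm_num⟩
  obtain ⟨r2, r1, rn⟩ := h.ni_ρ hr
  have hc : ∀ a ∈ A, Commute a r := fun a ha => h.stab hr a v hv (.inl e) (hf a ha)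
  have pres : ∀ a, Commute a r → ∀ w, ρ r w = -w → ρ r (ρ a w) = -ρ a w := fun a ha w hw => by
    rw [← Module.End.mul_apply, ← (ha.map ρ).eq, Module.End.mul_apply, hw, map_neg]
  have c9 := (h.lin.card r r2 r1 rn).2
  have c1 := fix_modEq (fun g v => ρ g v) (by simp) (by simp) hA (LinearMap.ker (ρ r + 1))
    fun a ha w hw => V4.mem_neg.2 (pres a (hc a ha) w (V4.mem_neg.1 hw))
  rw [SetLike.coe_sort_coe, c9] at c1
  obtain ⟨w, w0, w1, w2⟩ : ∃ w, w ≠ 0 ∧ ρ r w = -w ∧ ∀ a ∈ A, ρ a w = w := by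
    by_contra hw
    haveI : Unique {a // a ∈ (LinearMap.ker (ρ r + 1) : Set V4) ∧ ∀ g ∈ A, ρ g a = a} :=
      ⟨⟨⟨0, by simp⟩⟩, fun a => Subtype.ext (by
        by_contra a0; exact hw ⟨a, a0, V4.mem_neg.1 a.2.1, a.2.2⟩)⟩
    rw [Nat.card_unique] at c1
    revert c1; decide
  obtain ⟨x, x1, x2⟩ := h.exists_sqrt hr hv e
  have xi : ρ x⁻¹ v = v := by
    nth_rw 1 [← x1]; rw [← Module.End.mul_apply, ← map_mul, inv_mul_cancel, map_one]; rfl
  have w3 : ∀ a ∈ A, ρ a (ρ x w) = ρ x w := fun a ha => by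
    nth_rw 2 [← w2 _ (hn _ xi a ha)]
    rw [← Module.End.mul_apply, ← Module.End.mul_apply, ← map_mul, ← map_mul]
    congr 2; group
  have w4 : ρ x (ρ x w) = -w := by rw [← Module.End.mul_apply, ← map_mul, x2, w1]
  have w5 := pres x (x2 ▸ (Commute.refl x).mul_right (Commute.refl x)) w w1
  let F : ZMod 3 × ZMod 3 → LinearMap.ker (ρ r + 1) := fun c =>
    ⟨c.1 • w + c.2 • ρ x w, V4.mem_neg.2 (by simp [w1, w5, add_comm])⟩
  have hF : Function.Injective F := fun c d e => by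
    have e1 : c.1 • w + c.2 • ρ x w = d.1 • w + d.2 • ρ x w := congrArg Subtype.val e
    have e2 := congrArg (ρ x) e1
    simp only [map_add, map_smul, w4] at e2
    have e3 : ((c.1 - d.1) ^ 2 + (c.2 - d.2) ^ 2) • w = 0 := by
      linear_combination (norm := module) (c.1 - d.1) • e1 - (c.2 - d.2) • e2
    have e4 := (smul_eq_zero.1 e3).resolve_right w0
    exact Prod.ext (aniso _ _ _ _ e4).1 (aniso _ _ _ _ e4).2
  have fn : ∀ a ∈ A, ∀ u, ρ r u = -u → ρ a u = u := fun a ha u hu => by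
    obtain ⟨c, hc⟩ := (hF.bijective_of_nat_card_le (by rw [c9]; simp)).2 ⟨u, V4.mem_neg.2 hu⟩
    rw [← show c.1 • w + c.2 • ρ x w = u from congrArg Subtype.val hc]
    simp [w2 a ha, w3 a ha]
  have c2 := fix_modEq (fun g x => g * x * g⁻¹) (by simp) (fun _ _ _ => by group) hA
    {s | ∃ g, g * r * g⁻¹ = s} fun a _ s ⟨g, hg⟩ => ⟨a * g, by rw [← hg]; group⟩
  rw [show Nat.card {s | ∃ g, g * r * g⁻¹ = s} = 10 from
    (card_class r).trans (h.index_trans hr).1] at c2
  obtain ⟨s, ⟨g, hs⟩, s1, s2, s3⟩ : ∃ s, (∃ g, g * r * g⁻¹ = s) ∧ (∀ a ∈ A, a * s * a⁻¹ = s) ∧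
      s ≠ r ∧ s ≠ r * t := by
    by_contra hs
    rw [Nat.card_congr (Equiv.subtypeEquivRight (q := (· ∈ ({r, r * t} : Set X))) fun s => ?_),
      Nat.card_coe_set_eq, Set.ncard_pair (h.xs.mul_z_ne r).symm] at c2
    · revert c2; decide
    refine ⟨fun hs' => ?_, ?_⟩
    · by_contra hn'
      exact hs ⟨s, hs'.1, hs'.2, not_or.1 hn'⟩
    · rintro (rfl | rfl)
      · exact ⟨⟨1, by simp⟩, fun a ha => mul_inv_eq_iff_eq_mul.2 (hc a ha)⟩
      · obtain ⟨y, -, hy⟩ := h.xs.exists_conj_eq_mul_z hr.1 hr.2.2.1 hr.2.2.2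
        exact ⟨⟨y, hy⟩, fun a ha => mul_inv_eq_iff_eq_mul.2 ((hc a ha).mul_right (h.cent a))⟩
  have ns : NI R t s := hs ▸ h.ni_cj hr g
  have rs : r * s = s * r * t := (h.xs.comm r hr.1 s ns.1).resolve_left fun e => by
    rcases h.comm_cases hr ns.2.1 e with e | e | e | e
    exacts [ns.2.2.1 e, ns.2.2.2 e, s2 e, s3 e]
  have fp : ∀ a ∈ A, ∀ u, ρ r u = u → ρ a u = u := fun a ha u hu => by
    have e1 := fn a ha (ρ s u) (by
      rw [← Module.End.mul_apply, ← map_mul, rs, h.ρ_mul_t, map_mul, Module.End.mul_apply, hu])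
    rw [← Module.End.mul_apply, ← map_mul, mul_inv_eq_iff_eq_mul.1 (s1 a ha), map_mul,
      Module.End.mul_apply] at e1
    simpa only [← Module.End.mul_apply, ← mul_assoc, (h.ni_ρ ns).1, one_mul, Module.End.one_apply]
      using congrArg (ρ s) e1
  refine eq_bot_iff.2 fun a ha => h.inj (LinearMap.ext fun u => ?_)
  have rr : ρ r (ρ r u) = u := by rw [← Module.End.mul_apply, r2]; rfl
  have e1 := fp a ha (u + ρ r u) (by rw [map_add, rr, add_comm])
  have e2 := fn a ha (u - ρ r u) (by rw [map_sub, rr, neg_sub])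
  rw [map_add] at e1
  rw [map_sub] at e2
  rw [map_one, Module.End.one_apply, ← sub_eq_zero]
  exact V4.eq_zero_of_eq_neg (by linear_combination (exp := 1) e1 + e2)

end Cfsg.Agent.H23.EA
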