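import Mathlib
import Cfsg.Agent.H23.X3f

/-! The hypotheses of the `Co₂` theorem give the common local configuration. -/

set_option autoImplicit false

namespace Cfsg.Agent.H23

open Cfsg Subgroup H49 H95.L3

variable {G : Type*} [Group G] [Finite G] {Q : Subgroup G} {z : G}

theorem X3.nab_cent (h : X3 Q z) (h5 : Nat.card Q = 243) {q : G} (hq : q ∈ Q)
    (hn : q ∉ zpowers z) : ∃ a ∈ Q ⊓ centralizer {q}, ∃ b ∈ Q ⊓ centralizer {q},
      a * b * a⁻¹ * b⁻¹ = z ∨ a * b * a⁻¹ * b⁻¹ = z⁻¹ := by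
  by_contra hc
  have c1 := h.card_cent_elt hq hn
  have c2 := h.card_cent_mul (A := Q ⊓ centralizer {q}) inf_le_left
    ⟨h.mem, mem_centralizer_singleton_iff.2 (h.cen q hq).symm⟩
  have c3 := card_le_of_le (show Q ⊓ centralizer {q} ≤
      Q ⊓ centralizer ((Q ⊓ centralizer {q} : Subgroup G) : Set G) from fun b hb =>
    ⟨hb.1, fun a ha => commutatorElement_eq_one_iff_mul_comm.1
      (((mem_zp3 h.ord).1 (h.comm a ha.1 b hb.1)).resolve_right fun e => hc ⟨a, ha, b, hb, e⟩)⟩)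
  rw [h5] at c1 c2
  rw [show Nat.card (Q ⊓ centralizer {q} : Subgroup G) = 81 by omega] at c2 c3
  omega

/-- properties of `O₃(C(z))` that pass to conjugates -/
structure Gd3 (Q : Subgroup G) (z : G) : Prop where
  x3 : X3 Q z
  card : Nat.card Q = 243
  norm : ∀ g, Commute g z → ∀ q ∈ Q, g * q * g⁻¹ ∈ Q
  ab : ∀ P : Subgroup G, IsPGroup 3 P → (∀ a ∈ P, Commute a z) → ∀ a ∈ P, ∀ b ∈ P,
    a * b * a⁻¹ * b⁻¹ ∈ Q

omit [Finite G] in
theorem Gd3.inv (h : Gd3 Q z) : Gd3 Q z⁻¹ :=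
  ⟨h.x3.inv, h.card, fun g hg => h.norm g (by simpa using hg),
    fun P hP hc => h.ab P hP (by simpa using hc)⟩

omit [Finite G] in
theorem Gd3.conj (h : Gd3 Q z) (g : G) :
    Gd3 (Q.map (MulAut.conj g).toMonoidHom) (g * z * g⁻¹) := by
  have hc : ∀ k, Commute k (g * z * g⁻¹) → Commute (g⁻¹ * k * g) z := fun k hk => by
    simpa [mul_assoc] using hk.map (MulAut.conj g⁻¹)
  refine ⟨h.x3.conj g, (card_map_of_injective (MulAut.conj g).injective).trans h.card, ?_,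
    fun P hP hz a ha b hb => ?_⟩
  · rintro k hk _ ⟨q, hq, rfl⟩
    exact ⟨_, h.norm _ (hc k hk) q hq, by simp [mul_assoc]⟩
  · refine ⟨_, h.ab (P.map (MulAut.conj g⁻¹).toMonoidHom) (hP.map _) ?_ _ ⟨a, ha, rfl⟩ _
      ⟨b, hb, rfl⟩, by simp [mul_assoc]⟩
    rintro _ ⟨k, hk, rfl⟩
    simpa using hc k (hz k hk)

omit [Finite G] in
theorem Gd3.zt (h : Gd3 Q z) {q : G} (hq : ZT z q) : ∃ Q', Gd3 Q' q := by
  rcases hq with hq | hq <;> obtain ⟨g, rfl⟩ := isConj_iff.1 hq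
  exacts [⟨_, h.conj g⟩, ⟨_, h.inv.conj g⟩]

theorem EA.three_sub {X : Type*} [Group X] [Finite X] {R : Subgroup X} {φ : X →* alternatingGroup (Fin 5)} (hc : Nat.card R = 32)
    (hs : Function.Surjective φ) (hk : φ.ker = R) {P : Subgroup X} (hP : IsPGroup 3 P) {a : X}
    (ha : a ∈ P) (h1 : a ≠ 1) : P = zpowers a := by
  haveI : Fact (Nat.Prime 3) := ⟨by norm_num⟩
  obtain ⟨n, hn⟩ := hP.exists_card_eq
  obtain ⟨m, hm⟩ := (hP.to_le (zpowers_le.2 ha)).exists_card_eq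
  have c : Nat.card X = 1920 := by
    rw [← R.card_mul_index, hc, ← hk, index_ker, MonoidHom.range_eq_top.2 hs, card_top,
      nat_card_alternatingGroup]
    simp [Nat.factorial]
  have h2 := P.card_subgroup_dvd_card
  rw [c, hn] at h2
  have h3 : n ≤ 1 := by
    by_contra h; exact absurd ((pow_dvd_pow 3 (by omega : 2 ≤ n)).trans h2) (by norm_num)
  have h4 : m ≠ 0 := by
    rintro rfl; exact h1 (zpowers_eq_bot.1 (card_eq_one.1 hm))
  exact (eq_of_le_of_card_ge (zpowers_le.2 ha)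
    (by rw [hn, hm]; exact Nat.pow_le_pow_right (by norm_num) (by omega))).symm

theorem hypB_core (S : Sylow 3 G)
    (hZ : zpowers z = (S : Subgroup G) ⊓ centralizer ((S : Subgroup G) : Set G))
    (hSC : (S : Subgroup G) ≤ centralizer {z}) {Q₀ : Subgroup (centralizer ({z} : Set G))}
    [Q₀.Normal] (B : Bar z Q₀) (hQcard : Nat.card Q₀ = 3 ^ 5)
    {R : Subgroup (centralizer ({z} : Set G) ⧸ Q₀)} {t : centralizer ({z} : Set G) ⧸ Q₀}
    (ht : XS R t) (hRcard : Nat.card R = 32)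
    {φ : centralizer ({z} : Set G) ⧸ Q₀ →* alternatingGroup (Fin 5)} (φs : Function.Surjective φ)
    (φk : φ.ker = R) (hZQ : (zpowers z).subgroupOf _ ≤ Q₀)
    (hnwc : ¬ IsWeaklyClosed (zpowers z) S) :
    ∃ Q₁ Q₂ : Subgroup G, Q₁ ⊔ Q₂ = Q₀.map (centralizer {z}).subtype ∧ Hyp0 z Q₁ Q₂ ∧
      Trans z Q₁ Q₂ ∧ Nat.card (centralizer ({z} : Set G)) = 466560 := by
  haveI : Fact (Nat.Prime 3) := ⟨by norm_num⟩
  have p3 : ∀ P : Subgroup G, IsPGroup 3 P →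
      IsPGroup 3 ((P.subgroupOf (centralizer {z})).map (QuotientGroup.mk' Q₀)) := fun P hP =>
    hP.comap_subtype.map _
  have three := fun P hP a => EA.three_sub hRcard φs φk (p3 P hP) (a := a)
  have E : EA B.ρ _ t φ := ⟨B.lin, ht, hRcard, φs, φk, fun h3 => by
    obtain ⟨⟨x, hx⟩, x3⟩ := exists_prime_orderOf_dvd_card' 3 h3
    rw [← orderOf_coe] at x3
    rw [B.ker_eq] at hx
    obtain ⟨k, hk, rfl⟩ := hx
    obtain ⟨a, m, hm, e1⟩ := Nat.exists_eq_pow_mul_and_not_dvd (orderOf_pos k).ne' 3 (by norm_num)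
    have m0 : m ≠ 0 := by rintro rfl; exact hm (dvd_zero 3)
    obtain ⟨T, hT⟩ := (IsPGroup.of_card (p := 3) (G := zpowers (k ^ m)) (n := a) (by
      rw [Nat.card_zpowers, orderOf_pow_of_dvd m0 (e1 ▸ dvd_mul_left _ _), e1,
        Nat.mul_div_cancel _ (Nat.pos_of_ne_zero m0)])).exists_le_sylow
    obtain ⟨c, hc'⟩ := MulAction.exists_smul_eq (centralizer ({z} : Set G)) T (S.subtype hSC)
    have y1 : c * k ^ m * c⁻¹ ∈ (S.subtype hSC : Subgroup _) :=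
      hc' ▸ ⟨k ^ m, hT (mem_zpowers _), rfl⟩
    have y2 : c * k ^ m * c⁻¹ ∈ centralizer (Q₀ : Set (centralizer ({z} : Set G))) :=
      Normal.conj_mem inferInstance _ (pow_mem hk m) c
    have y3 : QuotientGroup.mk' Q₀ (c * k ^ m * c⁻¹) ≠ 1 := fun h => hm (by
      rw [← x3, orderOf_dvd_iff_pow_eq_one]; simpa using h)
    generalize c * k ^ m * c⁻¹ = y at y1 y2 y3
    refine y3 ((QuotientGroup.eq_one_iff y).2 (hZQ (hZ.ge ⟨y1, fun s hs => ?_⟩)))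
    obtain ⟨j, hj⟩ : QuotientGroup.mk' Q₀ ⟨s, hSC hs⟩ ∈ zpowers (QuotientGroup.mk' Q₀ y) :=
      three S S.isPGroup' _ ⟨y, y1, rfl⟩ y3 ▸ ⟨⟨s, hSC hs⟩, hs, rfl⟩
    have := y2 _ (QuotientGroup.eq.1 (show ((y ^ j : centralizer ({z} : Set G)) :
      centralizer ({z} : Set G) ⧸ Q₀) = (⟨s, hSC hs⟩ : centralizer ({z} : Set G)) from hj))
    rw [mul_assoc, ← mul_assoc y, ((Commute.refl y).zpow_right j).inv_right.eq, mul_assoc] at this
    exact congrArg Subtype.val (mul_left_cancel this)⟩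
  obtain ⟨r, hr⟩ := E.exists_invol
  obtain ⟨i10, tr⟩ := E.index_trans hr
  have h := B.x3
  set Q := Q₀.map (centralizer {z}).subtype with hQ'
  have gd : Gd3 Q z := ⟨h, (card_map_of_injective (subtype_injective _)).trans hQcard,
    fun g hg q hq => NC.cj_mem (B.nc ⟨g, mem_centralizer_singleton_iff.2 hg⟩) hq,
    fun P hP hc a ha b hb => by
      let a' : centralizer ({z} : Set G) := ⟨a, mem_centralizer_singleton_iff.2 (hc a ha)⟩
      let b' : centralizer ({z} : Set G) := ⟨b, mem_centralizer_singleton_iff.2 (hc b hb)⟩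
      refine ⟨a' * b' * a'⁻¹ * b'⁻¹, (QuotientGroup.eq_one_iff _).1 ?_, rfl⟩
      change QuotientGroup.mk' Q₀ _ = 1
      rw [map_mul, map_mul, map_mul, map_inv, map_inv]
      by_cases h1 : QuotientGroup.mk' Q₀ a' = 1
      · simp [h1]
      obtain ⟨j, hj⟩ : QuotientGroup.mk' Q₀ b' ∈ zpowers (QuotientGroup.mk' Q₀ a') :=
        three P hP _ ⟨a', ha, rfl⟩ h1 ▸ ⟨b', hb, rfl⟩
      rw [← hj]; group⟩
  have wc0 : ∀ q ∈ Q, ZT z q → B.ρ r (B.d.p q) = B.d.p q → q ∈ zpowers z := fun q hq zt e1 => by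
    by_contra hn
    obtain ⟨Q', gd'⟩ := gd.zt zt
    obtain ⟨a, ha, b, hb, e2⟩ := h.nab_cent gd.card hq hn
    have hz' : z ∈ Q' := by
      have := gd'.ab _ (h.isPGroup.to_inf_left (K := centralizer {q}))
        (fun a ha => mem_centralizer_singleton_iff.1 ha.2) a ha b hb
      rcases e2 with e2 | e2 <;> simpa [e2] using this
    obtain ⟨a, ha, b, hb, e2⟩ := gd'.x3.nab_cent gd'.card hz' fun hq' => hn (by
      rw [eq_of_le_of_card_ge (zpowers_le.2 hq') (by rw [h.card_zp, gd'.x3.card_zp])]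
      exact mem_zpowers q)
    have bot := E.eq_bot hr (mt (B.d.zero q hq).1 hn) e1 (p3 _ gd'.x3.isPGroup) (by
      rintro _ ⟨c, hc, rfl⟩
      rw [QuotientGroup.mk'_apply, ← B.act c hq, (gd'.x3.cen c hc).eq, mul_inv_cancel_right]) (by
      rintro g hg _ ⟨c, hc, rfl⟩
      obtain ⟨g, rfl⟩ := QuotientGroup.mk_surjective g
      rw [B.eq, B.d.ρ_fix_iff _ hq] at hg
      obtain ⟨_, ⟨y, hy, rfl⟩, e3⟩ := h.exists_cj_eq hq hn hg
      rw [(h.commute_zp hq hg).eq, inv_mul_cancel_right] at e3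
      refine ⟨(y⁻¹ * g) * c * (y⁻¹ * g)⁻¹, gd'.norm _ ?_ c hc, by
        simp [(QuotientGroup.eq_one_iff y).2 hy]⟩
      change (y : G)⁻¹ * g * q = q * ((y : G)⁻¹ * g)
      calc (y : G)⁻¹ * g * q = (y : G)⁻¹ * (g * q * (g : G)⁻¹) * g := by group
        _ = _ := by rw [← e3, coe_subtype]; group)
    have le : ∀ x ∈ Q' ⊓ centralizer {z}, x ∈ Q := fun x hx =>
      ⟨⟨x, hx.2⟩, (QuotientGroup.eq_one_iff _).1 (bot.le ⟨⟨x, hx.2⟩, hx.1, rfl⟩), rfl⟩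
    have := h.comm a (le a ha) b (le b hb)
    rcases e2 with e2 | e2 <;> exact hn (by simpa [e2] using this)
  obtain ⟨_, r1, rn⟩ := E.ni_ρ hr
  obtain ⟨Q₁, Q₂, e1, hyp, -, m2, -⟩ := B.exists_hyp0 E.inj E.ρ_t hr.2.1 r1 rn
    (by rw [E.card_cent hr]; norm_num) (by rw [i10]; norm_num) (E.stab hr)
    (fun q hq zt => by
      obtain ⟨g, hg⟩ := tr (B.d.p q)
      obtain ⟨g, rfl⟩ := QuotientGroup.mk_surjective g
      have := wc0 _ (NC.cj_mem (B.nc g) hq)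
        (zt.imp (·.trans (isConj_iff.2 ⟨g, rfl⟩)) (·.trans (isConj_iff.2 ⟨g, rfl⟩)))
        (by rw [B.act g hq, hg])
      have e := NC.cj_zp (inv_mem (B.nc g)) this
      rwa [← e, inv_inv, show (g : G)⁻¹ * (g * q * (g : G)⁻¹) * g = q by group] at this)
    (nwc_of hSC (hZ.le (mem_zpowers z)).1 hnwc)
  have cc : Nat.card (centralizer ({z} : Set G)) = 466560 := by
    rw [card_eq_card_quotient_mul_card_subgroup Q₀, E.card_eq, hQcard]; norm_num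
  refine ⟨Q₁, Q₂, e1, hyp, fun q hq _ => ?_, cc⟩
  rw [e1] at hq
  obtain ⟨g, hg⟩ := tr (B.d.p q)
  obtain ⟨g, rfl⟩ := QuotientGroup.mk_surjective g
  exact ⟨g, mem_centralizer_singleton_iff.1 g.2,
    (m2 _).2 ⟨NC.cj_mem (B.nc g) hq, by rw [B.act g hq, hg]⟩⟩

theorem hypB (S : Sylow 3 G) (Z : Subgroup G)
    (hZ : Z = (S : Subgroup G) ⊓ centralizer ((S : Subgroup G) : Set G))
    (C : Subgroup G) (hCZ : C = centralizer (Z : Set G))
    (hQ : IsExtraspecial 3 (pCore 3 C)) (hQcard : Nat.card (pCore 3 C) = 3 ^ 5)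
    (hR : IsExtraspecial 2 (pCore 2 (C ⧸ pCore 3 C)))
    (hRcard : Nat.card (pCore 2 (C ⧸ pCore 3 C)) = 2 ^ 5)
    (e : (C ⧸ pCore 3 C) ⧸ pCore 2 (C ⧸ pCore 3 C) ≃* alternatingGroup (Fin 5))
    (hnwc : ¬ IsWeaklyClosed Z S) :
    ∃ (z : G) (Q₁ Q₂ : Subgroup G), Z = zpowers z ∧ C = centralizer {z} ∧
      Q₁ ⊔ Q₂ = (pCore 3 C).map C.subtype ∧ Hyp0 z Q₁ Q₂ ∧ Trans z Q₁ Q₂ ∧
      Nat.card C = 466560 ∧ ¬ 3 ^ 7 ∣ Nat.card (centralizer ({z} : Set G)) := by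
  haveI : Fact (Nat.Prime 3) := ⟨by norm_num⟩
  have hZS : Z ≤ S := hZ ▸ inf_le_left
  have hSC : (S : Subgroup G) ≤ C := hCZ ▸ fun s hs y hy => ((hZ ▸ hy : y ∈ _ ⊓ _).2 s hs).symm
  have hZC : Z ≤ C := hZS.trans hSC
  have hc : ∀ c : C, ∀ y ∈ Z, Commute (c : G) y := fun c y hy => ((hCZ.le c.2) y hy).symm
  have hZQ : Z.subgroupOf C ≤ pCore 3 C := le_sSup ⟨⟨fun n hn g => by
    rw [mem_subgroupOf] at hn ⊢
    simpa [(hc g n hn).eq] using hn⟩, (S.isPGroup'.to_le hZS).comap_subtype⟩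
  obtain ⟨⟨z, hzZ⟩, z1⟩ := ne_bot_iff_exists_ne_one.1 fun h : Z = ⊥ =>
    hnwc ⟨hZS, fun g _ => by simp [h]⟩
  have x0 : X3 (pCore 3 C) ⟨z, hZC hzZ⟩ := X3.of_isExtraspecial hQ (hZQ hzZ)
    (fun h => z1 (Subtype.ext (congrArg Subtype.val h :))) fun q _ => Subtype.ext (hc q z hzZ)
  have hz : orderOf z = 3 := by rw [← x0.ord, ← orderOf_coe]
  obtain rfl : Z = zpowers z := le_antisymm (fun y hy => by
    obtain ⟨k, hk⟩ := x0.nd ⟨y, hZC hy⟩ (hZQ hy) fun b _ => Subtype.ext (hc b y hy).symm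
    exact ⟨k, congrArg Subtype.val hk⟩) (zpowers_le.2 hzZ)
  obtain rfl : C = centralizer {z} := by rw [hCZ, zpowers_eq_closure, centralizer_closure]
  obtain ⟨B⟩ := exists_bar hz hQ hQcard x0.mem
  obtain ⟨t, ht⟩ := exists_XS hR
  obtain ⟨Q₁, Q₂, e1, hyp, tr, cc⟩ := hypB_core S hZ hSC B hQcard ht hRcard
    (φ := e.toMonoidHom.comp (QuotientGroup.mk' _))
    (e.surjective.comp (QuotientGroup.mk'_surjective _)) (by ext x; simp) hZQ hnwc
  exact ⟨z, Q₁, Q₂, rfl, rfl, e1, hyp, tr, cc, by rw [cc]; norm_num⟩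

end Cfsg.Agent.H23
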